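import Mathlib

/-!
# An automorphism group of an abelian group whose point stabilisers have order at most two
-/

set_option autoImplicit false
set_option linter.style.haveILetI false
set_option linter.unusedSectionVars false

namespace Cfsg.Agent.Invol.ThreeTI

open Subgroup

universe u

variable {R : Type u} [CommGroup R]

/-- The fixed points of an automorphism. -/
def fixS (w : MulAut R) : Subgroup R where
  carrier := {a | w a = a}
  one_mem' := map_one w
  mul_mem' := fun {a b} (ha : w a = a) (hb : w b = b) => show w (a * b) = a * b by rw [map_mul, ha, hb]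
  inv_mem' := fun {a} (ha : w a = a) => show w a⁻¹ = a⁻¹ by rw [map_inv, ha]

theorem mem_fixS {w : MulAut R} {a : R} : a ∈ fixS w ↔ w a = a := Iff.rfl

/-- The hypotheses on the action. -/
structure WData (W : Subgroup (MulAut R)) (ρ0 : ℕ) (y : R) (τ : MulAut R) : Prop where
  y1 : y ≠ 1
  odd : Odd (Nat.card R)
  τW : τ ∈ W
  τ2 : orderOf τ = 2
  τy : τ y = y
  fixτ : Nat.card ↥(fixS τ) = ρ0
  stab : ∀ a : R, a ≠ 1 → ∀ w ∈ W, w ≠ 1 → w a = a →
    (∀ w' ∈ W, w' ≠ 1 → w' a = a → w' = w) ∧ ∃ v ∈ W, v y = a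
  free : ∀ a b : R, a ≠ 1 → b ≠ 1 → (∀ w ∈ W, w a = a → w = 1) → (∀ w ∈ W, w b = b → w = 1) →
    ∃ v ∈ W, v a = b
  fix : ∀ w ∈ W, orderOf w = 2 → Nat.card ↥(fixS w) = ρ0 ∨ ∀ a, w a = a⁻¹
  noneg : ∀ p : ℕ, p.Prime → p ≠ 2 → p ∣ Nat.card W → Nat.Coprime p (Nat.card R) →
    ∀ w ∈ W, (∀ a, w a = a⁻¹) → False

theorem apply_apply {w : MulAut R} (hw : orderOf w = 2) (a : R) : w (w a) = a := by
  rw [← MulAut.mul_apply, ← pow_two, ← hw, pow_orderOf_eq_one, MulAut.one_apply]

theorem eq_one_of_mul_self (hodd : Odd (Nat.card R)) {a : R} (ha : a * a = 1) : a = 1 := by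
  have h1 : orderOf a ∣ 2 := orderOf_dvd_of_pow_eq_one (by rw [pow_two, ha])
  exact orderOf_eq_one_iff.1 (Nat.eq_one_of_dvd_coprimes (Nat.coprime_two_right.2 hodd)
    (orderOf_dvd_natCard a) h1)

variable [Finite R]

/-- An orbit of a subgroup in which a point has stabiliser of order two. -/
theorem orbit_count {V : Subgroup (MulAut R)} {a : R} {w : MulAut R} (hw : w ∈ V) (hw2 : orderOf w = 2)
    (ha : w a = a) (hu : ∀ v ∈ V, v ≠ 1 → v a = a → v = w) :
    {b | ∃ v ∈ V, v a = b}.ncard * 2 = Nat.card V := by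
  have hs : MulAction.stabilizer V a = zpowers (⟨w, hw⟩ : V) := by
    refine le_antisymm (fun v hv => ?_) (zpowers_le.2 (MulAction.mem_stabilizer_iff.2 ha))
    by_cases hv1 : v = 1
    · rw [hv1]
      exact one_mem _
    · rw [show v = ⟨w, hw⟩ from Subtype.ext
        (hu v v.2 (fun e => hv1 (Subtype.ext e)) (MulAction.mem_stabilizer_iff.1 hv))]
      exact mem_zpowers _
  have ho : MulAction.orbit V a = {b | ∃ v ∈ V, v a = b} := by
    ext b
    constructor
    · rintro ⟨v, rfl⟩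
      exact ⟨v, v.2, rfl⟩
    · rintro ⟨v, hv, rfl⟩
      exact ⟨⟨v, hv⟩, rfl⟩
  rw [← ho, ← MulAction.index_stabilizer, ← (MulAction.stabilizer V a).index_mul_card]
  congr 1
  rw [hs, Nat.card_zpowers, Subgroup.orderOf_mk, hw2]

/-- A regular orbit. -/
theorem orbit_count_free {V : Subgroup (MulAut R)} {a : R} (hu : ∀ v ∈ V, v a = a → v = 1) :
    {b | ∃ v ∈ V, v a = b}.ncard = Nat.card V := by
  have e : {b | ∃ v ∈ V, v a = b} = Set.range fun v : V => (v : MulAut R) a := by
    ext b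
    exact ⟨fun ⟨v, hv, h⟩ => ⟨⟨v, hv⟩, h⟩, fun ⟨v, h⟩ => ⟨v, v.2, h⟩⟩
  rw [e, Set.ncard_range_of_injective]
  intro v v' h
  have h' : ((v' : MulAut R)⁻¹ * v) a = a := by
    rw [MulAut.mul_apply, show (v : MulAut R) a = (v' : MulAut R) a from h, MulAut.inv_apply,
      MulEquiv.symm_apply_apply]
  exact Subtype.ext (inv_mul_eq_one.1 (hu _ (V.mul_mem (V.inv_mem v'.2) v.2) h')).symm

omit [Finite R] in
theorem inv_of_fix {u v : MulAut R} (hu : orderOf u = 2) (hc : u * v = v * u) (hi : fixS u ⊓ fixS v = ⊥) {b : R}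
    (hb : v b = b) : u b = b⁻¹ := by
  have hm : b * u b ∈ fixS u ⊓ fixS v := by
    refine ⟨?_, ?_⟩
    · show u (b * u b) = b * u b
      rw [map_mul, apply_apply hu, mul_comm]
    · show v (b * u b) = b * u b
      rw [map_mul, ← MulAut.mul_apply, ← hc, MulAut.mul_apply, hb]
  rw [hi, Subgroup.mem_bot] at hm
  exact eq_inv_of_mul_eq_one_right hm

/-- Two involutions without common fixed or inverted points. -/
theorem prod_two (hodd : Odd (Nat.card R)) {u v : MulAut R} (hu : orderOf u = 2) (hv : orderOf v = 2)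
    (hi : fixS u ⊓ fixS v = ⊥) (hn : ∀ a, u a = a⁻¹ → v a = a⁻¹ → a = 1) :
    Nat.card R = Nat.card ↥(fixS u) * Nat.card ↥(fixS v) := by
  rw [← Nat.card_prod]
  let F : ↥(fixS u) × ↥(fixS v) →* R :=
    MonoidHom.coprod (fixS u).subtype (fixS v).subtype
  have hfix : ∀ (w : MulAut R), orderOf w = 2 → ∀ a, a * w a ∈ fixS w := fun w hw a => by
    show w (a * w a) = a * w a
    rw [map_mul, apply_apply hw, mul_comm]
  let K : R → ↥(fixS u) × ↥(fixS v) := fun a => (⟨_, hfix u hu a⟩, ⟨_, hfix v hv a⟩)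
  refine le_antisymm (Nat.card_le_card_of_injective K ?_) (Nat.card_le_card_of_injective F ?_)
  · intro a b e
    have e1 : a * u a = b * u b := congrArg Subtype.val (congrArg Prod.fst e :)
    have e2 : a * v a = b * v b := congrArg Subtype.val (congrArg Prod.snd e :)
    refine inv_mul_eq_one.1 (hn _ ?_ ?_) |>.symm
    · rw [map_mul, map_inv]
      apply eq_inv_of_mul_eq_one_right
      calc b⁻¹ * a * ((u b)⁻¹ * u a) = (b * u b)⁻¹ * (a * u a) := by rw [mul_inv_rev]; ac_rfl
        _ = 1 := by rw [e1, inv_mul_cancel]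
    · rw [map_mul, map_inv]
      apply eq_inv_of_mul_eq_one_right
      calc b⁻¹ * a * ((v b)⁻¹ * v a) = (b * v b)⁻¹ * (a * v a) := by rw [mul_inv_rev]; ac_rfl
        _ = 1 := by rw [e2, inv_mul_cancel]
  · refine (injective_iff_map_eq_one F).2 ?_
    rintro ⟨⟨a, ha⟩, ⟨b, hb⟩⟩ h
    have h' : a * b = 1 := h
    have hab : a = b⁻¹ := eq_inv_of_mul_eq_one_left h'
    have ha' : a ∈ fixS u ⊓ fixS v := ⟨ha, hab ▸ (fixS v).inv_mem hb⟩
    rw [hi, Subgroup.mem_bot] at ha'
    have hb' : b = 1 := inv_eq_one.1 (hab ▸ ha')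
    subst ha'
    subst hb'
    rfl

/-- Two commuting involutions without common fixed points. -/
theorem prod_three (hodd : Odd (Nat.card R)) {u v : MulAut R} (hu : orderOf u = 2) (hv : orderOf v = 2)
    (hc : u * v = v * u) (hi : fixS u ⊓ fixS v = ⊥) :
    Nat.card R = Nat.card ↥(fixS u) * Nat.card ↥(fixS v) * Nat.card ↥(fixS (u * v)) := by
  rw [← Nat.card_prod, ← Nat.card_prod]
  obtain ⟨w, hw⟩ : ∃ w, w = u * v := ⟨_, rfl⟩
  rw [← hw]
  have huw : u * w = w * u := by rw [hw, mul_assoc u v u, ← hc]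
  have hvw : v * w = w * v := by rw [hw, ← mul_assoc, ← hc]
  have huw' : fixS u ⊓ fixS w = ⊥ := by
    rw [eq_bot_iff]
    rintro a ⟨ha, hwa⟩
    rw [← hi]
    refine ⟨ha, ?_⟩
    have hwa' : w a = a := hwa
    rw [hw, MulAut.mul_apply] at hwa'
    show v a = a
    have := congrArg u hwa'
    rwa [apply_apply hu, (show u a = a from ha)] at this
  have hvw' : fixS v ⊓ fixS w = ⊥ := by
    rw [eq_bot_iff]
    rintro a ⟨ha, hwa⟩
    rw [← hi]
    refine ⟨?_, ha⟩
    have hwa' : w a = a := hwa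
    rw [hw, MulAut.mul_apply, (show v a = a from ha)] at hwa'
    exact hwa'
  have hfix : ∀ x : MulAut R, (∀ a, x (x a) = a) → ∀ a, a * x a ∈ fixS x := fun x hx a => by
    show x (a * x a) = a * x a
    rw [map_mul, hx, mul_comm]
  have hww : ∀ a, w (w a) = a := fun a => by
    have e : v (u (v a)) = u (v (v a)) := by
      show (v * u) (v a) = (u * v) (v a)
      rw [hc]
    rw [hw, MulAut.mul_apply, MulAut.mul_apply, e, apply_apply hu, apply_apply hv]
  let F : (↥(fixS u) × ↥(fixS v)) × ↥(fixS w) →* R :=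
    MonoidHom.coprod (MonoidHom.coprod (fixS u).subtype (fixS v).subtype) (fixS w).subtype
  let K : R → (↥(fixS u) × ↥(fixS v)) × ↥(fixS w) := fun a =>
    ((⟨_, hfix u (apply_apply hu) a⟩, ⟨_, hfix v (apply_apply hv) a⟩), ⟨_, hfix w hww a⟩)
  refine le_antisymm (Nat.card_le_card_of_injective K ?_) (Nat.card_le_card_of_injective F ?_)
  · intro a b e
    have e1 : a * u a = b * u b := congrArg Subtype.val (congrArg Prod.fst (congrArg Prod.fst e :) :)
    have e2 : a * v a = b * v b := congrArg Subtype.val (congrArg Prod.snd (congrArg Prod.fst e :) :)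
    have e3 : a * w a = b * w b := congrArg Subtype.val (congrArg Prod.snd e :)
    have key : ∀ (x : MulAut R), a * x a = b * x b → x (b⁻¹ * a) = (b⁻¹ * a)⁻¹ := fun x hx => by
      rw [map_mul, map_inv]
      apply eq_inv_of_mul_eq_one_right
      calc b⁻¹ * a * ((x b)⁻¹ * x a) = (b * x b)⁻¹ * (a * x a) := by rw [mul_inv_rev]; ac_rfl
        _ = 1 := by rw [hx, inv_mul_cancel]
    have hz : w (b⁻¹ * a) = b⁻¹ * a := by
      rw [hw, MulAut.mul_apply, key v e2, map_inv, key u e1, inv_inv]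
    refine (inv_mul_eq_one.1 (eq_one_of_mul_self hodd ?_)).symm
    nth_rewrite 1 [← hz]
    rw [key w e3, inv_mul_cancel]
  · refine (injective_iff_map_eq_one F).2 ?_
    rintro ⟨⟨⟨a, ha⟩, ⟨b, hb⟩⟩, ⟨c, hcm⟩⟩ h
    have h' : a * b * c = 1 := h
    have hua := congrArg u h'
    rw [map_mul, map_mul, map_one, (show u a = a from ha), inv_of_fix hu hc hi hb,
      inv_of_fix hu huw huw' hcm] at hua
    have ha1 : a = 1 := by
      refine eq_one_of_mul_self hodd ?_
      calc a * a = (a * b * c) * (a * b⁻¹ * c⁻¹) * ((b * b⁻¹) * (c * c⁻¹))⁻¹ := by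
            simp only [mul_inv_cancel, mul_one, inv_one]
            calc a * a = a * a * ((b * b⁻¹) * (c * c⁻¹)) := by simp
              _ = _ := by ac_rfl
        _ = 1 := by rw [h', hua]; simp
    subst ha1
    rw [one_mul] at h'
    have hvb := congrArg v h'
    rw [map_mul, map_one, (show v b = b from hb), inv_of_fix hv hvw hvw' hcm] at hvb
    have hc1 : c = 1 := by
      refine eq_one_of_mul_self hodd ?_
      calc c * c = (b * c) * (b * c⁻¹)⁻¹ := by rw [mul_inv_rev, inv_inv]; simp [mul_comm, mul_left_comm]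
        _ = 1 := by rw [h', hvb]; simp
    subst hc1
    rw [mul_one] at h'
    subst h'
    rfl

/-- A normaliser of a Sylow subgroup of prime order cannot have order divisible by eight. -/
theorem no_eight {W : Type u} [Group W] [Finite W] {p c : ℕ} [Fact p.Prime] (P : Sylow p W)
    (hP : Nat.card ↥(P : Subgroup W) = p)
    (hc : ∀ ω : W, orderOf ω = 2 → Nat.card ↥(centralizer ({ω} : Set W)) = c) (hpc : ¬ p ∣ c)
    (h8 : ¬ 8 ∣ p - 1) : ¬ 8 ∣ Nat.card ↥(normalizer ((P : Subgroup W) : Set W)) := by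
  intro hd
  haveI : Fact (Nat.Prime 2) := ⟨Nat.prime_two⟩
  set N := normalizer ((P : Subgroup W) : Set W) with hN
  set PN := (P : Subgroup W).subgroupOf N with hPN
  haveI : PN.Normal := Subgroup.normal_in_normalizer
  have hPNc : Nat.card ↥PN = p := by
    rw [hPN, Nat.card_congr (subgroupOfEquivOfLe (le_normalizer : (P : Subgroup W) ≤ N)).toEquiv, hP]
  haveI : IsCyclic ↥PN := isCyclic_of_prime_card hPNc
  obtain ⟨S⟩ := (inferInstance : Nonempty (Sylow 2 ↥N))
  have hS8 : 8 ∣ Nat.card ↥(S : Subgroup ↥N) :=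
    (show 8 = 2 ^ 3 by norm_num) ▸ S.pow_dvd_card_of_pow_dvd_card ((show 8 = 2 ^ 3 by norm_num) ▸ hd)
  let φ : ↥(S : Subgroup ↥N) →* MulAut ↥PN := MulAut.conjNormal.comp (S : Subgroup ↥N).subtype
  have hinj : Function.Injective φ := by
    rw [← MonoidHom.ker_eq_bot_iff]
    by_contra hk
    haveI : Nontrivial ↥φ.ker := (Subgroup.nontrivial_iff_ne_bot _).2 hk
    obtain ⟨n, hn, hcard⟩ := (S.isPGroup'.to_subgroup φ.ker).nontrivial_iff_card.1 inferInstance
    obtain ⟨s, hs⟩ := exists_prime_orderOf_dvd_card' (G := ↥φ.ker) 2 (hcard ▸ dvd_pow_self 2 (by omega))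
    set ω : W := (((s : ↥(S : Subgroup ↥N)) : ↥N) : W) with hω
    have hω2 : orderOf ω = 2 := by rw [hω, Subgroup.orderOf_coe, Subgroup.orderOf_coe, Subgroup.orderOf_coe, hs]
    apply hpc
    rw [← hc ω hω2, ← hP]
    refine Subgroup.card_dvd_of_le fun a ha => mem_centralizer_singleton_iff.2 ?_
    have hs1 : φ (s : ↥(S : Subgroup ↥N)) = 1 := MonoidHom.mem_ker.1 s.2
    have e := congrArg (fun q : MulAut ↥PN =>
      (((q ⟨⟨a, le_normalizer ha⟩, mem_subgroupOf.2 ha⟩ : ↥PN) : ↥N) : W)) hs1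
    have e' : ω * a * ω⁻¹ = a := e
    exact (mul_inv_eq_iff_eq_mul.1 e').symm
  have hd' : Nat.card ↥(S : Subgroup ↥N) ∣ Nat.card (MulAut ↥PN) := Subgroup.card_dvd_of_injective φ hinj
  rw [Nat.card_congr (IsCyclic.mulAutMulEquiv ↥PN).toEquiv, hPNc, Nat.card_eq_fintype_card (α := (ZMod p)ˣ), ZMod.card_units] at hd'
  exact h8 (hS8.trans hd')

variable {W : Subgroup (MulAut R)} {ρ0 : ℕ} {y : R} {τ : MulAut R}

theorem WData.mul_self (D : WData W ρ0 y τ) {w : MulAut R} (hw : w ∈ W) {a : R} (ha : a ≠ 1) (hwa : w a = a) :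
    w * w = 1 := by
  by_contra h
  have hw1 : w ≠ 1 := fun e => h (by rw [e, one_mul])
  have hww : (w * w) a = a := by rw [MulAut.mul_apply, hwa, hwa]
  exact hw1 (mul_eq_left.1 ((D.stab a ha w hw hw1 hwa).1 _ (W.mul_mem hw hw) h hww))

theorem WData.order_two (D : WData W ρ0 y τ) {w : MulAut R} (hw : w ∈ W) (hw1 : w ≠ 1) {a : R} (ha : a ≠ 1)
    (hwa : w a = a) : orderOf w = 2 := by
  haveI : Fact (Nat.Prime 2) := ⟨Nat.prime_two⟩
  exact orderOf_eq_prime (by rw [pow_two, D.mul_self hw ha hwa]) hw1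

theorem WData.card_fix_neg (D : WData W ρ0 y τ) {w : MulAut R} (h : ∀ a, w a = a⁻¹) :
    Nat.card ↥(fixS w) = 1 := by
  rw [Subgroup.card_eq_one, Subgroup.eq_bot_iff_forall]
  intro a ha
  have ha' : w a = a := ha
  rw [h a] at ha'
  refine eq_one_of_mul_self D.odd ?_
  nth_rewrite 1 [← ha']
  exact inv_mul_cancel a

/-- The fixed points of an involution, outside one, form one orbit of its centraliser. -/
theorem WData.orbit_fix (D : WData W ρ0 y τ) {w : MulAut R} (hw : w ∈ W) (hw2 : orderOf w = 2) {a : R}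
    (ha : a ≠ 1) (hwa : w a = a) {V : Subgroup (MulAut R)}
    (hV : ∀ v, v ∈ V ↔ v ∈ W ∧ v * w = w * v) :
    Nat.card V = (Nat.card ↥(fixS w) - 1) * 2 := by
  have hw1 : w ≠ 1 := fun e => by rw [e, orderOf_one] at hw2; omega
  obtain ⟨hu, u, huW, hua⟩ := D.stab a ha w hw hw1 hwa
  rw [← orbit_count ((hV w).2 ⟨hw, rfl⟩) hw2 hwa fun v hv => hu v ((hV v).1 hv).1]
  congr 1
  have e : {b | ∃ v ∈ V, v a = b} = (fixS w : Set R) \ {1} := by
    ext b
    constructor
    · rintro ⟨v, hv, rfl⟩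
      refine ⟨?_, fun e => ha (by simpa using (Set.mem_singleton_iff.1 e))⟩
      show w (v a) = v a
      rw [← MulAut.mul_apply, ← ((hV v).1 hv).2, MulAut.mul_apply, hwa]
    · rintro ⟨hb, hb1⟩
      have hb1' : b ≠ 1 := fun e => hb1 e
      obtain ⟨hu', u', hu'W, hu'b⟩ := D.stab b hb1' w hw hw1 hb
      set v := u' * u⁻¹ with hv
      have hvW : v ∈ W := W.mul_mem hu'W (W.inv_mem huW)
      have hva : v a = b := by
        rw [hv, MulAut.mul_apply, ← hua, MulAut.inv_apply, MulEquiv.symm_apply_apply, hu'b]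
      have hconj : v * w * v⁻¹ = w := by
        refine hu' _ (W.mul_mem (W.mul_mem hvW hw) (W.inv_mem hvW)) (fun e => hw1 (conj_eq_one_iff.1 e)) ?_
        rw [MulAut.mul_apply, MulAut.mul_apply, ← hva, MulAut.inv_apply, MulEquiv.symm_apply_apply, hwa]
      exact ⟨v, (hV v).2 ⟨hvW, mul_inv_eq_iff_eq_mul.1 hconj⟩, hva⟩
  rw [e, Set.ncard_sdiff_singleton_of_mem (one_mem (fixS w)), ← Nat.card_coe_set_eq]
  rfl

/-- The count of the points. -/
theorem WData.count (D : WData W ρ0 y τ) :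
    (Nat.card R - 1) * 2 = Nat.card W ∨ (Nat.card R - 1) * 2 = 3 * Nat.card W := by
  have hτ1 : τ ≠ 1 := fun e => by have := D.τ2; rw [e, orderOf_one] at this; omega
  have h1 := orbit_count D.τW D.τ2 D.τy (D.stab y D.y1 τ D.τW hτ1 D.τy).1
  have hne1 : ∀ {a : R}, a ≠ 1 → ∀ {b}, b ∈ {b | ∃ v ∈ W, v a = b} → b ≠ 1 := by
    rintro a ha b ⟨v, -, rfl⟩ e
    exact ha (by simpa using e)
  have hfree : ∀ a : R, a ≠ 1 → a ∉ {b | ∃ v ∈ W, v y = b} → ∀ w ∈ W, w a = a → w = 1 := fun a ha hn w hw hwa =>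
    by_contra fun hw1 => hn (D.stab a ha w hw hw1 hwa).2
  have hc : Nat.card R - 1 = ({(1 : R)}ᶜ : Set R).ncard := by
    rw [Set.ncard_compl, Set.ncard_singleton]
  rw [hc]
  by_cases hall : ∀ a : R, a ≠ 1 → a ∈ {b | ∃ v ∈ W, v y = b}
  · left
    rw [show ({(1 : R)}ᶜ : Set R) = {b | ∃ v ∈ W, v y = b} from
      Set.ext fun a => ⟨fun ha => hall a ha, fun ha => hne1 D.y1 ha⟩, h1]
  · right
    push Not at hall
    obtain ⟨a, ha, han⟩ := hall
    have hdis : Disjoint {b | ∃ v ∈ W, v y = b} {b | ∃ v ∈ W, v a = b} := by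
      rw [Set.disjoint_left]
      rintro b ⟨v, hv, rfl⟩ ⟨v', hv', e⟩
      refine han ⟨v'⁻¹ * v, W.mul_mem (W.inv_mem hv') hv, ?_⟩
      rw [MulAut.mul_apply, ← e, MulAut.inv_apply, MulEquiv.symm_apply_apply]
    rw [show ({(1 : R)}ᶜ : Set R) = {b | ∃ v ∈ W, v y = b} ∪ {b | ∃ v ∈ W, v a = b} from ?_,
      Set.ncard_union_eq hdis, add_mul, h1, orbit_count_free (hfree a ha han)]
    · ring
    · ext b
      refine ⟨fun hb => ?_, fun hb => hb.elim (fun h => hne1 D.y1 h) (fun h => hne1 ha h)⟩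
      by_cases hbn : b ∈ {b | ∃ v ∈ W, v y = b}
      · exact Or.inl hbn
      · exact Or.inr (D.free a b ha hb (hfree a ha han) (hfree b hb hbn))

/-- Only the smallest case of the action remains. -/
theorem WData.result (D : WData W ρ0 y τ) {r k : ℕ} (h0 : r = 5 ∧ ρ0 = 5 ∨ r = 3 ∧ ρ0 = 9)
    (hR : Nat.card R = r ^ k) (hd : ρ0 ∣ Nat.card R) (hlt : ρ0 < Nat.card R) :
    ρ0 = 5 ∧ Nat.card R = 25 := by
  have hτ1 : τ ≠ 1 := fun e => by have := D.τ2; rw [e, orderOf_one] at this; omega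
  have hcount := D.count
  by_cases huni : ∀ w ∈ W, orderOf w = 2 → w = τ
  · exfalso
    have hcen : ∀ v, v ∈ W ↔ v ∈ W ∧ v * τ = τ * v := fun v => ⟨fun hv => ⟨hv, by
      have e : v * τ * v⁻¹ = τ := huni _ (W.mul_mem (W.mul_mem hv D.τW) (W.inv_mem hv))
        (by rw [← MulAut.conj_apply, MulEquiv.orderOf_eq, D.τ2])
      exact mul_inv_eq_iff_eq_mul.1 e⟩, And.left⟩
    have hW := D.orbit_fix D.τW D.τ2 D.y1 D.τy hcen
    rw [D.fixτ] at hW
    obtain ⟨m, hm⟩ := hd
    rcases h0 with ⟨-, rfl⟩ | ⟨-, rfl⟩ <;> omega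
  · push Not at huni
    obtain ⟨v, hv, hv2, hvτ⟩ := huni
    have hv1 : v ≠ 1 := fun e => by rw [e, orderOf_one] at hv2; omega
    have hi : fixS τ ⊓ fixS v = ⊥ := by
      rw [Subgroup.eq_bot_iff_forall]
      rintro a ⟨ha, hva⟩
      by_contra ha1
      exact hvτ ((D.stab a ha1 τ D.τW hτ1 ha).1 v hv hv1 hva)
    have hval : ∀ w ∈ W, orderOf w = 2 → Nat.card ↥(fixS w) = ρ0 ∨ Nat.card ↥(fixS w) = 1 :=
      fun w hw hw2 => (D.fix w hw hw2).imp_right D.card_fix_neg
    have hcard : Nat.card R = ρ0 * ρ0 ∨ Nat.card R = ρ0 * ρ0 * ρ0 := by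
      by_cases hc : τ * v = v * τ
      · have e := prod_three D.odd D.τ2 hv2 hc hi
        have hw2 : orderOf (τ * v) = 2 := by
          haveI : Fact (Nat.Prime 2) := ⟨Nat.prime_two⟩
          refine orderOf_eq_prime ?_ fun h => hvτ ?_
          · rw [(show Commute τ v from hc).mul_pow, ← D.τ2, pow_orderOf_eq_one, D.τ2, ← hv2, pow_orderOf_eq_one,
              one_mul]
          · rw [eq_inv_of_mul_eq_one_right h]
            exact inv_eq_of_mul_eq_one_right (by rw [← pow_two, ← D.τ2, pow_orderOf_eq_one])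
        rw [D.fixτ] at e
        rcases hval v hv hv2 with e1 | e1 <;> rcases hval _ (W.mul_mem D.τW hv) hw2 with e2 | e2 <;>
          simp only [e1, e2, mul_one] at e <;> first | exact Or.inl e | exact Or.inr e | omega
      · left
        have hd2 : ∀ a, (τ * v) a = a → a = 1 := by
          intro a ha
          by_contra ha1
          have e := D.mul_self (W.mul_mem D.τW hv) ha1 ha
          apply hc
          calc τ * v = (τ * v)⁻¹ := eq_inv_of_mul_eq_one_left e
            _ = v⁻¹ * τ⁻¹ := mul_inv_rev _ _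
            _ = v * τ := by
              rw [inv_eq_of_mul_eq_one_right (by rw [← pow_two, ← hv2, pow_orderOf_eq_one]),
                inv_eq_of_mul_eq_one_right (by rw [← pow_two, ← D.τ2, pow_orderOf_eq_one])]
        rw [prod_two D.odd D.τ2 hv2 hi fun a h1 h2 => hd2 a (by rw [MulAut.mul_apply, h2, map_inv, h1, inv_inv]),
          D.fixτ]
        rcases D.fix v hv hv2 with e | e
        · rw [e]
        · refine absurd (MulEquiv.ext fun a => ?_) hc
          rw [MulAut.mul_apply, MulAut.mul_apply, e, e, map_inv]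
    by_cases h25 : ρ0 = 5 ∧ Nat.card R = 25
    · exact h25
    exfalso
    obtain ⟨p, hp, hp2, hpW, hpR, hsz⟩ : ∃ p, p.Prime ∧ p ≠ 2 ∧ p ∣ Nat.card W ∧ Nat.Coprime p (Nat.card R) ∧
        (p = 5 ∧ ρ0 = 9 ∧ Nat.card W = 160 ∨ p = 13 ∧ ρ0 = 9 ∧ Nat.card W = 1456 ∨
          p = 31 ∧ ρ0 = 5 ∧ Nat.card W = 248) := by
      rcases h0 with ⟨-, e0⟩ | ⟨-, e0⟩ <;> subst e0 <;> rcases hcard with e | e <;> norm_num at e <;>
        rw [e] at hcount ⊢
      · exact absurd ⟨rfl, e⟩ h25
      · have eW : Nat.card W = 248 := by omega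
        exact ⟨31, by norm_num, by norm_num, by rw [eW]; norm_num, by norm_num,
          Or.inr (Or.inr ⟨rfl, rfl, eW⟩)⟩
      · have eW : Nat.card W = 160 := by omega
        exact ⟨5, by norm_num, by norm_num, by rw [eW]; norm_num, by norm_num, Or.inl ⟨rfl, rfl, eW⟩⟩
      · have eW : Nat.card W = 1456 := by omega
        exact ⟨13, by norm_num, by norm_num, by rw [eW]; norm_num, by norm_num,
          Or.inr (Or.inl ⟨rfl, rfl, eW⟩)⟩
    have hcent : ∀ ω : W, orderOf ω = 2 → Nat.card ↥(centralizer ({ω} : Set W)) = (ρ0 - 1) * 2 := by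
      intro ω hω
      have hω' : orderOf (ω : MulAut R) = 2 := by rw [Subgroup.orderOf_coe, hω]
      have hf := (D.fix ω ω.2 hω').resolve_right (D.noneg p hp hp2 hpW hpR ω ω.2)
      have h2 : 2 ≤ ρ0 := by rcases h0 with ⟨-, e⟩ | ⟨-, e⟩ <;> omega
      haveI : Nontrivial ↥(fixS (ω : MulAut R)) := Finite.one_lt_card_iff_nontrivial.1 (by omega)
      obtain ⟨a, ha⟩ := exists_ne (1 : ↥(fixS (ω : MulAut R)))
      rw [← Subgroup.card_map_of_injective (f := W.subtype) W.subtype_injective,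
        D.orbit_fix ω.2 hω' (a := a) (fun e => ha (Subtype.ext e)) a.2 ?_, hf]
      intro u
      constructor
      · rintro ⟨u', hu', rfl⟩
        exact ⟨u'.2, congrArg Subtype.val (mem_centralizer_singleton_iff.1 hu')⟩
      · rintro ⟨hu, e⟩
        exact ⟨⟨u, hu⟩, mem_centralizer_singleton_iff.2 (Subtype.ext e), rfl⟩
    haveI : Fact p.Prime := ⟨hp⟩
    haveI : Fact (Nat.Prime 2) := ⟨Nat.prime_two⟩
    obtain ⟨P⟩ := (inferInstance : Nonempty (Sylow p W))
    have hmul := (P : Subgroup W).card_mul_index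
    have hNmul := (normalizer ((P : Subgroup W) : Set W)).card_mul_index
    have hidxN : (normalizer ((P : Subgroup W) : Set W)).index = Nat.card (Sylow p W) :=
      P.card_eq_index_normalizer.symm
    rw [hidxN] at hNmul
    have hn1 := card_sylow_modEq_one p W
    have hn2 := P.card_dvd_index
    rcases hsz with ⟨rfl, rfl, eW⟩ | ⟨rfl, rfl, eW⟩ | ⟨rfl, rfl, eW⟩
    · obtain ⟨S⟩ := (inferInstance : Nonempty (Sylow 2 W))
      have hS : 32 ∣ Nat.card ↥(S : Subgroup W) :=
        (show 32 = 2 ^ 5 by norm_num) ▸ S.pow_dvd_card_of_pow_dvd_card (by rw [eW]; norm_num)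
      haveI : Nontrivial ↥(S : Subgroup W) :=
        Finite.one_lt_card_iff_nontrivial.1 (lt_of_lt_of_le (by norm_num) (Nat.le_of_dvd Nat.card_pos hS))
      haveI := S.isPGroup'.center_nontrivial
      obtain ⟨n, hn, hcn⟩ :=
        (S.isPGroup'.to_subgroup (Subgroup.center ↥(S : Subgroup W))).nontrivial_iff_card.1 inferInstance
      obtain ⟨s, hs⟩ :=
        exists_prime_orderOf_dvd_card' (G := ↥(Subgroup.center ↥(S : Subgroup W))) 2 (hcn ▸ dvd_pow_self 2 (by omega))
      have hle : (S : Subgroup W) ≤ centralizer ({((s : ↥(S : Subgroup W)) : W)} : Set W) := fun x hx =>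
        mem_centralizer_singleton_iff.2 (congrArg Subtype.val (Subgroup.mem_center_iff.1 s.2 ⟨x, hx⟩))
      have := Nat.le_of_dvd (by norm_num) (hS.trans (Subgroup.card_dvd_of_le hle |>.trans
        (dvd_of_eq (hcent _ (by rw [Subgroup.orderOf_coe, Subgroup.orderOf_coe, hs])))))
      omega
    · have hPc : Nat.card ↥(P : Subgroup W) = 13 := by
        rw [P.card_eq_multiplicity, eW, show (1456 : ℕ) = 13 * 112 by norm_num,
          Nat.factorization_mul (by norm_num) (by norm_num), Finsupp.add_apply,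
          Nat.Prime.factorization_self (by norm_num), Nat.factorization_eq_zero_of_not_dvd (by norm_num), pow_one]
      rw [hPc, eW] at hmul
      rw [eW] at hNmul
      refine no_eight P hPc hcent (by norm_num) (by norm_num) ?_
      have hidx : (P : Subgroup W).index = 112 := by omega
      rw [hidx] at hn2
      have hm : Nat.card (Sylow 13 W) % 13 = 1 := hn1
      have hlt := Nat.le_of_dvd (by norm_num) hn2
      have hn : Nat.card (Sylow 13 W) = 1 ∨ Nat.card (Sylow 13 W) = 14 := by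
        revert hn2 hm
        generalize Nat.card (Sylow 13 W) = n at hlt ⊢
        interval_cases n <;> omega
      rcases hn with e | e <;> rw [e] at hNmul <;> omega
    · have hPc : Nat.card ↥(P : Subgroup W) = 31 := by
        rw [P.card_eq_multiplicity, eW, show (248 : ℕ) = 31 * 8 by norm_num,
          Nat.factorization_mul (by norm_num) (by norm_num), Finsupp.add_apply,
          Nat.Prime.factorization_self (by norm_num), Nat.factorization_eq_zero_of_not_dvd (by norm_num), pow_one]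
      rw [hPc, eW] at hmul
      rw [eW] at hNmul
      refine no_eight P hPc hcent (by norm_num) (by norm_num) ?_
      have hidx : (P : Subgroup W).index = 8 := by omega
      rw [hidx] at hn2
      have hm : Nat.card (Sylow 31 W) % 31 = 1 := hn1
      have hlt := Nat.le_of_dvd (by norm_num) hn2
      have hn : Nat.card (Sylow 31 W) = 1 := by
        generalize Nat.card (Sylow 31 W) = n at hm hlt ⊢
        interval_cases n <;> omega
      rw [hn] at hNmul
      omega

end Cfsg.Agent.Invol.ThreeTI
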