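import Mathlib

/-!
# Small arithmetic
-/

set_option autoImplicit false

namespace Cfsg.Agent.Invol.ThreeTI

/-- A proper power one more than a power of two is nine. -/
theorem pow_eq_two_pow_succ {r f k : ℕ} (hr : r.Prime) (hr2 : r ≠ 2) (hf : 2 ≤ f) (h : r ^ f = 2 ^ k + 1) :
    r = 3 ∧ f = 2 := by
  have hodd : r % 2 = 1 := (hr.eq_two_or_odd).resolve_left hr2
  have hr3 : 3 ≤ r := by have := hr.two_le; omega
  rcases Nat.even_or_odd f with ⟨g, rfl⟩ | ho
  · rw [pow_add] at h
    have hg1 : 1 ≤ g := by omega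
    have hrg : r ≤ r ^ g := Nat.le_self_pow (by omega) r
    have hprod : (r ^ g - 1) * (r ^ g + 1) = 2 ^ k := by
      obtain ⟨z, hz⟩ : ∃ z, r ^ g = z + 1 := ⟨r ^ g - 1, by omega⟩
      rw [hz] at h ⊢
      simp only [Nat.add_sub_cancel]
      nlinarith
    obtain ⟨i, -, hi⟩ := (Nat.dvd_prime_pow Nat.prime_two).1 (Dvd.intro _ hprod)
    obtain ⟨j, -, hj⟩ := (Nat.dvd_prime_pow Nat.prime_two).1 (Dvd.intro_left _ hprod)
    have hi2 : i < 2 := by
      by_contra hlt
      have h4 : 4 ∣ 2 ^ i := (show 4 = 2 ^ 2 by norm_num) ▸ Nat.pow_dvd_pow 2 (by omega)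
      have hj2 : 2 ≤ j := by
        by_contra hlt'
        interval_cases j <;> omega
      have h4' : 4 ∣ 2 ^ j := (show 4 = 2 ^ 2 by norm_num) ▸ Nat.pow_dvd_pow 2 hj2
      omega
    have he : r ^ g = 3 := by interval_cases i <;> omega
    rcases Nat.lt_or_ge 1 g with hg | hg
    · have : r ^ 2 ≤ r ^ g := Nat.pow_le_pow_right (by omega) hg
      nlinarith
    · obtain rfl : g = 1 := by omega
      rw [pow_one] at he
      exact ⟨he, rfl⟩
  · exfalso
    set S := ∑ i ∈ Finset.range f, r ^ i with hS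
    have hsum : S * (r - 1) = 2 ^ k := by
      rw [hS, geom_sum_mul_of_one_le (by omega) f, h, Nat.add_sub_cancel]
    have hSodd : Odd S := by
      rw [hS, Finset.odd_sum_iff_odd_card_odd]
      rw [Finset.filter_true_of_mem fun i _ => (Nat.odd_iff.2 hodd).pow, Finset.card_range]
      exact ho
    obtain ⟨i, -, hi⟩ := (Nat.dvd_prime_pow Nat.prime_two).1 (Dvd.intro _ hsum)
    rcases Nat.eq_zero_or_pos i with rfl | hi'
    · rw [pow_zero] at hi
      have h2 : r ^ 0 + r ^ 1 ≤ S := by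
        rw [hS]
        refine le_trans (le_of_eq ?_)
          (Finset.sum_le_sum_of_subset (f := fun i => r ^ i) (Finset.range_subset_range.2 hf))
        simp [Finset.sum_range_succ]
      rw [pow_zero, pow_one] at h2
      omega
    · rw [hi] at hSodd
      exact Nat.not_even_iff_odd.2 hSodd (Nat.even_pow.2 ⟨even_two, by omega⟩)

/-- `3 ^ k + 1` and `5 ^ k + 1` are powers of two only in the smallest cases. -/
theorem two_pow_eq_pow_succ {r k e : ℕ} (hr : r = 3 ∨ r = 5) (h : 2 ^ e = r ^ k + 1) :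
    k = 0 ∨ (r = 3 ∧ k = 1) := by
  have h8 : 3 ≤ e → 8 ∣ 2 ^ e := fun he => (show 8 = 2 ^ 3 by norm_num) ▸ Nat.pow_dvd_pow 2 he
  rcases hr with rfl | rfl
  · have hmod : 3 ^ k % 8 = 1 ∨ 3 ^ k % 8 = 3 := by
      clear h
      induction k with
      | zero => simp
      | succ k ih => rw [pow_succ, Nat.mul_mod]; rcases ih with h | h <;> simp [h]
    rcases Nat.lt_or_ge e 3 with he | he
    · rcases Nat.lt_or_ge k 2 with hk | hk
      · omega
      · have : 3 ^ 2 ≤ 3 ^ k := Nat.pow_le_pow_right (by norm_num) hk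
        interval_cases e <;> omega
    · have := h8 he
      omega
  · have hmod : 5 ^ k % 4 = 1 := by simp [Nat.pow_mod]
    rcases Nat.lt_or_ge e 2 with he | he
    · rcases Nat.eq_zero_or_pos k with hk | hk
      · exact Or.inl hk
      · have : 5 ≤ 5 ^ k := Nat.le_self_pow (by omega) 5
        interval_cases e <;> omega
    · have : 4 ∣ 2 ^ e := (show 4 = 2 ^ 2 by norm_num) ▸ Nat.pow_dvd_pow 2 he
      omega

end Cfsg.Agent.Invol.ThreeTI
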