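import Mathlib

/-!
# Three classes of strongly self-centralising subgroups: local facts

`A 0`, `A 1`, `A 2` are pairwise non-conjugate subgroups equal to the centraliser of each of their
non-identity elements, with normaliser indices `2, 4, 4`. An element is `Out` when it is not the identity
and its order is prime to the three orders.
-/

set_option autoImplicit false
set_option linter.style.haveILetI false

namespace Cfsg.Agent.Invol.ThreeTI

open Subgroup

variable {G : Type*} [Group G]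

/-- The indices of the three subgroups in their normalisers. -/
def ee : Fin 3 → ℕ := ![2, 4, 4]

/-- The product of the three orders. -/
noncomputable def nn (A : Fin 3 → Subgroup G) : ℕ := ∏ i, Nat.card ↥(A i)

/-- A non-identity element of order prime to the three orders. -/
def Out (A : Fin 3 → Subgroup G) (g : G) : Prop := g ≠ 1 ∧ Nat.Coprime (orderOf g) (nn A)

/-- The hypotheses on the three subgroups. -/
structure Hyp (A : Fin 3 → Subgroup G) : Prop where
  sc : ∀ i, ∀ a ∈ A i, a ≠ 1 → centralizer ({a} : Set G) = A i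
  nc : ∀ i j, i ≠ j → ∀ g : G, (A i).map (MulAut.conj g).toMonoidHom ≠ A j
  rel : ∀ i, (A i).relIndex (normalizer (A i : Set G)) = ee i
  five : 5 ≤ Nat.card ↥(A 0)
  six₁ : 5 < Nat.card ↥(A 1)
  six₂ : 5 < Nat.card ↥(A 2)
  ord : Nat.card G ≤ 3 * nn A ^ 2
  abel : ∀ r : ℕ, r.Prime → r ≠ 2 → ¬ r ∣ nn A → ∀ P : Sylow r G, IsMulCommutative ↥(P : Subgroup G)

variable [Finite G] {A : Fin 3 → Subgroup G}

theorem ee_even (i : Fin 3) : 2 ∣ ee i := by fin_cases i <;> simp [ee]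

theorem card_dvd_nn (i : Fin 3) : Nat.card ↥(A i) ∣ nn A := Finset.dvd_prod_of_mem _ (Finset.mem_univ i)

theorem nn_pos : 0 < nn A := Finset.prod_pos fun _ _ => Nat.card_pos

variable (h : Hyp A)
include h

theorem Hyp.five_le (i : Fin 3) : 5 ≤ Nat.card ↥(A i) := by
  fin_cases i
  · exact h.five
  · exact h.six₁.le
  · exact h.six₂.le

theorem Hyp.exists_ne_one (i : Fin 3) : ∃ a ∈ A i, a ≠ 1 := by
  by_contra hc
  push Not at hc
  have hb : A i = ⊥ := (Subgroup.eq_bot_iff_forall _).2 hc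
  have := h.five_le i
  rw [hb, Subgroup.card_bot] at this
  omega

theorem Hyp.mem_of_commute {i : Fin 3} {a g : G} (ha : a ∈ A i) (ha1 : a ≠ 1) (hg : g * a = a * g) :
    g ∈ A i := by
  rw [← h.sc i a ha ha1]
  exact mem_centralizer_singleton_iff.2 hg

theorem Hyp.comm {i : Fin 3} {a b : G} (ha : a ∈ A i) (hb : b ∈ A i) : a * b = b * a := by
  by_cases ha1 : a = 1
  · rw [ha1, one_mul, mul_one]
  have hb' := hb
  rw [← h.sc i a ha ha1] at hb'
  exact (mem_centralizer_singleton_iff.1 hb').symm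

theorem Hyp.mul_eq_conj {i j : Fin 3} {a g : G} (ha : a ∈ A i) (ha1 : a ≠ 1) (hg : g * a * g⁻¹ ∈ A j) :
    (A i).map (MulAut.conj g).toMonoidHom = A j := by
  have hne : g * a * g⁻¹ ≠ 1 := fun e => ha1 (by simpa [mul_inv_eq_one] using e)
  ext x
  constructor
  · rintro ⟨b, hb, rfl⟩
    refine h.mem_of_commute hg hne ?_
    show g * b * g⁻¹ * (g * a * g⁻¹) = g * a * g⁻¹ * (g * b * g⁻¹)
    calc g * b * g⁻¹ * (g * a * g⁻¹) = g * (b * a) * g⁻¹ := by group
      _ = g * (a * b) * g⁻¹ := by rw [h.comm hb ha]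
      _ = _ := by group
  · intro hx
    refine ⟨g⁻¹ * x * g, h.mem_of_commute ha ha1 ?_, by simp [mul_assoc]⟩
    calc g⁻¹ * x * g * a = g⁻¹ * (x * (g * a * g⁻¹)) * g := by group
      _ = g⁻¹ * (g * a * g⁻¹ * x) * g := by rw [h.comm hx hg]
      _ = _ := by group

theorem Hyp.eq_of_conj {i j : Fin 3} {a g : G} (ha : a ∈ A i) (ha1 : a ≠ 1) (hg : g * a * g⁻¹ ∈ A j) :
    i = j :=
  by_contra fun hij => h.nc i j hij g (h.mul_eq_conj ha ha1 hg)

theorem Hyp.mem_normalizer {i : Fin 3} {a g : G} (ha : a ∈ A i) (ha1 : a ≠ 1) (hg : g * a * g⁻¹ ∈ A i) :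
    g ∈ normalizer (A i : Set G) := by
  rw [mem_normalizer_iff]
  intro x
  have he := h.mul_eq_conj ha ha1 hg
  constructor
  · intro hx
    rw [← he]
    exact ⟨x, hx, rfl⟩
  · intro hx
    rw [← he] at hx
    obtain ⟨b, hb, hbx⟩ := hx
    have : b = x := by
      have e : g * b * g⁻¹ = g * x * g⁻¹ := hbx
      simpa using e
    rwa [← this]

omit h in
theorem conj_pow_mem {g c : G} {H : Subgroup G} (hc : c * g * c⁻¹ ∈ H) (k : ℕ) : c * g ^ k * c⁻¹ ∈ H := by
  rw [← conj_pow]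
  exact H.pow_mem hc k

/-- A Sylow subgroup for a prime dividing one of the orders lies in a conjugate of that subgroup. -/
theorem Hyp.sylow_le {i : Fin 3} {p : ℕ} (hp : p.Prime) (hd : p ∣ Nat.card ↥(A i)) (P : Sylow p G) :
    ∃ g : G, ∀ x ∈ (P : Subgroup G), g * x * g⁻¹ ∈ A i := by
  haveI : Fact p.Prime := ⟨hp⟩
  obtain ⟨⟨a, ha⟩, hao⟩ := exists_prime_orderOf_dvd_card' p hd
  have hao' : orderOf a = p := by rw [← hao, Subgroup.orderOf_mk]
  have ha1 : a ≠ 1 := fun e => hp.one_lt.ne' (by rw [← hao', e, orderOf_one])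
  obtain ⟨Q, hQ⟩ := (IsPGroup.of_card (n := 1) (by rw [Nat.card_zpowers, hao', pow_one]) :
    IsPGroup p ↥(zpowers a)).exists_le_sylow
  have haQ : a ∈ (Q : Subgroup G) := hQ (mem_zpowers a)
  haveI : Nontrivial ↥(Q : Subgroup G) := ⟨⟨a, haQ⟩, 1, fun e => ha1 (congrArg Subtype.val e)⟩
  haveI := Q.isPGroup'.center_nontrivial
  obtain ⟨⟨⟨z, hzQ⟩, hzc⟩, hz⟩ := exists_ne (1 : ↥(Subgroup.center ↥(Q : Subgroup G)))
  have hz1 : z ≠ 1 := fun e => hz (Subtype.ext (Subtype.ext e))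
  have hcom : ∀ x ∈ (Q : Subgroup G), x * z = z * x := fun x hx =>
    congrArg Subtype.val (Subgroup.mem_center_iff.1 hzc ⟨x, hx⟩)
  have hzA : z ∈ A i := h.mem_of_commute ha ha1 (hcom a haQ).symm
  obtain ⟨g, hg⟩ := MulAction.exists_smul_eq G P Q
  refine ⟨g, fun x hx => h.mem_of_commute hzA hz1 (hcom _ ?_)⟩
  rw [← hg]
  exact Subgroup.smul_mem_pointwise_smul x (MulAut.conj g) (P : Subgroup G) hx

theorem Hyp.conj_mem_of_dvd {i : Fin 3} {p : ℕ} (hp : p.Prime) (hd : p ∣ Nat.card ↥(A i)) {g : G}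
    (hg : p ∣ orderOf g) : ∃ c : G, c * g * c⁻¹ ∈ A i := by
  haveI : Fact p.Prime := ⟨hp⟩
  set u := g ^ (orderOf g / p) with hu
  have huo : orderOf u = p := orderOf_pow_orderOf_div (orderOf_pos g).ne' hg
  have hu1 : u ≠ 1 := fun e => hp.one_lt.ne' (by rw [← huo, e, orderOf_one])
  obtain ⟨Q, hQ⟩ := (IsPGroup.of_card (n := 1) (by rw [Nat.card_zpowers, huo, pow_one]) :
    IsPGroup p ↥(zpowers u)).exists_le_sylow
  obtain ⟨c, hc⟩ := h.sylow_le hp hd Q
  refine ⟨c, h.mem_of_commute (hc u (hQ (mem_zpowers u))) (fun e => hu1 (by simpa [mul_inv_eq_one] using e)) ?_⟩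
  rw [hu]
  calc c * g * c⁻¹ * (c * g ^ (orderOf g / p) * c⁻¹) = c * (g * g ^ (orderOf g / p)) * c⁻¹ := by group
    _ = c * (g ^ (orderOf g / p) * g) * c⁻¹ := by rw [← pow_succ', pow_succ]
    _ = _ := by group

theorem Hyp.not_dvd_index {i : Fin 3} {p : ℕ} (hp : p.Prime) (hd : p ∣ Nat.card ↥(A i)) :
    ¬ p ∣ (A i).index := by
  haveI : Fact p.Prime := ⟨hp⟩
  intro hdi
  obtain ⟨P⟩ := (inferInstance : Nonempty (Sylow p G))
  obtain ⟨g, hg⟩ := h.sylow_le hp hd P
  have hle : (P : Subgroup G).map (MulAut.conj g).toMonoidHom ≤ A i := by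
    rintro x ⟨y, hy, rfl⟩
    exact hg y hy
  have hcard := Subgroup.card_dvd_of_le hle
  rw [Subgroup.card_map_of_injective (MulAut.conj g).injective, P.card_eq_multiplicity] at hcard
  refine Nat.pow_succ_factorization_not_dvd (Nat.card_pos (α := G)).ne' hp ?_
  rw [pow_succ]
  exact (Nat.mul_dvd_mul hcard hdi).trans (dvd_of_eq (A i).card_mul_index)

theorem Hyp.odd_card (i : Fin 3) : Odd (Nat.card ↥(A i)) := by
  rw [Nat.odd_iff]
  by_contra hne
  refine h.not_dvd_index Nat.prime_two (i := i) (by omega) ?_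
  exact ((ee_even i).trans (h.rel i ▸ dvd_rfl)).trans (Subgroup.relIndex_dvd_index_of_le le_normalizer)

theorem Hyp.coprime {i j : Fin 3} (hij : i ≠ j) : Nat.Coprime (Nat.card ↥(A i)) (Nat.card ↥(A j)) := by
  refine Nat.coprime_of_dvd fun p hp hi hj => ?_
  haveI : Fact p.Prime := ⟨hp⟩
  obtain ⟨⟨a, ha⟩, hao⟩ := exists_prime_orderOf_dvd_card' p hi
  have hao' : orderOf a = p := by rw [← hao, Subgroup.orderOf_mk]
  have ha1 : a ≠ 1 := fun e => hp.one_lt.ne' (by rw [← hao', e, orderOf_one])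
  obtain ⟨c, hc⟩ := h.conj_mem_of_dvd hp hj (g := a) (hao' ▸ dvd_rfl)
  exact hij (h.eq_of_conj ha ha1 hc)

theorem Hyp.not_out {i : Fin 3} {g c : G} (hc : c * g * c⁻¹ ∈ A i) : ¬ Out A g := by
  rintro ⟨hg1, hco⟩
  have ho : orderOf (c * g * c⁻¹) = orderOf g := by
    rw [← MulAut.conj_apply]
    exact MulEquiv.orderOf_eq (MulAut.conj c) g
  have hd : orderOf g ∣ nn A := by
    rw [← ho]
    exact (Subgroup.orderOf_dvd_natCard (A i) hc).trans (card_dvd_nn i)
  exact hg1 (orderOf_eq_one_iff.1 (Nat.Coprime.eq_one_of_dvd hco hd))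

theorem Hyp.out_or {g : G} (hg : g ≠ 1) : Out A g ∨ ∃ i c, c * g * c⁻¹ ∈ A i := by
  by_cases hco : Nat.Coprime (orderOf g) (nn A)
  · exact Or.inl ⟨hg, hco⟩
  obtain ⟨p, hp, hpg, hpn⟩ := Nat.Prime.not_coprime_iff_dvd.1 hco
  obtain ⟨i, -, hi⟩ := (hp.prime.dvd_finsetProd_iff _).1 hpn
  exact Or.inr ⟨i, h.conj_mem_of_dvd hp hi hpg⟩

theorem Hyp.conj_unique {i j : Fin 3} {g c d : G} (hg : g ≠ 1) (hc : c * g * c⁻¹ ∈ A i)
    (hd : d * g * d⁻¹ ∈ A j) : i = j := by
  refine h.eq_of_conj hc (fun e => hg (by simpa [mul_inv_eq_one] using e)) (g := d * c⁻¹) ?_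
  simpa [mul_assoc] using hd

/-- The centraliser of an outside element has order prime to the three orders. -/
theorem Hyp.cent_coprime {g : G} (hg : Out A g) :
    Nat.Coprime (Nat.card ↥(centralizer ({g} : Set G))) (nn A) := by
  refine Nat.coprime_of_dvd fun p hp hpc hpn => ?_
  haveI : Fact p.Prime := ⟨hp⟩
  obtain ⟨i, -, hi⟩ := (hp.prime.dvd_finsetProd_iff _).1 hpn
  obtain ⟨⟨u, hu⟩, huo⟩ := exists_prime_orderOf_dvd_card' p hpc
  have huo' : orderOf u = p := by rw [← huo, Subgroup.orderOf_mk]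
  have hu1 : u ≠ 1 := fun e => hp.one_lt.ne' (by rw [← huo', e, orderOf_one])
  obtain ⟨c, hc⟩ := h.conj_mem_of_dvd hp hi (g := u) (huo' ▸ dvd_rfl)
  refine h.not_out (c := c) (h.mem_of_commute hc (fun e => hu1 (by simpa [mul_inv_eq_one] using e)) ?_) hg
  calc c * g * c⁻¹ * (c * u * c⁻¹) = c * (g * u) * c⁻¹ := by group
    _ = c * (u * g) * c⁻¹ := by rw [mem_centralizer_singleton_iff.1 hu]
    _ = _ := by group

theorem Hyp.nn_odd : Odd (nn A) := by
  rw [Nat.odd_iff]
  by_contra hne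
  have h2 : 2 ∣ nn A := by omega
  obtain ⟨i, -, hi⟩ := (Nat.prime_two.prime.dvd_finsetProd_iff _).1 h2
  exact Nat.not_even_iff_odd.2 (h.odd_card i) (even_iff_two_dvd.2 hi)

theorem Hyp.out_of_two_pow {g : G} (hg : g ≠ 1) {k : ℕ} (hk : orderOf g = 2 ^ k) : Out A g :=
  ⟨hg, hk ▸ Nat.Coprime.pow_left k (Nat.coprime_two_left.2 h.nn_odd)⟩

theorem Hyp.out_of_two {t : G} (ht : orderOf t = 2) : Out A t :=
  h.out_of_two_pow (fun e => by rw [e, orderOf_one] at ht; omega) (k := 1) (by simpa using ht)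

/-- An involution of the normaliser inverts the subgroup. -/
theorem Hyp.exists_inverting (i : Fin 3) :
    ∃ s : G, orderOf s = 2 ∧ s ∈ normalizer (A i : Set G) ∧ s ∉ A i ∧ ∀ a ∈ A i, s * a * s⁻¹ = a⁻¹ := by
  haveI : Fact (Nat.Prime 2) := ⟨Nat.prime_two⟩
  have h2 : 2 ∣ Nat.card ↥(normalizer (A i : Set G)) := by
    refine (ee_even i).trans (h.rel i ▸ ?_)
    exact Subgroup.index_dvd_card _
  obtain ⟨⟨s, hs⟩, hso⟩ := exists_prime_orderOf_dvd_card' 2 h2
  have hso' : orderOf s = 2 := by rw [← hso, Subgroup.orderOf_mk]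
  have hsA : s ∉ A i := fun hsA => by
    have h2A := hso' ▸ Subgroup.orderOf_dvd_natCard (A i) hsA
    exact Nat.not_even_iff_odd.2 (h.odd_card i) (even_iff_two_dvd.2 h2A)
  refine ⟨s, hso', hs, hsA, fun a ha => ?_⟩
  have hss : s * s = 1 := by rw [← pow_two, ← hso', pow_orderOf_eq_one]
  have hinv : s⁻¹ = s := inv_eq_of_mul_eq_one_right hss
  have hb : s * a * s⁻¹ ∈ A i := (mem_normalizer_iff.1 hs a).1 ha
  by_contra hne
  apply hsA
  refine h.mem_of_commute ((A i).mul_mem ha hb) (fun e => hne (eq_inv_of_mul_eq_one_right e)) ?_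
  rw [hinv] at hb ⊢
  have e1 : s * a = s * a * s * s := by rw [mul_assoc _ s s, hss, mul_one]
  have e2 : s * (s * a * s) = a * s := by rw [← mul_assoc, ← mul_assoc, hss, one_mul]
  calc s * (a * (s * a * s)) = s * a * s * s * (s * a * s) := by rw [← mul_assoc, ← e1]
    _ = s * a * s * (a * s) := by rw [mul_assoc _ s (s * a * s), e2]
    _ = s * a * s * a * s := by rw [← mul_assoc]
    _ = a * (s * a * s) * s := by rw [h.comm hb ha]

/-- An element of order four. -/
theorem Hyp.exists_four : ∃ x : G, orderOf x = 4 := by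
  obtain ⟨s, hso, hsN, hsA, hsinv⟩ := h.exists_inverting 1
  set N := normalizer (A 1 : Set G) with hN
  set K := (A 1).subgroupOf N with hK
  have hidx : K.index = 4 := h.rel 1
  by_contra hno
  push Not at hno
  have hsq : ∀ v ∈ N, v ∉ A 1 → v * v = 1 := by
    intro v hv hvA
    have hv4 : (⟨v, hv⟩ : N) ^ 4 ∈ K := by
      haveI : K.Normal := Subgroup.normal_in_normalizer
      rw [← hidx]
      exact Subgroup.pow_index_mem K _
    have h4 : v ^ 4 = 1 := by
      by_contra h4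
      exact hvA (h.mem_of_commute (mem_subgroupOf.1 hv4) h4 (by simp [← pow_succ, ← pow_succ']))
    have hv2 : v ^ 2 = 1 := by
      by_contra hv2
      have := orderOf_eq_prime_pow (p := 2) (n := 1) (x := v) (by simpa using hv2) (by norm_num [h4])
      exact hno v this
    rwa [pow_two] at hv2
  have hinv : ∀ v ∈ N, v ∉ A 1 → ∀ a ∈ A 1, v * a * v⁻¹ = a⁻¹ := by
    intro v hv hvA a ha
    have hb : v * a * v⁻¹ ∈ A 1 := (mem_normalizer_iff.1 hv a).1 ha
    by_contra hne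
    apply hvA
    refine h.mem_of_commute ((A 1).mul_mem ha hb) (fun e => hne (eq_inv_of_mul_eq_one_right e)) ?_
    have hvi : v⁻¹ = v := inv_eq_of_mul_eq_one_right (hsq v hv hvA)
    rw [hvi] at hb ⊢
    rw [h.comm ha hb]
    calc v * (v * a * v * a) = v * v * (a * v * a) := by group
      _ = a * v * a * (v * v) := by rw [hsq v hv hvA, one_mul, mul_one]
      _ = a * (v * a * v) * v := by group
      _ = v * a * v * a * v := by rw [h.comm ha hb]
  have hcov : ∀ v ∈ N, v ∉ A 1 → s * v ∈ A 1 := by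
    intro v hv hvA
    obtain ⟨a, ha, ha1⟩ := h.exists_ne_one 1
    refine h.mem_of_commute ha ha1 ?_
    have e := hsinv a⁻¹ ((A 1).inv_mem ha)
    rw [inv_inv] at e
    calc s * v * a = s * (v * a * v⁻¹) * v := by group
      _ = s * a⁻¹ * v := by rw [hinv v hv hvA a ha]
      _ = s * a⁻¹ * s⁻¹ * (s * v) := by group
      _ = _ := by rw [e]
  have hle : K.index ≤ 2 := by
    rw [Subgroup.index_eq_card]
    refine (Nat.card_le_card_of_surjective
      (fun b : Bool => (QuotientGroup.mk (bif b then (⟨s, hsN⟩ : N) else 1) : N ⧸ K)) ?_).trans (by simp)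
    intro q
    induction q using QuotientGroup.induction_on with
    | _ v =>
      by_cases hvA : (v : G) ∈ A 1
      · refine ⟨false, QuotientGroup.eq.2 ?_⟩
        simpa [hK, mem_subgroupOf] using hvA
      · refine ⟨true, QuotientGroup.eq.2 ?_⟩
        have hss : s⁻¹ = s := inv_eq_of_mul_eq_one_right (by rw [← pow_two, ← hso, pow_orderOf_eq_one])
        simpa [hK, mem_subgroupOf, hss] using hcov v v.2 hvA
  omega

end Cfsg.Agent.Invol.ThreeTI
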