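import Cfsg.Agent.Lib.Invol.ThreeTI.Five

/-!
# Numerical consequences
-/

set_option autoImplicit false
set_option linter.style.haveILetI false
set_option linter.unusedSectionVars false

namespace Cfsg.Agent.Invol.ThreeTI

open Subgroup

universe u

variable {G : Type u} [Group G] [Finite G] {A : Fin 3 → Subgroup G}

theorem Hyp.nn_dvd_card (h : Hyp A) : nn A ∣ Nat.card G := by
  rw [nn, Fin.prod_univ_three]
  exact Nat.Coprime.mul_dvd_of_dvd_of_dvd
    (Nat.Coprime.mul_left (h.coprime (by decide)) (h.coprime (by decide)))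
    (Nat.Coprime.mul_dvd_of_dvd_of_dvd (h.coprime (by decide)) (Subgroup.card_subgroup_dvd_card _)
      (Subgroup.card_subgroup_dvd_card _))
    (Subgroup.card_subgroup_dvd_card _)

variable [IsSimpleGroup G] {r : ℕ} {y t : G}

theorem YData.four_le_oc (d : YData A r y t) : 4 ≤ oc A := by
  obtain ⟨x, hx, hxo, hto, hyto, hyt⟩ := d.exists_base
  have := d.ne_four
  have := d.three_le
  have h := d.hyp.le_oc ![t, x, y, y * t] (fun k => by fin_cases k <;> first | exact d.out_y | assumption) ?_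
  · rwa [Nat.card_fin] at h
  · intro k l hc
    have ho := orderOf_eq_of_isConj hc
    fin_cases k <;> fin_cases l <;> simp [d.ot, hx, d.oy, hyt] at ho ⊢ <;> omega

/-- Either there is a further prime or the Sylow subgroups satisfy an inequality. -/
theorem YData.exists_q_or (d : YData A r y t) :
    (∃ q z, QData A r y t q z) ∨ (∑ i, mm A i) * rho0 r t ^ 2 < rho G r ^ 2 := by
  classical
  by_cases hq : ∃ q z, QData A r y t q z
  · exact Or.inl hq
  right
  haveI : Fact (Nat.Prime 2) := ⟨Nat.prime_two⟩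
  haveI := d.fact
  have hto := d.hyp.out_of_two d.ot
  set Ct := Nat.card ↥(centralizer ({t} : Set G)) with hCt
  have hco : Nat.Coprime Ct (nn A) := d.hyp.cent_coprime hto
  obtain ⟨j, hj⟩ : nn A * Ct ∣ Nat.card G :=
    hco.symm.mul_dvd_of_dvd_of_dvd d.hyp.nn_dvd_card (Subgroup.card_subgroup_dvd_card _)
  have hCt0 : 0 < Ct := Nat.card_pos
  have hnn0 : 0 < nn A := nn_pos
  have hj0 : j ≠ 0 := fun e => Nat.card_pos.ne' (by rw [hj, e, mul_zero])
  -- the 2-part
  have h2t : 2 ^ (Nat.card G).factorization 2 ∣ Ct := by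
    obtain ⟨S⟩ := (inferInstance : Nonempty (Sylow 2 G))
    have hd2 : 2 ∣ Nat.card ↥(S : Subgroup G) := by
      have h : 2 ∣ Nat.card G := d.ot ▸ orderOf_dvd_natCard t
      simpa using S.pow_dvd_card_of_pow_dvd_card (n := 1) (by simpa using h)
    haveI : Nontrivial ↥(S : Subgroup G) :=
      Finite.one_lt_card_iff_nontrivial.1 (lt_of_lt_of_le Nat.one_lt_two (Nat.le_of_dvd Nat.card_pos hd2))
    haveI := S.isPGroup'.center_nontrivial
    obtain ⟨n, hn, hcn⟩ :=
      (S.isPGroup'.to_subgroup (Subgroup.center ↥(S : Subgroup G))).nontrivial_iff_card.1 inferInstance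
    obtain ⟨s, hs⟩ :=
      exists_prime_orderOf_dvd_card' (G := ↥(Subgroup.center ↥(S : Subgroup G))) 2 (hcn ▸ dvd_pow_self 2 (by omega))
    set sG : G := ((s : ↥(S : Subgroup G)) : G) with hsG
    have hs2 : orderOf sG = 2 := by rw [hsG, Subgroup.orderOf_coe, Subgroup.orderOf_coe, hs]
    have hle : (S : Subgroup G) ≤ centralizer ({sG} : Set G) := fun x hx =>
      mem_centralizer_singleton_iff.2 (congrArg Subtype.val (Subgroup.mem_center_iff.1 s.2 ⟨x, hx⟩))
    have hconj : Nat.card ↥(centralizer ({sG} : Set G)) = Ct := by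
      have h1 := card_carrier_mul sG
      have h2 := card_carrier_mul t
      rw [ConjClasses.mk_eq_mk_iff_isConj.2 (d.hyp.isConj_involutions d.na hs2 d.ot)] at h1
      haveI : Nonempty ↥(ConjClasses.mk t).carrier := ⟨⟨t, ConjClasses.mem_carrier_mk⟩⟩
      exact Nat.eq_of_mul_eq_mul_left Nat.card_pos (h1.trans h2.symm)
    rw [← hconj, ← S.card_eq_multiplicity]
    exact Subgroup.card_dvd_of_le hle
  -- all primes of `j` equal `r`
  have hprimes : ∀ {p : ℕ}, p.Prime → p ∣ j → p = r := by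
    intro p hp hpj
    haveI : Fact p.Prime := ⟨hp⟩
    have hpn : ¬ p ∣ nn A := by
      intro hpn
      obtain ⟨i, -, hi⟩ := (hp.prime.dvd_finsetProd_iff _).1 hpn
      refine d.hyp.not_dvd_index hp hi ?_
      have h1 : Nat.card ↥(A i) * p ∣ Nat.card G := by
        rw [hj]
        exact Nat.mul_dvd_mul ((card_dvd_nn i).mul_right _) hpj
      rw [← (A i).card_mul_index] at h1
      exact Nat.dvd_of_mul_dvd_mul_left Nat.card_pos h1
    have hp2 : p ≠ 2 := fun e => by
      subst e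
      refine Nat.pow_succ_factorization_not_dvd (Nat.card_pos (α := G)).ne' hp ?_
      rw [pow_succ]
      exact (Nat.mul_dvd_mul (h2t.mul_left (nn A)) hpj).trans hj.symm.dvd
    by_contra hpr
    obtain ⟨z, hz⟩ := exists_prime_orderOf_dvd_card' (G := G) p (hj ▸ hpj.mul_left _)
    refine hq ⟨p, z, d, hp, hp2, hpr, hz, ne_one_of_order hz hp.one_lt.ne', ?_⟩
    rw [hz]
    exact hp.coprime_iff_not_dvd.2 hpn
  have hjk := Nat.eq_prime_pow_of_unique_prime_dvd hj0 hprimes
  generalize j.primeFactorsList.length = k at hjk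
  subst hjk
  have hrho : rho G r = r ^ k * rho0 r t := by
    have hnr : (nn A).factorization r = 0 := Nat.factorization_eq_zero_of_not_dvd d.not_dvd_nn
    rw [rho, rho0, ← hCt, hj, Nat.factorization_mul (by positivity) hj0, Nat.factorization_mul hnn0.ne' hCt0.ne',
      Finsupp.add_apply, Finsupp.add_apply, hnr, zero_add, Nat.Prime.factorization_pow d.prime,
      Finsupp.single_eq_same, ← pow_add, add_comm]
  rw [hrho, mul_pow]
  refine Nat.mul_lt_mul_of_pos_right ?_ (Nat.pow_pos (by rw [rho0]; exact Nat.pow_pos d.prime.pos))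
  have h1 := d.hyp.nn_sq_lt d.four_le_oc
  have h2 := d.hyp.cent_sq_mul_lt d.na d.ot
  rw [← hCt, hj] at h2
  rw [hj, pow_two, mul_assoc] at h1
  have h1' : nn A < Ct * r ^ k := Nat.lt_of_mul_lt_mul_left h1
  rw [pow_two] at h2 ⊢
  have h2' : Ct * ∑ i, mm A i < nn A * r ^ k := by nlinarith
  have h3 : nn A * r ^ k < Ct * r ^ k * r ^ k :=
    Nat.mul_lt_mul_of_pos_right h1' (Nat.pow_pos d.prime.pos)
  rw [mul_assoc] at h3
  exact Nat.lt_of_mul_lt_mul_left (h2'.trans h3)

theorem Hyp.forms (h : Hyp A) : Nat.card ↥(A 0) = mm A 0 * 2 + 1 ∧ Nat.card ↥(A 1) = mm A 1 * 4 + 1 ∧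
    Nat.card ↥(A 2) = mm A 2 * 4 + 1 ∧ Nat.card ↥(A 1) ≠ Nat.card ↥(A 2) := by
  refine ⟨by simpa [ee] using h.card_eq_mm_mul 0, by simpa [ee] using h.card_eq_mm_mul 1,
    by simpa [ee] using h.card_eq_mm_mul 2, fun e => ?_⟩
  have hc := h.coprime (i := 1) (j := 2) (by decide)
  rw [← e, Nat.coprime_self] at hc
  have := h.six₁
  omega

theorem EE_le {a b c : ℕ} (ha0 : 0 < a) (hb0 : 0 < b) (hc0 : 0 < c) (ha : a ≤ Nat.card ↥(A 0))
    (hb : b ≤ Nat.card ↥(A 1)) (hc : c ≤ Nat.card ↥(A 2)) :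
    EE A ≤ 1 / (2 * (a : ℚ)) + 1 / (4 * (b : ℚ)) + 1 / (4 * (c : ℚ)) := by
  simp only [EE, Fin.sum_univ_three, ee, Matrix.cons_val_zero, Matrix.cons_val_one, Matrix.cons_val,
    Nat.cast_ofNat]
  have ha' : (a : ℚ) ≤ Nat.card ↥(A 0) := by exact_mod_cast ha
  have hb' : (b : ℚ) ≤ Nat.card ↥(A 1) := by exact_mod_cast hb
  have hc' : (c : ℚ) ≤ Nat.card ↥(A 2) := by exact_mod_cast hc
  have ha1 : (0 : ℚ) < a := by exact_mod_cast ha0
  have hb1 : (0 : ℚ) < b := by exact_mod_cast hb0
  have hc1 : (0 : ℚ) < c := by exact_mod_cast hc0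
  gcongr

theorem YData.not_dvd_card (d : YData A r y t) (i : Fin 3) : Nat.card ↥(A i) % r ≠ 0 := fun e =>
  d.not_dvd_nn ((Nat.dvd_of_mod_eq_zero e).trans (card_dvd_nn i))

/-- The bounds for `r = 3`. -/
theorem YData.bounds_three (d : YData A r y t) (hr : r = 3) : EE A < 67 / 500 ∧ 9 ≤ ∑ i, mm A i := by
  obtain ⟨e0, e1, e2, hne⟩ := d.hyp.forms
  subst hr
  have := d.not_dvd_card 0
  have := d.not_dvd_card 1
  have := d.not_dvd_card 2
  have := d.hyp.five
  have := d.hyp.six₁
  have := d.hyp.six₂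
  have : 3 ≤ mm A 1 := by
    rcases Nat.lt_or_ge (mm A 1) 3 with hlt | hge
    · interval_cases hm : mm A 1 <;> omega
    · exact hge
  have : 3 ≤ mm A 2 := by
    rcases Nat.lt_or_ge (mm A 2) 3 with hlt | hge
    · interval_cases hm : mm A 2 <;> omega
    · exact hge
  refine ⟨?_, by rw [Fin.sum_univ_three]; omega⟩
  rcases lt_or_gt_of_ne hne with h | h
  · refine lt_of_le_of_lt (EE_le (a := 5) (b := 13) (c := 17) (by norm_num) (by norm_num) (by norm_num)
      (by omega) (by omega) (by omega)) (by norm_num)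
  · refine lt_of_le_of_lt (EE_le (a := 5) (b := 17) (c := 13) (by norm_num) (by norm_num) (by norm_num)
      (by omega) (by omega) (by omega)) (by norm_num)

/-- The bounds for `r = 5`. -/
theorem YData.bounds_five (d : YData A r y t) (hr : r = 5) : EE A < 119 / 1000 := by
  obtain ⟨e0, e1, e2, hne⟩ := d.hyp.forms
  subst hr
  have := d.not_dvd_card 0
  have := d.not_dvd_card 1
  have := d.not_dvd_card 2
  have := d.hyp.five
  have := d.hyp.six₁
  have := d.hyp.six₂
  rcases lt_or_gt_of_ne hne with h | h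
  · refine lt_of_le_of_lt (EE_le (a := 7) (b := 9) (c := 13) (by norm_num) (by norm_num) (by norm_num)
      (by omega) (by omega) (by omega)) (by norm_num)
  · refine lt_of_le_of_lt (EE_le (a := 7) (b := 13) (c := 9) (by norm_num) (by norm_num) (by norm_num)
      (by omega) (by omega) (by omega)) (by norm_num)

end Cfsg.Agent.Invol.ThreeTI
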