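import Cfsg.Agent.Lib.Invol.ThreeTI.Bounds
import Cfsg.Agent.Lib.Invol.ThreeTI.Action

/-!
# The normaliser of a Sylow `r`-subgroup acting on it
-/

set_option autoImplicit false
set_option linter.style.haveILetI false
set_option linter.unusedSectionVars false

namespace Cfsg.Agent.Invol.ThreeTI

open Subgroup

universe u

variable {G : Type u} [Group G] [Finite G]

/-- Centralisers of conjugate elements have equal orders. -/
theorem card_cent_of_isConj {a b : G} (h : IsConj a b) :
    Nat.card ↥(centralizer ({a} : Set G)) = Nat.card ↥(centralizer ({b} : Set G)) := by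
  have h1 := card_carrier_mul a
  have h2 := card_carrier_mul b
  rw [ConjClasses.mk_eq_mk_iff_isConj.2 h] at h1
  haveI : Nonempty ↥(ConjClasses.mk b).carrier := ⟨⟨b, ConjClasses.mem_carrier_mk⟩⟩
  exact Nat.eq_of_mul_eq_mul_left Nat.card_pos (h1.trans h2.symm)

variable [IsSimpleGroup G] {A : Fin 3 → Subgroup G} {r : ℕ} {y t : G}

/-- Pairs have centralisers of the same orders. -/
theorem YData.pair_cards (d : YData A r y t) {a s : G} (ha : orderOf a = r) (hs : orderOf s = 2)
    (hc : s * a = a * s) :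
    Nat.card ↥(centralizer ({a} : Set G)) = Nat.card ↥(centralizer ({y} : Set G)) ∧
      Nat.card ↥(centralizer ({a * s} : Set G)) = Nat.card ↥(centralizer ({y * t} : Set G)) := by
  obtain ⟨g, hg1, hg2⟩ := d.pair_conj ha hs hc
  exact ⟨(card_cent_of_isConj (isConj_iff.2 ⟨g, hg1⟩)).symm,
    (card_cent_of_isConj (isConj_iff.2 ⟨g, by rw [conj_mul', hg1, hg2]⟩)).symm⟩

theorem YData.rho0_pos (_d : YData A r y t) : 0 < rho0 r t := by
  rw [rho0]
  exact Nat.pow_pos _d.prime.pos

set_option maxHeartbeats 1600000 in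
/-- The case of a dihedral-like centraliser with a large Sylow subgroup does not occur. -/
theorem YData.big_false (d : YData A r y t) (hC : Nat.card ↥(centralizer ({y} : Set G)) = 2 * rho G r)
    (hD : Nat.card ↥(centralizer ({y * t} : Set G)) = 2 * rho0 r t) (hlt : rho0 r t < rho G r)
    (h0 : r = 5 ∧ rho0 r t = 5 ∨ r = 3 ∧ rho0 r t = 9) : False := by
  classical
  haveI := d.fact
  haveI : Fact (Nat.Prime 2) := ⟨Nat.prime_two⟩
  have h3 := d.three_le
  obtain ⟨R, hR⟩ := d.exists_R
  haveI hRc : IsMulCommutative ↥(R : Subgroup G) := d.hyp.abel r d.prime d.ne_two d.not_dvd_nn R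
  have hab := d.sylow_comm R
  letI : CommGroup ↥(R : Subgroup G) :=
    { (inferInstance : Group ↥(R : Subgroup G)) with mul_comm := fun a b => Subtype.ext (hab a a.2 b b.2) }
  have hRcard : Nat.card ↥(R : Subgroup G) = rho G r := card_sylow_rho R
  have hρodd : Odd (rho G r) := by rw [rho]; exact (d.prime.odd_of_ne_two d.ne_two).pow
  have horder : ∀ a ∈ (R : Subgroup G), ∀ s : G, orderOf s = 2 → s * a = a * s → a ≠ 1 → orderOf a = r := by
    intro a ha s hs hc ha1
    obtain ⟨k, hk⟩ := IsPGroup.iff_orderOf.1 R.isPGroup' ⟨a, ha⟩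
    rw [Subgroup.orderOf_mk] at hk
    rcases Nat.lt_or_ge k 2 with hk2 | hk2
    · interval_cases k
      · exact absurd (orderOf_eq_one_iff.1 (by simpa using hk)) ha1
      · simpa using hk
    · exfalso
      have hpw : orderOf (a ^ r ^ (k - 2)) = r ^ 2 := by
        rw [orderOf_pow, hk, Nat.gcd_eq_right (Nat.pow_dvd_pow r (by omega)),
          Nat.pow_div (by omega) d.prime.pos, show k - (k - 2) = 2 by omega]
      exact d.no_sq hs ((show Commute s a from hc).pow_right _).eq hpw
  have hsqR : ∀ {a : G}, a ∈ (R : Subgroup G) → ∀ (m : ℕ), Odd m → a ^ m = 1 → (a ^ 2) ^ ((m + 1) / 2) = a := by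
    intro a _ m hm e
    obtain ⟨i, rfl⟩ := hm
    rw [← pow_mul, show 2 * ((2 * i + 1 + 1) / 2) = 2 * i + 1 + 1 by omega, pow_succ, e, one_mul]
  -- centralisers of paired elements
  have hidx : ∀ a ∈ (R : Subgroup G), orderOf a = r → ∀ s : G, orderOf s = 2 → s * a = a * s →
      (R : Subgroup G) ≤ centralizer ({a} : Set G) ∧
        ((R : Subgroup G).subgroupOf (centralizer ({a} : Set G))).index = 2 := by
    intro a ha har s hs hc
    have hle : (R : Subgroup G) ≤ centralizer ({a} : Set G) := fun b hb =>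
      mem_centralizer_singleton_iff.2 (hab b hb a ha)
    refine ⟨hle, ?_⟩
    have e := Subgroup.card_mul_index ((R : Subgroup G).subgroupOf (centralizer ({a} : Set G)))
    rw [Nat.card_congr (subgroupOfEquivOfLe hle).toEquiv, hRcard, (d.pair_cards har hs hc).1, hC, mul_comm 2] at e
    exact Nat.eq_of_mul_eq_mul_left (by rw [rho]; exact Nat.pow_pos d.prime.pos) e
  have hnorm : ∀ a ∈ (R : Subgroup G), orderOf a = r → ∀ s : G, orderOf s = 2 → s * a = a * s →
      centralizer ({a} : Set G) ≤ normalizer ((R : Subgroup G) : Set G) := by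
    intro a ha har s hs hc
    obtain ⟨hle, hi⟩ := hidx a ha har s hs hc
    have hn := Subgroup.normal_of_index_eq_two hi
    intro g hg
    rw [mem_normalizer_iff]
    intro x
    constructor
    · intro hx
      exact mem_subgroupOf.1 (hn.conj_mem ⟨x, hle hx⟩ (mem_subgroupOf.2 hx) ⟨g, hg⟩)
    · intro hx
      have := mem_subgroupOf.1 (hn.conj_mem ⟨_, hle hx⟩ (mem_subgroupOf.2 hx) ⟨g, hg⟩⁻¹)
      simpa [mul_assoc] using this
  have hsq : ∀ a ∈ (R : Subgroup G), orderOf a = r → ∀ s : G, orderOf s = 2 → s * a = a * s →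
      ∀ g ∈ centralizer ({a} : Set G), g ^ 2 ∈ (R : Subgroup G) := by
    intro a ha har s hs hc g hg
    have hi := (hidx a ha har s hs hc).2
    haveI := Subgroup.normal_of_index_eq_two hi
    exact mem_subgroupOf.1
      (hi ▸ Subgroup.pow_index_mem ((R : Subgroup G).subgroupOf _) (⟨g, hg⟩ : ↥(centralizer ({a} : Set G))))
  -- fixed points of an involution
  have hfix : ∀ a ∈ (R : Subgroup G), orderOf a = r → ∀ s : G, orderOf s = 2 → s * a = a * s →
      Nat.card ↥((R : Subgroup G) ⊓ centralizer ({s} : Set G)) = rho0 r t := by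
    intro a ha har s hs hc
    have d' := d.conj_y har hs hc
    have hD' : Nat.card ↥(centralizer ({a * s} : Set G)) = 2 * rho0 r t := (d.pair_cards har hs hc).2.trans hD
    set X := (R : Subgroup G) ⊓ centralizer ({s} : Set G) with hX
    have hXle : X ≤ centralizer ({a * s} : Set G) := fun b hb => d'.cent_yt.ge
      ⟨mem_centralizer_singleton_iff.2 (hab b hb.1 a ha), hb.2⟩
    refine Nat.dvd_antisymm ?_ ?_
    · have h1 : Nat.card X ∣ 2 * rho0 r t := hD' ▸ Subgroup.card_dvd_of_le hXle
      refine Nat.Coprime.dvd_of_dvd_mul_left (Nat.coprime_two_right.2 (hρodd.of_dvd_nat ?_)) h1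
      exact hRcard ▸ Subgroup.card_dvd_of_le inf_le_left
    · obtain ⟨K, hK⟩ := Sylow.exists_subgroup_card_pow_prime r (n := (Nat.card ↥(centralizer ({t} : Set G))).factorization r)
        (G := ↥(centralizer ({a * s} : Set G))) (hD' ▸ Dvd.intro_left _ rfl)
      rw [← show Nat.card K = rho0 r t from hK,
        ← Subgroup.card_map_of_injective (centralizer ({a * s} : Set G)).subtype_injective]
      refine Subgroup.card_dvd_of_le ?_
      rintro x ⟨x', hx', rfl⟩
      obtain ⟨hxa, hxs⟩ := d'.cent_yt.le x'.2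
      refine ⟨?_, hxs⟩
      have hpow : (x' : G) ^ rho0 r t = 1 := by
        have : (⟨x', hx'⟩ : K) ^ Nat.card K = 1 := pow_card_eq_one'
        rw [hK] at this
        exact congrArg (fun w : K => ((w : ↥(centralizer ({a * s} : Set G))) : G)) this
      have h2 := hsq a ha har s hs hc _ hxa
      have hodd0 : Odd (rho0 r t) := by rw [rho0]; exact (d.prime.odd_of_ne_two d.ne_two).pow
      obtain ⟨i, hi⟩ := hodd0
      show (x' : G) ∈ (R : Subgroup G)
      have e : ((x' : G) ^ 2) ^ (i + 1) = (x' : G) := by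
        rw [← pow_mul, show 2 * (i + 1) = rho0 r t + 1 by omega, pow_succ, hpow, one_mul]
      rw [← e]
      exact (R : Subgroup G).pow_mem h2 _
  -- the kernel
  have hker : ∀ g : G, (∀ a ∈ (R : Subgroup G), g * a = a * g) → g ∈ (R : Subgroup G) := by
    intro g hg
    have hgy : g ∈ centralizer ({y} : Set G) := mem_centralizer_singleton_iff.2 (hg y hR)
    have hg2 := hsq y hR d.oy t d.ot d.comm g hgy
    have hpow : (g ^ 2) ^ rho G r = 1 := by
      have : (⟨g ^ 2, hg2⟩ : ↥(R : Subgroup G)) ^ Nat.card ↥(R : Subgroup G) = 1 := pow_card_eq_one'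
      rw [hRcard] at this
      exact congrArg Subtype.val this
    by_cases hs1 : g ^ rho G r = 1
    · obtain ⟨i, hi⟩ := hρodd
      have e : (g ^ 2) ^ (i + 1) = g := by
        rw [← pow_mul, show 2 * (i + 1) = rho G r + 1 by omega, pow_succ, hs1, one_mul]
      rw [← e]
      exact (R : Subgroup G).pow_mem hg2 _
    · exfalso
      have hs2 : orderOf (g ^ rho G r) = 2 :=
        orderOf_eq_prime (by rw [← pow_mul, mul_comm, pow_mul, hpow]) hs1
      have hle : (R : Subgroup G) ≤ (R : Subgroup G) ⊓ centralizer ({g ^ rho G r} : Set G) :=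
        le_inf le_rfl fun a ha => mem_centralizer_singleton_iff.2
          ((show Commute g a from hg a ha).pow_left _).eq.symm
      have h1 := Subgroup.card_le_of_le hle
      rw [hRcard, hfix y hR d.oy _ hs2 ((show Commute g y from hg y hR).pow_left _).eq] at h1
      omega
  -- the action
  set N := normalizer ((R : Subgroup G) : Set G) with hN
  have hRN : (R : Subgroup G) ≤ N := le_normalizer
  let φ : N →* MulAut ↥(R : Subgroup G) :=
    { toFun := fun g =>
        { toFun := fun a => ⟨g * a * (g : G)⁻¹, (mem_normalizer_iff.1 g.2 a).1 a.2⟩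
          invFun := fun a => ⟨(g : G)⁻¹ * a * g, (mem_normalizer_iff''.1 g.2 a).1 a.2⟩
          left_inv := fun a => Subtype.ext (by simp [mul_assoc])
          right_inv := fun a => Subtype.ext (by simp [mul_assoc])
          map_mul' := fun a b => Subtype.ext (by simp [mul_assoc]) }
      map_one' := MulEquiv.ext fun a => Subtype.ext (by simp)
      map_mul' := fun g g' => MulEquiv.ext fun a => Subtype.ext (by simp [mul_assoc]) }
  have hφ : ∀ (g : N) (a : ↥(R : Subgroup G)), ((φ g a : ↥(R : Subgroup G)) : G) = g * a * (g : G)⁻¹ :=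
    fun g a => rfl
  have hφfix : ∀ (g : N) (a : ↥(R : Subgroup G)), φ g a = a ↔ (g : G) * a = a * g := fun g a =>
    ⟨fun e => mul_inv_eq_iff_eq_mul.1 (congrArg Subtype.val e),
      fun e => Subtype.ext (mul_inv_eq_iff_eq_mul.2 e)⟩
  have hφ1 : ∀ g : N, φ g = 1 ↔ (g : G) ∈ (R : Subgroup G) := by
    intro g
    constructor
    · intro e
      exact hker g fun a ha => (hφfix g ⟨a, ha⟩).1 (by rw [e]; rfl)
    · intro hg
      exact MulEquiv.ext fun a => (hφfix g a).2 (hab g hg a a.2)
  have hlift : ∀ w ∈ φ.range, orderOf w = 2 → ∃ s : N, φ s = w ∧ orderOf (s : G) = 2 := by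
    rintro w ⟨g, rfl⟩ hw
    have hg2 : ((g ^ 2 : N) : G) ∈ (R : Subgroup G) :=
      (hφ1 _).1 (by rw [map_pow, ← hw, pow_orderOf_eq_one])
    have hpow : (((g ^ rho G r : N) : G)) ^ 2 = 1 := by
      have : (⟨_, hg2⟩ : ↥(R : Subgroup G)) ^ Nat.card ↥(R : Subgroup G) = 1 := pow_card_eq_one'
      rw [hRcard] at this
      have h' : ((g : G) ^ 2) ^ rho G r = 1 := congrArg Subtype.val this
      rw [Subgroup.coe_pow, ← pow_mul, mul_comm, pow_mul, h']
    have hφe : φ (g ^ rho G r) = φ g := by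
      obtain ⟨i, hi⟩ := hρodd
      rw [map_pow, hi, pow_succ, pow_mul, ← hw, pow_orderOf_eq_one, one_pow, one_mul]
    refine ⟨g ^ rho G r, hφe, orderOf_eq_prime hpow fun e => ?_⟩
    have h1 : φ g = 1 := by rw [← hφe, show (g ^ rho G r : N) = 1 from Subtype.ext e, map_one]
    rw [h1, orderOf_one] at hw
    omega
  -- paired elements
  have hpair : ∀ (a : ↥(R : Subgroup G)) (s : G), a ≠ 1 → orderOf s = 2 → s * (a : G) = a * s →
      orderOf (a : G) = r := fun a s ha hs hc => horder a a.2 s hs hc fun e => ha (Subtype.ext e)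
  have hout : ∀ a : ↥(R : Subgroup G), a ≠ 1 → Out A (a : G) ∧ ∃ k, 1 ≤ k ∧ orderOf (a : G) = r ^ k := by
    intro a ha
    obtain ⟨k, hk⟩ := IsPGroup.iff_orderOf.1 R.isPGroup' a
    rw [← Subgroup.orderOf_coe] at hk
    have ha' : (a : G) ≠ 1 := fun e => ha (Subtype.ext e)
    refine ⟨⟨ha', ?_⟩, k, ?_, hk⟩
    · rw [hk]
      exact (d.prime.coprime_iff_not_dvd.2 d.not_dvd_nn).pow_left k
    · rcases Nat.eq_zero_or_pos k with rfl | h
      · exact absurd (orderOf_eq_one_iff.1 (by simpa using hk)) ha'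
      · exact h
  have hexists : ∀ (a : ↥(R : Subgroup G)) (g : N), a ≠ 1 → φ g ≠ 1 → φ g a = a →
      ∃ s : G, orderOf s = 2 ∧ s * (a : G) = a * s := by
    intro a g ha hg hga
    by_contra hno
    push Not at hno
    obtain ⟨haout, k, hk, hak⟩ := hout a ha
    set C := centralizer ({(a : G)} : Set G) with hCa
    have hRC : (R : Subgroup G) ≤ C := fun b hb => mem_centralizer_singleton_iff.2 (hab b hb a a.2)
    set c := ((R : Subgroup G).subgroupOf C).index with hc
    have hc1 : c ≠ 1 := by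
      intro e
      rw [hc, Subgroup.index_eq_one, Subgroup.subgroupOf_eq_top] at e
      exact hg ((hφ1 g).2 (e (mem_centralizer_singleton_iff.2 ((hφfix g a).1 hga))))
    obtain ⟨p, hp, hpc⟩ := Nat.exists_prime_and_dvd hc1
    haveI : Fact p.Prime := ⟨hp⟩
    have hpr : p ≠ r := fun e => by
      have h' : p ∣ (R : Subgroup G).index := hpc.trans (Subgroup.relIndex_dvd_index_of_le hRC)
      rw [e] at h'
      exact R.not_dvd_index h'
    obtain ⟨⟨z, hzC⟩, hz⟩ := exists_prime_orderOf_dvd_card' (G := ↥C) p (hpc.trans (Subgroup.index_dvd_card _))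
    rw [Subgroup.orderOf_mk] at hz
    have hza : z * (a : G) = a * z := mem_centralizer_singleton_iff.1 hzC
    have hp2 : p ≠ 2 := fun e => hno z (e ▸ hz) hza
    set a' := (a : G) ^ r ^ (k - 1) with ha'
    have ha'o : orderOf a' = r := by
      rw [ha', orderOf_pow, hak, Nat.gcd_eq_right (Nat.pow_dvd_pow r (by omega)),
        Nat.pow_div (by omega) d.prime.pos, show k - (k - 1) = 1 by omega, pow_one]
    have hza' : z * a' = a' * z := ((show Commute z (a : G) from hza).pow_right _).eq
    have ha'out : Out A a' := ⟨ne_one_of_order ha'o (by omega),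
      ha'o ▸ d.prime.coprime_iff_not_dvd.2 d.not_dvd_nn⟩
    have hzout : Out A z := d.out_of_comm ha'out (ne_one_of_order hz hp.one_lt.ne') hza'
    by_cases hs : ∃ s, orderOf s = 2 ∧ s * a' = a' * s
    · obtain ⟨s, hs, hsc⟩ := hs
      exact hpr ((d.conj_y ha'o hs hsc).eq_r_of_comm_y hp hp2 hz hza')
    · obtain ⟨x, hx, hxo, hto, hyto, hyt⟩ := d.exists_base
      have := d.ne_four
      have hp4 : p ≠ 4 := fun e => absurd (e ▸ hp) (by norm_num)
      have hp2r : p ≠ 2 * r := fun e =>
        hp2 ((Nat.prime_dvd_prime_iff_eq Nat.prime_two hp).1 ⟨r, e⟩).symm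
      have hny : ¬ IsConj y a' := fun hcj => by
        obtain ⟨g, hg⟩ := isConj_iff.1 hcj
        refine hs ⟨g * t * g⁻¹, by rw [← MulAut.conj_apply, MulEquiv.orderOf_eq, d.ot], ?_⟩
        rw [← hg, ← conj_mul', ← conj_mul', d.comm]
      refine d.hyp.six d.hyp.oc_le_five ![t, x, y, y * t, a', z]
        (fun k => by fin_cases k <;> first | exact d.out_y | assumption) ?_
      intro i l hil hc'
      have ho := orderOf_eq_of_isConj hc'
      fin_cases i <;> fin_cases l <;> simp [d.ot, hx, d.oy, hyt, ha'o, hz] at hil ho <;>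
        first
          | omega
          | exact hny hc'
  have hNsq : ∀ (a : ↥(R : Subgroup G)) (g g' : N), a ≠ 1 → φ g ≠ 1 → φ g' ≠ 1 → φ g a = a → φ g' a = a →
      φ g' = φ g := by
    intro a g g' ha hg hg' hga hg'a
    obtain ⟨s, hs, hsc⟩ := hexists a g ha hg hga
    have har := hpair a s ha hs hsc
    obtain ⟨hle, hi⟩ := hidx a a.2 har s hs hsc
    have hm : ∀ u v : N, φ u ≠ 1 → φ v ≠ 1 → φ u a = a → φ v a = a → φ (u * v) = 1 := by
      intro u v hu hv hua hva
      apply (hφ1 _).2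
      have hiff := Subgroup.mul_mem_iff_of_index_two hi
        (a := (⟨u, mem_centralizer_singleton_iff.2 ((hφfix u a).1 hua)⟩ : ↥(centralizer ({(a : G)} : Set G))))
        (b := ⟨v, mem_centralizer_singleton_iff.2 ((hφfix v a).1 hva)⟩)
      exact mem_subgroupOf.1 (hiff.2 ⟨fun hh => absurd ((hφ1 u).2 (mem_subgroupOf.1 hh)) hu,
        fun hh => absurd ((hφ1 v).2 (mem_subgroupOf.1 hh)) hv⟩)
    have e1 := hm g' g hg' hg hg'a hga
    have e2 := hm g g hg hg hga hga
    rw [map_mul] at e1 e2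
    exact mul_right_cancel (e1.trans e2.symm)
  have hburn : ∀ a b : ↥(R : Subgroup G), IsConj (a : G) (b : G) → ∃ v ∈ φ.range, v a = b := by
    intro a b hcj
    obtain ⟨g, hg⟩ := isConj_iff.1 hcj
    obtain ⟨n, hn, e⟩ := R.conj_eq_normalizer_conj_of_mem (a : G) g⁻¹ a.2 (by rw [inv_inv, hg]; exact b.2)
    rw [inv_inv, hg] at e
    refine ⟨φ ⟨n⁻¹, N.inv_mem hn⟩, ⟨_, rfl⟩, Subtype.ext ?_⟩
    rw [hφ]
    simpa using e.symm
  have hfixcard : ∀ (g : N), Nat.card ↥(fixS (φ g)) =
      Nat.card ↥((R : Subgroup G) ⊓ centralizer ({(g : G)} : Set G)) := fun g =>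
    Nat.card_congr
      ⟨fun a => ⟨a.1.1, a.1.2, mem_centralizer_singleton_iff.2 ((hφfix g a.1).1 a.2).symm⟩,
        fun a => ⟨⟨a.1, a.2.1⟩, (hφfix g ⟨a.1, a.2.1⟩).2 (mem_centralizer_singleton_iff.1 a.2.2).symm⟩,
        fun _ => rfl, fun _ => rfl⟩
  set tN : N := ⟨t, hnorm y hR d.oy t d.ot d.comm (mem_centralizer_singleton_iff.2 d.comm)⟩ with htN
  have htR : ∀ s : G, orderOf s = 2 → s ∉ (R : Subgroup G) := fun s hs hm =>
    Nat.not_even_iff_odd.2 hρodd (even_iff_two_dvd.2 (hRcard ▸ hs ▸ Subgroup.orderOf_dvd_natCard _ hm))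
  have hτ1 : φ tN ≠ 1 := fun e => htR t d.ot ((hφ1 tN).1 e)
  have htN2 : tN ^ 2 = 1 := Subtype.ext (by rw [Subgroup.coe_pow, Subgroup.coe_one, htN, ← d.ot, pow_orderOf_eq_one])
  have D : WData φ.range (rho0 r t) (⟨y, hR⟩ : ↥(R : Subgroup G)) (φ tN) := by
    refine ⟨fun e => ne_one_of_order d.oy (by omega) (congrArg Subtype.val e), hRcard ▸ hρodd, ⟨tN, rfl⟩,
      orderOf_eq_prime (by rw [← map_pow, htN2, map_one]) hτ1, (hφfix tN ⟨y, hR⟩).2 d.comm, ?_, ?_, ?_, ?_, ?_⟩
    · rw [hfixcard tN]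
      exact hfix y hR d.oy t d.ot d.comm
    · rintro a ha w ⟨g, rfl⟩ hg hga
      refine ⟨?_, ?_⟩
      · rintro w' ⟨g', rfl⟩ hg' hg'a
        exact hNsq a g g' ha hg hg' hga hg'a
      · obtain ⟨s, hs, hsc⟩ := hexists a g ha hg hga
        obtain ⟨c, hc, -⟩ := d.pair_conj (hpair a s ha hs hsc) hs hsc
        exact hburn ⟨y, hR⟩ a (isConj_iff.2 ⟨c, hc⟩)
    · intro a b ha hb hfa hfb
      refine hburn a b ?_
      have hnone : ∀ a : ↥(R : Subgroup G), a ≠ 1 → (∀ w ∈ φ.range, w a = a → w = 1) →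
          ∀ s : G, orderOf s = 2 → s * (a : G) ≠ a * s := by
        intro a ha hfa s hs hsc
        have har := hpair a s ha hs hsc
        have hsN : s ∈ N := hnorm a a.2 har s hs hsc (mem_centralizer_singleton_iff.2 hsc)
        exact htR s hs ((hφ1 ⟨s, hsN⟩).1 (hfa _ ⟨_, rfl⟩ ((hφfix ⟨s, hsN⟩ a).2 hsc)))
      have hny : ∀ a : ↥(R : Subgroup G), a ≠ 1 → (∀ w ∈ φ.range, w a = a → w = 1) → ¬ IsConj y (a : G) := by
        intro a ha hfa hcj
        obtain ⟨g, hg⟩ := isConj_iff.1 hcj
        refine hnone a ha hfa (g * t * g⁻¹) (by rw [← MulAut.conj_apply, MulEquiv.orderOf_eq, d.ot]) ?_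
        rw [← hg, ← conj_mul', ← conj_mul', d.comm]
      by_contra hnc
      obtain ⟨x, hx, hxo, hto, hyto, hyt⟩ := d.exists_base
      obtain ⟨haout, k, hk, hak⟩ := hout a ha
      obtain ⟨hbout, l, hl, hbl⟩ := hout b hb
      have hro : ∀ m, (r ^ m) % 2 = 1 := fun m => Nat.odd_iff.1 (d.prime.odd_of_ne_two d.ne_two).pow
      have := hro k
      have := hro l
      have := d.ne_four
      refine d.hyp.six d.hyp.oc_le_five ![t, x, y, y * t, (a : G), (b : G)]
        (fun k => by fin_cases k <;> first | exact d.out_y | assumption) ?_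
      intro i j hij hc'
      have ho := orderOf_eq_of_isConj hc'
      fin_cases i <;> fin_cases j <;> simp [d.ot, hx, d.oy, hyt, hak, hbl] at hij ho <;>
        first
          | omega
          | exact hnc hc'
          | exact hny a ha hfa hc'
          | exact hny b hb hfb hc'
    · intro w hw hw2
      obtain ⟨s, rfl, hs⟩ := hlift w hw hw2
      by_cases he : ∃ a : ↥(R : Subgroup G), a ≠ 1 ∧ φ s a = a
      · obtain ⟨a, ha, hsa⟩ := he
        left
        rw [hfixcard s]
        exact hfix a a.2 (hpair a s ha hs ((hφfix s a).1 hsa)) s hs ((hφfix s a).1 hsa)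
      · right
        push Not at he
        intro a
        refine eq_inv_of_mul_eq_one_right (by_contra fun hne => he _ hne ?_)
        rw [map_mul, apply_apply hw2, mul_comm]
    · rintro p hp hp2 hpW hpR w hw hinv
      haveI : Fact p.Prime := ⟨hp⟩
      have hpr : p ≠ r := fun e => by
        have h1 : r ∣ Nat.card ↥(R : Subgroup G) :=
          (dvd_of_eq d.oy.symm).trans (Subgroup.orderOf_dvd_natCard _ hR)
        exact hp.one_lt.ne' (Nat.Coprime.eq_one_of_dvd hpR ((dvd_of_eq e).trans h1))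
      by_cases hw1 : w = 1
      · have e := hinv ⟨y, hR⟩
        rw [hw1, MulAut.one_apply] at e
        have hy2 : y * y = 1 := by
          have := congrArg Subtype.val e
          exact mul_eq_one_iff_eq_inv.2 this
        have := orderOf_dvd_of_pow_eq_one (x := y) (n := 2) (by rw [pow_two, hy2])
        rw [d.oy] at this
        exact d.ne_two ((Nat.prime_dvd_prime_iff_eq d.prime Nat.prime_two).1 this)
      have hw2 : orderOf w = 2 := by
        refine orderOf_eq_prime (MulEquiv.ext fun a => ?_) hw1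
        rw [pow_two, MulAut.mul_apply, hinv, hinv, inv_inv, MulAut.one_apply]
      obtain ⟨s, rfl, hs⟩ := hlift w hw hw2
      obtain ⟨⟨_, g, rfl⟩, hgo⟩ := exists_prime_orderOf_dvd_card' (G := ↥φ.range) p hpW
      replace hgo : orderOf (φ g) = p := (Subgroup.orderOf_coe _).trans hgo
      have hcom : φ s * φ g = φ g * φ s := MulEquiv.ext fun a => by
        rw [MulAut.mul_apply, MulAut.mul_apply, hinv, hinv, map_inv]
      have hmem : ((s * g * s⁻¹ * g⁻¹ : N) : G) ∈ (R : Subgroup G) := (hφ1 _).1 (by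
        rw [map_mul, map_mul, map_mul, map_inv, map_inv, hcom, mul_inv_cancel_right, mul_inv_cancel])
      set a : ↥(R : Subgroup G) := ⟨_, hmem⟩ with hadef
      obtain ⟨i, hi⟩ := hρodd
      set b := a ^ (i + 1) with hb
      have hbb : b * b = a := by
        rw [hb, ← pow_add, show i + 1 + (i + 1) = Nat.card ↥(R : Subgroup G) + 1 by omega, pow_succ,
          pow_card_eq_one', one_mul]
      set z : N := ⟨(b : G), hRN b.2⟩ * g with hz
      have hsz : s * z = z * s := by
        have e1 : φ s b = b⁻¹ := hinv b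
        have e1' : (s : G) * b * (s : G)⁻¹ = (b : G)⁻¹ := congrArg Subtype.val e1
        have e2 : ((b : G)) * b = (s : G) * g * (s : G)⁻¹ * (g : G)⁻¹ := congrArg Subtype.val hbb
        apply Subtype.ext
        show (s : G) * ((b : G) * g) = (b : G) * g * s
        calc (s : G) * ((b : G) * g) =
            (s : G) * b * (s : G)⁻¹ * ((s : G) * g * (s : G)⁻¹ * (g : G)⁻¹) * g * s := by group
          _ = (b : G)⁻¹ * ((b : G) * b) * g * s := by rw [e1', e2]
          _ = _ := by group
      have hφz : φ z = φ g := by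
        rw [hz, map_mul, (hφ1 ⟨(b : G), hRN b.2⟩).2 b.2, one_mul]
      have hpz : p ∣ orderOf (z : G) := by
        rw [Subgroup.orderOf_coe, ← hgo, ← hφz]
        exact orderOf_map_dvd φ z
      refine hpr (d.eq_r hp hp2 hs (z := (z : G) ^ (orderOf (z : G) / p))
        (orderOf_pow_orderOf_div (orderOf_pos _).ne' hpz) ?_)
      exact ((show Commute (s : G) (z : G) from congrArg Subtype.val hsz).pow_right _).eq
  obtain ⟨e0, e25⟩ := D.result (r := r) (k := (Nat.card G).factorization r) h0
    (by rw [hRcard, rho]) (hfix y hR d.oy t d.ot d.comm ▸ Subgroup.card_dvd_of_le inf_le_left)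
    (hRcard.symm ▸ hlt)
  rw [hRcard] at e25
  obtain ⟨hr, -⟩ | ⟨-, h9⟩ := h0
  · obtain ⟨x, hx, hxo, hto, hyto, hyt⟩ := d.exists_base
    have hb := d.bounds_five hr
    have hsum := d.hyp.sum_inv_lt ![y, y * t] (fun k => by fin_cases k <;> first | exact d.out_y | assumption)
      (fun k l hc => by
        have ho := orderOf_eq_of_isConj hc
        fin_cases k <;> fin_cases l <;> simp [d.oy, hyt] at ho ⊢ <;> omega)
    simp only [Fin.sum_univ_two, Matrix.cons_val_zero, Matrix.cons_val_one, hC, hD, e25, e0] at hsum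
    norm_num at hsum
    linarith
  · omega

end Cfsg.Agent.Invol.ThreeTI
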