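import Cfsg.Agent.Lib.Invol.ThreeTI.Bridge

/-!
# Three commuting involutions in `C(y)`
-/

set_option autoImplicit false
set_option linter.style.haveILetI false
set_option linter.unusedSectionVars false

namespace Cfsg.Agent.Invol.ThreeTI

open Subgroup

universe u

variable {G : Type u} [Group G]

/-- The square of an element permuting a four-subgroup and fixing one of its involutions fixes all. -/
theorem sq_fixes {E : Subgroup G} (hE : Nat.card E = 4) {t : G} (ht : t ∈ E) (ht1 : t ≠ 1) {c : G}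
    (hc : ∀ f ∈ E, c * f * c⁻¹ ∈ E) (hct : c * t = t * c) {f : G} (hf : f ∈ E) :
    c * c * f = f * (c * c) := by
  classical
  haveI : Finite E := Nat.finite_of_card_ne_zero (by omega)
  by_cases h1 : c * f * c⁻¹ = f
  · have e : c * f = f * c := mul_inv_eq_iff_eq_mul.1 h1
    rw [mul_assoc, e, ← mul_assoc, e, mul_assoc]
  set f' := c * f * c⁻¹ with hf'
  have hct' : c * t * c⁻¹ = t := mul_inv_eq_iff_eq_mul.2 hct
  have hf1 : f ≠ 1 := fun e => h1 (by simp [hf', e])
  have hft : f ≠ t := fun e => h1 (by rw [hf', e, hct'])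
  have hinj : ∀ a b : G, c * a * c⁻¹ = c * b * c⁻¹ → a = b := fun a b e => by simpa using e
  have hf'1 : f' ≠ 1 := fun e => hf1 (conj_eq_one_iff.1 e)
  have hf't : f' ≠ t := fun e => hft (hinj _ _ (e.trans hct'.symm))
  have hset : ({1, t, f, f'} : Set G) = (E : Set G) := by
    refine Set.eq_of_subset_of_ncard_le ?_ (le_of_eq ?_) (Set.toFinite _)
    · intro x hx
      rcases hx with rfl | rfl | rfl | rfl
      · exact E.one_mem
      · exact ht
      · exact hf
      · exact hc f hf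
    · rw [← Nat.card_coe_set_eq]
      show Nat.card E = _
      rw [hE, Set.ncard_insert_of_notMem (by simp [ht1.symm, hf1.symm, hf'1.symm]),
        Set.ncard_insert_of_notMem (by simp [hft.symm, hf't.symm]),
        Set.ncard_insert_of_notMem (by simp [Ne.symm h1]), Set.ncard_singleton]
  have hm : c * f' * c⁻¹ ∈ ({1, t, f, f'} : Set G) := hset ▸ hc f' (hc f hf)
  rcases hm with e | e | e | e
  · exact absurd (conj_eq_one_iff.1 e) hf'1
  · exact absurd (hinj _ _ (e.trans hct'.symm)) hf't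
  · calc c * c * f = c * f' * c⁻¹ * (c * c) := by rw [hf']; group
      _ = _ := by rw [e]
  · exact absurd (hinj f' f (e.trans hf')) h1

variable [Finite G] [IsSimpleGroup G] {A : Fin 3 → Subgroup G} {r q : ℕ} {y t z : G}

/-- The involutions of `C(y)` with the identity. -/
def invSub (y : G)
    (h : ∀ u v, u ∈ centralizer ({y} : Set G) → v ∈ centralizer ({y} : Set G) → orderOf u = 2 →
      orderOf v = 2 → u * v = v * u) : Subgroup G where
  carrier := {x | x = 1 ∨ (x ∈ centralizer ({y} : Set G) ∧ orderOf x = 2)}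
  one_mem' := Or.inl rfl
  mul_mem' := by
    rintro p q (rfl | ⟨hp, hp2⟩) (rfl | ⟨hq, hq2⟩)
    · exact Or.inl (one_mul 1)
    · exact Or.inr ⟨by rwa [one_mul], by rwa [one_mul]⟩
    · exact Or.inr ⟨by rwa [mul_one], by rwa [mul_one]⟩
    · by_cases hpq : p * q = 1
      · exact Or.inl hpq
      · haveI : Fact (Nat.Prime 2) := ⟨Nat.prime_two⟩
        refine Or.inr ⟨mul_mem hp hq, orderOf_eq_prime ?_ hpq⟩
        rw [(show Commute p q from h p q hp hq hp2 hq2).mul_pow, ← hp2, pow_orderOf_eq_one, hp2, ← hq2,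
          pow_orderOf_eq_one, one_mul]
  inv_mem' := by
    rintro p (rfl | ⟨hp, hp2⟩)
    · exact Or.inl inv_one
    · exact Or.inr ⟨inv_mem hp, by rwa [orderOf_inv]⟩

/-- The data of the third case. -/
structure CData (A : Fin 3 → Subgroup G) (r : ℕ) (y t : G) : Prop where
  d : YData A r y t
  three : r = 3
  rhoEq : rho G r = 3 * rho0 r t
  cardMul : Nat.card ↥(centralizer ({y} : Set G)) = 3 * Nat.card ↥(centralizer ({y * t} : Set G))
  count : Nat.card {u : G // u ∈ centralizer ({y} : Set G) ∧ orderOf u = 2} = 3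
  commI : ∀ u v, u ∈ centralizer ({y} : Set G) → v ∈ centralizer ({y} : Set G) → orderOf u = 2 →
    orderOf v = 2 → u * v = v * u

theorem CData.card_E (C : CData A r y t) : Nat.card ↥(invSub y C.commI) = 4 := by
  classical
  let f : {u : G // u ∈ centralizer ({y} : Set G) ∧ orderOf u = 2} ≃ {x : ↥(invSub y C.commI) // x ≠ 1} :=
    ⟨fun u => ⟨⟨u.1, Or.inr u.2⟩, fun h => by
        have := u.2.2
        rw [show u.1 = 1 from congrArg Subtype.val h, orderOf_one] at this
        omega⟩,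
      fun x => ⟨x.1.1, x.1.2.resolve_left fun h => x.2 (Subtype.ext h)⟩, fun _ => rfl, fun _ => rfl⟩
  letI := Fintype.ofFinite ↥(invSub y C.commI)
  have hpos : 0 < Fintype.card ↥(invSub y C.commI) := Fintype.card_pos
  have h := C.count
  rw [Nat.card_congr f, Nat.card_eq_fintype_card, Fintype.card_subtype_compl, Fintype.card_subtype_eq] at h
  rw [Nat.card_eq_fintype_card]
  omega

theorem CData.t_mem (C : CData A r y t) : t ∈ invSub y C.commI :=
  Or.inr ⟨mem_centralizer_singleton_iff.2 C.d.comm, C.d.ot⟩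

theorem CData.E_le (C : CData A r y t) : invSub y C.commI ≤ centralizer ({y * t} : Set G) := by
  intro f hf
  refine C.d.cent_yt.ge ⟨?_, mem_centralizer_singleton_iff.2 ?_⟩ <;> rcases hf with rfl | ⟨hf, hf2⟩
  · exact one_mem _
  · exact hf
  · rw [one_mul, mul_one]
  · exact C.commI f t hf (mem_centralizer_singleton_iff.2 C.d.comm) hf2 C.d.ot

/-- With a further prime the Sylow 2-subgroup of `C(y)` has order four. -/
theorem CData.cards (C : CData A r y t) (Q : QData A r y t q z) :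
    Nat.card ↥(centralizer ({y} : Set G)) = 12 * rho0 r t ∧
      Nat.card ↥(centralizer ({y * t} : Set G)) = 4 * rho0 r t := by
  haveI : Fact (Nat.Prime 2) := ⟨Nat.prime_two⟩
  obtain ⟨a, ha⟩ := C.d.card_cent_y
  obtain ⟨b, hb⟩ := C.d.card_cent_yt
  have hmul := C.cardMul
  rw [ha, hb, C.rhoEq, mul_left_comm] at hmul
  have hab : 2 ^ a * rho0 r t = 2 ^ b * rho0 r t := Nat.eq_of_mul_eq_mul_left (by norm_num) hmul
  have hge : 4 ∣ 2 ^ b := by
    have h1 := Subgroup.card_dvd_of_le C.E_le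
    rw [C.card_E, hb] at h1
    refine Nat.Coprime.dvd_of_dvd_mul_right ?_ h1
    rw [rho0]
    exact Nat.Coprime.pow_right _ ((show 4 = 2 ^ 2 by norm_num) ▸ (C.d.coprime_two.symm.pow_left 2))
  obtain ⟨T⟩ := (inferInstance : Nonempty (Sylow 2 ↥(centralizer ({y} : Set G))))
  have hle : 2 ^ a ≤ 4 := by
    have hd : 2 ^ a ∣ Nat.card ↥(T : Subgroup ↥(centralizer ({y} : Set G))) :=
      T.pow_dvd_card_of_pow_dvd_card (ha ▸ Dvd.intro _ rfl)
    refine le_trans (Nat.le_of_dvd Nat.card_pos hd) ?_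
    rw [← C.card_E, ← Subgroup.card_map_of_injective (centralizer ({y} : Set G)).subtype_injective]
    refine Subgroup.card_le_of_le ?_
    rintro g ⟨g', hg', rfl⟩
    by_cases h1 : g' = 1
    · exact Or.inl (congrArg Subtype.val h1)
    refine Or.inr ⟨g'.2, ?_⟩
    obtain ⟨k, hk⟩ := IsPGroup.iff_orderOf.1 T.isPGroup' ⟨g', hg'⟩
    rw [Subgroup.orderOf_mk, ← Subgroup.orderOf_coe] at hk
    have hk2 := Q.two_pow_dvd_four hk
    interval_cases k
    · exact absurd (Subtype.ext (orderOf_eq_one_iff.1 (by simpa using hk))) h1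
    · simpa using hk
    · exact absurd (by simpa using hk) (Q.no_four_y (mem_centralizer_singleton_iff.1 g'.2))
  have hpos : 0 < rho0 r t := C.d.rho0_pos
  have hab' : 2 ^ a = 2 ^ b := Nat.eq_of_mul_eq_mul_right hpos hab
  have h4 : 2 ^ b = 4 := le_antisymm (hab' ▸ hle) (Nat.le_of_dvd (Nat.two_pow_pos b) hge)
  refine ⟨?_, by rw [hb, h4]⟩
  rw [ha, hab', h4, C.rhoEq]
  ring

/-- The third case passes to every pair. -/
theorem CData.pair (C : CData A r y t) (Q : QData A r y t q z) {a s : G} (ha : orderOf a = r) (hs : orderOf s = 2)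
    (hc : s * a = a * s) : CData A r a s := by
  have d' := C.d.conj_y ha hs hc
  have hρ0 : rho0 r s = rho0 r t := by
    rw [rho0, rho0, card_cent_of_isConj (C.d.hyp.isConj_involutions C.d.na hs C.d.ot)]
  have hcy := (C.d.pair_cards ha hs hc).1.trans (C.cards Q).1
  have hpos : 0 < rho0 r t := C.d.rho0_pos
  have hrho := C.rhoEq
  rcases d'.cases with ⟨h1, -, -⟩ | ⟨-, h2⟩ | ⟨h1, h2, h3, h4, h5⟩
  · rw [hcy, hrho] at h1
    omega
  · rw [hρ0] at h2
    omega
  · exact ⟨d', h1, h2, h3, h4, h5⟩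

set_option maxHeartbeats 800000 in
/-- The third case does not occur with `ρ₀ = 9`. -/
theorem CData.false_of_nine (C : CData A r y t) (Q : QData A r y t q z) (h9 : rho0 r t = 9) : False := by
  classical
  haveI : Fact (Nat.Prime 2) := ⟨Nat.prime_two⟩
  haveI := C.d.fact
  have hr := C.three
  obtain ⟨hcy, hcyt⟩ := C.cards Q
  rw [h9] at hcy hcyt
  -- a Sylow subgroup of `C(t)`
  set H := centralizer ({t} : Set G) with hH
  set yH : H := ⟨y, mem_centralizer_singleton_iff.2 C.d.comm.symm⟩ with hyH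
  obtain ⟨P, hP⟩ := (IsPGroup.of_card (n := 1)
    (by rw [Nat.card_zpowers, hyH, Subgroup.orderOf_mk, C.d.oy, pow_one]) : IsPGroup r ↥(zpowers yH)).exists_le_sylow
  set R0 : Subgroup G := (P : Subgroup H).map H.subtype with hR0
  have hR0card : Nat.card R0 = 9 := by
    rw [hR0, Subgroup.card_map_of_injective H.subtype_injective, P.card_eq_multiplicity, ← h9, rho0]
  have hyR0 : y ∈ R0 := ⟨yH, hP (mem_zpowers _), rfl⟩
  obtain ⟨R, hR⟩ := (P.isPGroup'.map H.subtype).exists_le_sylow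
  have hab : ∀ a ∈ R0, ∀ b ∈ R0, a * b = b * a := fun a ha b hb =>
    C.d.sylow_comm R a (hR ha) b (hR hb)
  haveI : IsMulCommutative ↥(P : Subgroup H) := ⟨⟨fun a b => Subtype.ext (Subtype.ext
    (hab _ ⟨_, a.2, rfl⟩ _ ⟨_, b.2, rfl⟩))⟩⟩
  have hR0t : ∀ a ∈ R0, a * t = t * a := by
    rintro a ⟨a', -, rfl⟩
    exact mem_centralizer_singleton_iff.1 a'.2
  have hR0o : ∀ a ∈ R0, a ≠ 1 → orderOf a = r := by
    rintro a ⟨a', ha', rfl⟩ ha1
    exact C.d.order_in_sylow P ha' fun e => ha1 (congrArg Subtype.val e)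
  have hr3 : ∀ a ∈ R0, a ^ 3 = 1 := by
    intro a ha
    by_cases ha1 : a = 1
    · rw [ha1, one_pow]
    · rw [← hr, ← hR0o a ha ha1, pow_orderOf_eq_one]
  set E := invSub y C.commI with hEdef
  have hE4 : Nat.card E = 4 := C.card_E
  have ht1 : t ≠ 1 := ne_one_of_order C.d.ot (by norm_num)
  have hmemE : ∀ {f : G}, f ∈ E → f = 1 ∨ (f * y = y * f ∧ orderOf f = 2) := fun hf =>
    hf.imp_right fun h => ⟨mem_centralizer_singleton_iff.1 h.1, h.2⟩
  have hpresE : ∀ c : G, c * y = y * c → ∀ f ∈ E, c * f * c⁻¹ ∈ E := by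
    intro c hc f hf
    rcases hf with rfl | ⟨hf, hf2⟩
    · exact Or.inl (by simp)
    · exact Or.inr ⟨mul_mem (mul_mem (mem_centralizer_singleton_iff.2 hc) hf)
        (inv_mem (mem_centralizer_singleton_iff.2 hc)),
        by rw [← MulAut.conj_apply, MulEquiv.orderOf_eq, hf2]⟩
  have hR0E : ∀ a ∈ R0, ∀ f ∈ E, a * f = f * a := by
    intro a ha f hf
    have h1 := sq_fixes hE4 C.t_mem ht1 (hpresE a (hab a ha y hyR0)) (hR0t a ha) hf
    have h2 : a = (a * a) * (a * a) := by
      calc a = a ^ 3 * a := by rw [hr3 a ha, one_mul]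
        _ = _ := by simp only [pow_succ, pow_zero, one_mul, mul_assoc]
    rw [h2]
    exact ((show Commute (a * a) f from h1).mul_left (show Commute (a * a) f from h1)).eq
  -- the centraliser of each pair centralises `R0`
  have hEy : ∀ w ∈ R0, w ≠ 1 → ∀ g : G, orderOf g = 2 → g * w = w * g → g ∈ E := by
    intro w hw hw1 g hg hgw
    have C' := C.pair Q (hR0o w hw hw1) C.d.ot (hR0t w hw).symm
    have hle : E ≤ invSub w C'.commI := by
      intro f hf
      rcases hmemE hf with rfl | ⟨-, hf2⟩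
      · exact one_mem _
      · exact Or.inr ⟨mem_centralizer_singleton_iff.2 (hR0E w hw f hf).symm, hf2⟩
    rw [Subgroup.eq_of_le_of_card_ge hle (by rw [C'.card_E, hE4])]
    exact Or.inr ⟨mem_centralizer_singleton_iff.2 hgw, hg⟩
  have hcent : ∀ w ∈ R0, w ≠ 1 → ∀ g : G, g * w = w * g → g * t = t * g → ∀ a ∈ R0, g * a = a * g := by
    intro w hw hw1 g hgw hgt
    have C' := C.pair Q (hR0o w hw hw1) C.d.ot (hR0t w hw).symm
    set D := centralizer ({w * t} : Set G) with hD
    have hD36 : Nat.card D = 36 := by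
      rw [hD, (C.d.pair_cards (hR0o w hw hw1) C.d.ot (hR0t w hw).symm).2, hcyt]
    set Z := D ⊓ centralizer (R0 : Set G) with hZ
    have hR0Z : R0 ≤ Z := fun a ha => ⟨C'.d.cent_yt.ge
      ⟨mem_centralizer_singleton_iff.2 (hab a ha w hw), mem_centralizer_singleton_iff.2 (hR0t a ha)⟩,
      mem_centralizer_iff.2 fun b hb => hab b hb a ha⟩
    have hEZ : E ≤ Z := fun f hf => ⟨C'.d.cent_yt.ge ⟨mem_centralizer_singleton_iff.2 (hR0E w hw f hf).symm,
      (C.d.cent_yt.le (C.E_le hf)).2⟩, mem_centralizer_iff.2 fun b hb => hR0E b hb f hf⟩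
    have h36 : 36 ∣ Nat.card Z := (show 36 = 9 * 4 by norm_num) ▸ Nat.Coprime.mul_dvd_of_dvd_of_dvd
      (by norm_num) (hR0card ▸ Subgroup.card_dvd_of_le hR0Z) (hE4 ▸ Subgroup.card_dvd_of_le hEZ)
    have hZD : Z = D :=
      Subgroup.eq_of_le_of_card_ge inf_le_left (hD36 ▸ Nat.le_of_dvd Nat.card_pos h36)
    have hg : g ∈ Z := hZD ▸ C'.d.cent_yt.ge
      ⟨mem_centralizer_singleton_iff.2 hgw, mem_centralizer_singleton_iff.2 hgt⟩
    exact fun a ha => (mem_centralizer_iff.1 hg.2 a ha).symm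
  set Z0 := centralizer (R0 : Set G) with hZ0
  set NH := normalizer ((P : Subgroup H) : Set H) with hNH
  have hnormR0 : ∀ n : NH, ∀ a ∈ R0, ((n : H) : G) * a * (((n : H) : G))⁻¹ ∈ R0 := by
    rintro n a ⟨a', ha', rfl⟩
    exact ⟨_, (mem_normalizer_iff.1 n.2 a').1 ha', rfl⟩
  have hnt : ∀ n : NH, ((n : H) : G) * t = t * ((n : H) : G) := fun n =>
    mem_centralizer_singleton_iff.1 (n : H).2
  -- an element whose square does not centralise
  obtain ⟨n, hn⟩ : ∃ n : NH, ((n : H) : G) * ((n : H) : G) ∉ Z0 := by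
    by_contra hall
    push Not at hall
    have hinv : ∀ n : NH, ((n : H) : G) * y * (((n : H) : G))⁻¹ = y ∨
        ((n : H) : G) * y * (((n : H) : G))⁻¹ = y⁻¹ := by
      intro n
      set g := ((n : H) : G) with hg
      have hy' := hnormR0 n y hyR0
      by_cases h1 : y * (g * y * g⁻¹) = 1
      · exact Or.inr (eq_inv_of_mul_eq_one_right h1)
      · left
        have hgg : g * g * y = y * (g * g) := (mem_centralizer_iff.1 (hall n) y hyR0).symm
        have e : g * (g * y * g⁻¹) * g⁻¹ = y := by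
          calc g * (g * y * g⁻¹) * g⁻¹ = g * g * y * (g * g)⁻¹ := by group
            _ = y := by rw [hgg, mul_inv_cancel_right]
        have hfix : g * (y * (g * y * g⁻¹)) = y * (g * y * g⁻¹) * g := by
          rw [← mul_inv_eq_iff_eq_mul, conj_mul', e]
          exact hab _ hy' y hyR0
        exact mul_inv_eq_iff_eq_mul.2
          (hcent _ (R0.mul_mem hyR0 hy') h1 g hfix (hnt n) y hyR0)
    have hsub : (R0 : Set G) ⊆ {1, y, y⁻¹} := by
      intro a ha
      by_cases ha1 : a = 1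
      · exact Or.inl ha1
      obtain ⟨g, hg1, hg2⟩ := C.d.pair_conj (hR0o a ha ha1) C.d.ot (hR0t a ha).symm
      obtain ⟨a', ha', e⟩ := ha
      obtain ⟨m, hm, em⟩ := P.conj_eq_normalizer_conj_of_mem yH
        (⟨g, mem_centralizer_singleton_iff.2 (mul_inv_eq_iff_eq_mul.1 hg2)⟩ : H)⁻¹ (hP (mem_zpowers _)) (by
          rw [inv_inv, show (⟨g, mem_centralizer_singleton_iff.2 (mul_inv_eq_iff_eq_mul.1 hg2)⟩ : H) * yH *
            (⟨g, mem_centralizer_singleton_iff.2 (mul_inv_eq_iff_eq_mul.1 hg2)⟩ : H)⁻¹ = a' from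
            Subtype.ext (hg1.trans e.symm)]
          exact ha')
      rw [inv_inv] at em
      have em' : g * y * g⁻¹ = ((m : G))⁻¹ * y * (m : G) := congrArg Subtype.val em
      rw [hg1] at em'
      have h := hinv ⟨m⁻¹, NH.inv_mem hm⟩
      simp only [Subgroup.coe_inv, inv_inv] at h
      rw [← em'] at h
      rcases h with h | h
      · exact Or.inr (Or.inl h)
      · exact Or.inr (Or.inr h)
    have h1 := Set.ncard_le_ncard hsub (Set.toFinite _)
    rw [← Nat.card_coe_set_eq] at h1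
    have h2 : ({1, y, y⁻¹} : Set G).ncard ≤ 3 := by
      refine (Set.ncard_insert_le _ _).trans ?_
      have := (Set.ncard_insert_le y ({y⁻¹} : Set G)).trans (by rw [Set.ncard_singleton])
      omega
    have h3 : Nat.card R0 ≤ 3 := h1.trans h2
    omega
  -- its 2-part
  obtain ⟨a, m, hm, hnm⟩ := Nat.exists_eq_pow_mul_and_not_dvd (orderOf_pos n).ne' 2 (by norm_num)
  set PN := (P : Subgroup H).subgroupOf NH with hPN
  haveI : PN.Normal := Subgroup.normal_in_normalizer
  obtain ⟨k, hk⟩ : ∃ k, PN.index = 2 ^ k := two_pow_of_primes Subgroup.index_ne_zero_of_finite C.d.prime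
    (fun s hs hd => C.d.primes_cent_t hs
      (hd.trans ((Subgroup.relIndex_dvd_index_of_le le_normalizer).trans (Subgroup.index_dvd_card _))))
    (fun hd => P.not_dvd_index (hd.trans (Subgroup.relIndex_dvd_index_of_le le_normalizer)))
  set g := ((n : H) : G) with hg
  have hgk : g ^ 2 ^ (k + 1) ∈ Z0 := by
    have h := mem_subgroupOf.1 (hk ▸ Subgroup.pow_index_mem PN n)
    rw [pow_succ, pow_mul]
    refine Z0.pow_mem (mem_centralizer_iff.2 fun b hb => hab b hb _ ?_) 2
    exact ⟨_, h, rfl⟩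
  set s := g ^ m with hs
  have hsn : s = (((n ^ m : NH) : H) : G) := by rw [hs, hg, Subgroup.coe_pow, Subgroup.coe_pow]
  have hsu : s * s ∉ Z0 := by
    intro h
    apply hn
    have h1 : g ^ (2 * m) ∈ Z0 := by rwa [mul_comm, pow_mul, pow_two]
    have hgcd : Nat.gcd (2 * m) (2 ^ (k + 1)) = 2 := by
      rw [pow_succ', Nat.gcd_mul_left, Nat.Coprime.gcd_eq_one, mul_one]
      exact (Nat.coprime_two_right.2 (Nat.odd_iff.2 (by omega))).pow_right k
    have h2 : g ^ (2 : ℤ) ∈ Z0 := by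
      rw [show (2 : ℤ) = ((Nat.gcd (2 * m) (2 ^ (k + 1)) : ℕ) : ℤ) by rw [hgcd]; rfl, Nat.gcd_eq_gcd_ab,
        zpow_add, zpow_mul, zpow_mul, zpow_natCast, zpow_natCast]
      exact Z0.mul_mem (Z0.zpow_mem h1 _) (Z0.zpow_mem hgk _)
    rwa [zpow_ofNat, pow_two] at h2
  have hso : orderOf s = 2 ^ a := by
    rw [hs, hg, orderOf_pow, Subgroup.orderOf_coe, Subgroup.orderOf_coe, hnm,
      Nat.gcd_eq_right (Dvd.intro_left _ rfl), Nat.mul_div_cancel _ (Nat.pos_of_ne_zero (fun e => hm (by rw [e]; exact dvd_zero 2)))]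
  have ha2 := Q.two_pow_dvd_four hso
  have hss1 : s * s ≠ 1 := fun e => hsu (e ▸ Z0.one_mem)
  have ha4 : a = 2 := by
    by_contra hne
    apply hss1
    rw [← pow_two]
    exact orderOf_dvd_iff_pow_eq_one.1 (hso ▸ (Nat.pow_dvd_pow 2 (by omega : a ≤ 1)).trans (dvd_of_eq (pow_one 2)))
  set u := s * s with hu
  have hu2 : orderOf u = 2 := by rw [hu, ← pow_two, orderOf_pow, hso, ha4]; rfl
  have hui : u⁻¹ = u := inv_eq_of_mul_eq_one_right (by rw [← pow_two, ← hu2, pow_orderOf_eq_one])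
  have hst : s * t = t * s := hsn ▸ hnt _
  have hut : u * t = t * u := by rw [hu, mul_assoc, hst, ← mul_assoc, hst, mul_assoc]
  have hsR0 : ∀ a ∈ R0, s * a * s⁻¹ ∈ R0 := hsn ▸ hnormR0 (n ^ m)
  have huR0 : ∀ a ∈ R0, u * a * u⁻¹ ∈ R0 := fun a ha => by
    have := hsR0 _ (hsR0 a ha)
    convert this using 1
    rw [hu]
    group
  -- `u` centralises `E`
  have hsE : ∀ f ∈ E, s * f * s⁻¹ ∈ E := by
    intro f hf
    have hy1 : y ≠ 1 := C.d.out_y.1
    rcases hmemE hf with rfl | ⟨hfy, hf2⟩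
    · simp
    · refine hEy _ (hsR0 y hyR0) (fun e => hy1 (conj_eq_one_iff.1 e)) _
        (by rw [← MulAut.conj_apply, MulEquiv.orderOf_eq, hf2]) ?_
      rw [← conj_mul', ← conj_mul', hfy]
  have huE : ∀ f ∈ E, u * f = f * u := fun f hf => sq_fixes hE4 C.t_mem ht1 hsE hst hf
  -- `u` inverts `R0`
  have hinv : ∀ b ∈ R0, u * b * u⁻¹ = b⁻¹ := by
    intro b hb
    refine eq_inv_of_mul_eq_one_right (by_contra fun hne => hsu ?_)
    refine mem_centralizer_iff.2 fun a ha => (hcent _ (R0.mul_mem hb (huR0 b hb)) hne u ?_ hut a ha).symm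
    have e : u * (u * b * u⁻¹) * u⁻¹ = b := by
      rw [hui]
      have huu : u * u = 1 := by rw [← pow_two, ← hu2, pow_orderOf_eq_one]
      calc u * (u * b * u) * u = u * u * b * (u * u) := by group
        _ = b := by rw [huu, one_mul, mul_one]
    rw [← mul_inv_eq_iff_eq_mul, conj_mul', e]
    exact hab _ (huR0 b hb) b hb
  have hyR : y ∈ (R : Subgroup G) := hR hyR0
  have hRcy := C.d.R_le_cent R hyR
  obtain ⟨w, hwR, hwt⟩ : ∃ w ∈ (R : Subgroup G), w * t ≠ t * w := by
    by_contra hall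
    push Not at hall
    have h1 := Subgroup.card_dvd_of_le (show (R : Subgroup G) ≤ centralizer ({y * t} : Set G) from fun w hw =>
      C.d.cent_yt.ge ⟨hRcy hw, mem_centralizer_singleton_iff.2 (hall w hw)⟩)
    rw [card_sylow_rho, C.rhoEq, h9, hcyt] at h1
    norm_num at h1
  have hwy : w * y = y * w := mem_centralizer_singleton_iff.1 (hRcy hwR)
  -- the decomposition
  have hdec : ∀ x ∈ centralizer ({y * t} : Set G), ∃ a ∈ R0, ∃ e ∈ E, x = a * e := by
    intro x hx
    let F : ↥R0 × ↥E → ↥(centralizer ({y * t} : Set G)) := fun p =>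
      ⟨(p.1 : G) * p.2, mul_mem (C.d.cent_yt.ge ⟨mem_centralizer_singleton_iff.2 (hab _ p.1.2 y hyR0),
        mem_centralizer_singleton_iff.2 (hR0t _ p.1.2)⟩) (C.E_le p.2.2)⟩
    have hinj : Function.Injective F := by
      rintro ⟨p, f⟩ ⟨p', f'⟩ h
      have h' : (p : G) * f = p' * f' := congrArg Subtype.val h
      have hmem : (p' : G)⁻¹ * p ∈ R0 ⊓ E := by
        refine ⟨R0.mul_mem (R0.inv_mem p'.2) p.2, ?_⟩
        have : (p' : G)⁻¹ * p = f' * (f : G)⁻¹ := by
          rw [eq_mul_inv_iff_mul_eq, mul_assoc, h', inv_mul_cancel_left]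
        rw [this]
        exact E.mul_mem f'.2 (E.inv_mem f.2)
      have hbot : R0 ⊓ E = ⊥ := Subgroup.inf_eq_bot_of_coprime (by rw [hR0card, hE4]; norm_num)
      rw [hbot, Subgroup.mem_bot, inv_mul_eq_one] at hmem
      rw [← hmem] at h'
      exact Prod.ext (Subtype.ext hmem.symm) (Subtype.ext (mul_left_cancel h'))
    have hbij : Function.Bijective F := (Nat.bijective_iff_injective_and_card F).2
      ⟨hinj, by rw [Nat.card_prod, hR0card, hE4, hcyt]⟩
    obtain ⟨⟨p, f⟩, hp⟩ := hbij.2 ⟨x, hx⟩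
    exact ⟨p, p.2, f, f.2, (congrArg Subtype.val hp).symm⟩
  have huu : u * u = 1 := by rw [← pow_two, ← hu2, pow_orderOf_eq_one]
  have huwu_y : u * w * u * y = y * (u * w * u) := by
    have e : u * y = y⁻¹ * u := mul_inv_eq_iff_eq_mul.1 (hinv y hyR0)
    have e' : u * y⁻¹ = y * u := by
      have := mul_inv_eq_iff_eq_mul.1 (hinv y⁻¹ (R0.inv_mem hyR0))
      rwa [inv_inv] at this
    calc u * w * u * y = u * w * (u * y) := by group
      _ = u * (w * y⁻¹) * u := by rw [e]; group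
      _ = u * (y⁻¹ * w) * u := by rw [((show Commute w y from hwy).inv_right).eq]
      _ = u * y⁻¹ * w * u := by group
      _ = _ := by rw [e']; group
  obtain ⟨a0, ha0, e0, he0, hδ⟩ := hdec (u * w * u * w⁻¹) (C.d.cent_yt.ge
    ⟨(centralizer ({y} : Set G)).mul_mem (mem_centralizer_singleton_iff.2 huwu_y)
      ((centralizer ({y} : Set G)).inv_mem (hRcy hwR)), mem_centralizer_singleton_iff.2 (by
      have hf : w⁻¹ * t * w ∈ E := by
        have h := hpresE w⁻¹ ((show Commute w y from hwy).inv_left).eq t C.t_mem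
        rwa [inv_inv] at h
      calc u * w * u * w⁻¹ * t = u * w * (u * (w⁻¹ * t * w)) * w⁻¹ := by group
        _ = u * w * (w⁻¹ * t * w * u) * w⁻¹ := by rw [huE _ hf]
        _ = u * t * (w * u * w⁻¹) := by group
        _ = _ := by rw [hut]; group)⟩)
  have huwu : u * w * u = a0 * e0 * w := mul_inv_eq_iff_eq_mul.1 hδ
  set b := a0 * a0 with hb
  have hbR : b ∈ R0 := R0.mul_mem ha0 ha0
  have hbb : b * b = a0 := by
    calc b * b = a0 ^ 3 * a0 := by rw [hb]; simp only [pow_succ, pow_zero, one_mul, mul_assoc]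
      _ = a0 := by rw [hr3 a0 ha0, one_mul]
  set w1 := b * w with hw1
  have huw1 : u * w1 * u = e0 * w1 := by
    calc u * w1 * u = u * b * u⁻¹ * (u * w * u) := by rw [hw1, hui]; (calc
          u * (b * w) * u = u * b * (u * u) * w * u := by rw [huu]; group
          _ = _ := by group)
      _ = b⁻¹ * (a0 * e0 * w) := by rw [hinv b hbR, huwu]
      _ = b * e0 * w := by rw [← hbb]; group
      _ = _ := by rw [hR0E b hbR e0 he0, mul_assoc]
  have hw1R : w1 ∈ (R : Subgroup G) := (R : Subgroup G).mul_mem (hR hbR) hwR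
  have hw1y : w1 * y = y * w1 := C.d.sylow_comm R w1 hw1R y hyR
  have hw1t : w1 * t ≠ t * w1 := by
    intro e
    apply hwt
    rw [hw1, mul_assoc, ← mul_assoc t, ← hR0t b hbR, mul_assoc b t w] at e
    exact mul_left_cancel e
  have hw1ne : w1 ≠ 1 := fun e => hw1t (by rw [e, one_mul, mul_one])
  have hw1o : orderOf w1 = r := by
    obtain ⟨j, hj⟩ := IsPGroup.iff_orderOf.1 R.isPGroup' ⟨w1, hw1R⟩
    rw [Subgroup.orderOf_mk] at hj
    have hout : Out A w1 := C.d.out_of_comm C.d.out_y hw1ne hw1y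
    have hodd : orderOf w1 % 2 = 1 := by
      rw [hj]; exact Nat.odd_iff.1 (C.d.prime.odd_of_ne_two C.d.ne_two).pow
    rcases Q.orders hout with e | e | e | e | e
    · omega
    · omega
    · exact e
    · omega
    · exfalso
      rw [hj] at e
      exact Q.qr ((Nat.prime_dvd_prime_iff_eq Q.hq C.d.prime).1 (Q.hq.dvd_of_dvd_pow (dvd_of_eq e.symm)))
  have hcommE : ∀ p ∈ E, ∀ p' ∈ E, p * p' = p' * p := by
    intro p hp p' hp'
    rcases hp with rfl | ⟨hp, hp2⟩
    · simp
    rcases hp' with rfl | ⟨hp', hp2'⟩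
    · simp
    exact C.commI p p' hp hp' hp2 hp2'
  have hnofix : ∀ f ∈ E, f ≠ 1 → w1 * f ≠ f * w1 := by
    intro f hf hf1 e
    have h1 := sq_fixes hE4 hf hf1 (hpresE w1 hw1y) e C.t_mem
    apply hw1t
    have h3 : w1 = (w1 * w1) * (w1 * w1) := by
      calc w1 = w1 ^ 3 * w1 := by rw [← hr, ← hw1o, pow_orderOf_eq_one, one_mul]
        _ = _ := by simp only [pow_succ, pow_zero, one_mul, mul_assoc]
    rw [h3]
    exact ((show Commute (w1 * w1) t from h1).mul_left (show Commute (w1 * w1) t from h1)).eq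
  obtain ⟨f, hf, hfe⟩ : ∃ f ∈ E, f * (w1 * f * w1⁻¹) = e0 := by
    let F : E → E := fun f => ⟨(f : G) * (w1 * f * w1⁻¹), E.mul_mem f.2 (hpresE w1 hw1y f f.2)⟩
    have hinj : Function.Injective F := by
      intro p p' h
      have h' : (p : G) * (w1 * p * w1⁻¹) = p' * (w1 * p' * w1⁻¹) := congrArg Subtype.val h
      by_contra hne
      have hd : (p' : G)⁻¹ * p ∈ E := E.mul_mem (E.inv_mem p'.2) p.2
      have hd1 : (p' : G)⁻¹ * p ≠ 1 := fun e => hne (Subtype.ext (inv_mul_eq_one.1 e).symm)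
      have hd2 : orderOf ((p' : G)⁻¹ * p) = 2 := (hmemE hd).resolve_left hd1 |>.2
      have hdinv : ((p' : G)⁻¹ * p)⁻¹ = (p' : G)⁻¹ * p :=
        inv_eq_of_mul_eq_one_right (by rw [← pow_two, ← hd2, pow_orderOf_eq_one])
      have e : w1 * ((p' : G)⁻¹ * p) * w1⁻¹ = ((p' : G)⁻¹ * p)⁻¹ := by
        apply eq_inv_of_mul_eq_one_right
        have hc1 := hcommE _ (hpresE w1 hw1y _ (E.inv_mem p'.2)) _ p.2
        calc (p' : G)⁻¹ * p * (w1 * ((p' : G)⁻¹ * p) * w1⁻¹)
            = (p' : G)⁻¹ * ((p : G) * (w1 * (p' : G)⁻¹ * w1⁻¹)) * (w1 * p * w1⁻¹) := by group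
          _ = (p' : G)⁻¹ * (w1 * (p' : G)⁻¹ * w1⁻¹) * ((p : G) * (w1 * p * w1⁻¹)) := by rw [← hc1]; group
          _ = (p' : G)⁻¹ * (w1 * (p' : G)⁻¹ * w1⁻¹) * ((p' : G) * (w1 * p' * w1⁻¹)) := by rw [h']
          _ = (p' : G)⁻¹ * ((w1 * (p' : G)⁻¹ * w1⁻¹) * p') * (w1 * p' * w1⁻¹) := by group
          _ = _ := by
            rw [hcommE _ (hpresE w1 hw1y _ (E.inv_mem p'.2)) _ p'.2]
            group
      exact hnofix _ hd hd1 (mul_inv_eq_iff_eq_mul.1 (e.trans hdinv))
    obtain ⟨f, hf⟩ := (Finite.injective_iff_surjective.1 hinj) ⟨e0, he0⟩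
    exact ⟨f, f.2, congrArg Subtype.val hf⟩
  set u' := u * f with hu'
  have hfi : f⁻¹ = f := by
    rcases hmemE hf with rfl | ⟨-, hf2⟩
    · exact inv_one
    · exact inv_eq_of_mul_eq_one_right (by rw [← pow_two, ← hf2, pow_orderOf_eq_one])
  have huf : u * f = f * u := huE f hf
  have hu'i : u' * u' = 1 := by
    calc u' * u' = u * (f * u) * f := by rw [hu']; group
      _ = u * u * (f * f) := by rw [← huf]; group
      _ = 1 := by rw [huu, one_mul]; nth_rewrite 2 [← hfi]; exact mul_inv_cancel f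
  have hu'y : u' * y * u'⁻¹ = y⁻¹ := by
    have hfy : f * y = y * f := (hR0E y hyR0 f hf).symm
    calc u' * y * u'⁻¹ = u * (f * y) * f⁻¹ * u⁻¹ := by rw [hu']; group
      _ = u * y * u⁻¹ := by rw [hfy]; group
      _ = _ := hinv y hyR0
  have hu'w : u' * w1 = w1 * u' := by
    have he0e0 : e0 * e0 = 1 := by
      rcases hmemE he0 with rfl | ⟨-, he2⟩
      · exact one_mul 1
      · rw [← pow_two, ← he2, pow_orderOf_eq_one]
    have e1 : f * w1 * f = e0 * w1 := by rw [← hfe]; group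
    have e2 : u' * w1 * u' = w1 := by
      calc u' * w1 * u' = u * f * w1 * (f * u) := by rw [hu', ← huf]
        _ = u * (f * w1 * f) * u := by group
        _ = u * e0 * w1 * u := by rw [e1]; group
        _ = e0 * (u * w1 * u) := by rw [huE e0 he0]; group
        _ = _ := by rw [huw1, ← mul_assoc, he0e0, one_mul]
    calc u' * w1 = u' * w1 * (u' * u') := by rw [hu'i, mul_one]
      _ = u' * w1 * u' * u' := by group
      _ = _ := by rw [e2]
  have hy1 : y ≠ 1 := C.d.out_y.1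
  have hu'1 : u' ≠ 1 := by
    intro e
    rw [e, one_mul, inv_one, mul_one] at hu'y
    have h := orderOf_dvd_of_pow_eq_one (x := y) (n := 2) (by rw [pow_two]; exact mul_eq_one_iff_eq_inv.2 hu'y)
    rw [C.d.oy] at h
    exact C.d.ne_two ((Nat.prime_dvd_prime_iff_eq C.d.prime Nat.prime_two).1 h)
  have hu'2 : orderOf u' = 2 := orderOf_eq_prime (by rw [pow_two, hu'i]) hu'1
  have C1 := C.pair Q hw1o hu'2 hu'w
  set v := y * u' * y⁻¹ with hv
  have hv2 : orderOf v = 2 := by rw [hv, ← MulAut.conj_apply, MulEquiv.orderOf_eq, hu'2]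
  have hvw : v * w1 = w1 * v := by
    calc v * w1 = y * u' * (y⁻¹ * w1) := by rw [hv]; group
      _ = y * (u' * w1) * y⁻¹ := by rw [← ((show Commute w1 y from hw1y).inv_right).eq]; group
      _ = y * w1 * u' * y⁻¹ := by rw [hu'w]; group
      _ = _ := by rw [← hw1y, hv]; group
  have hc := C1.commI u' v (mem_centralizer_singleton_iff.2 hu'w) (mem_centralizer_singleton_iff.2 hvw) hu'2 hv2
  have huv : u' * v = y⁻¹ * y⁻¹ := by
    have e : u' * y = y⁻¹ * u' := mul_inv_eq_iff_eq_mul.1 hu'y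
    have e' : u' * y⁻¹ = y * u' := by
      calc u' * y⁻¹ = y * (y⁻¹ * u') * y⁻¹ := by group
        _ = y * (u' * y) * y⁻¹ := by rw [e]
        _ = _ := by group
    calc u' * v = u' * y * (u' * y⁻¹) := by rw [hv]; group
      _ = y⁻¹ * u' * (y * u') := by rw [e, e']
      _ = y⁻¹ * (u' * y) * u' := by group
      _ = y⁻¹ * y⁻¹ * (u' * u') := by rw [e]; group
      _ = _ := by rw [hu'i, mul_one]
  have h4 : (u' * v) * (u' * v) = 1 := by
    calc (u' * v) * (u' * v) = u' * (v * u') * v := by group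
      _ = u' * u' * (v * v) := by rw [← hc]; group
      _ = 1 := by rw [hu'i, one_mul, ← pow_two, ← hv2, pow_orderOf_eq_one]
  rw [huv] at h4
  have hd4 : orderOf y ∣ 4 := by
    refine orderOf_dvd_of_pow_eq_one ?_
    rw [← inv_inj, inv_one, ← h4]
    group
  rw [C.d.oy, hr] at hd4
  norm_num at hd4

end Cfsg.Agent.Invol.ThreeTI
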