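import Cfsg.Agent.Lib.Invol.ThreeTI.Cent
import Cfsg.Agent.Lib.Grp.Solvable
import Cfsg.Agent.Lib.Grp.Cores
import Cfsg.Agent.S0144

/-!
# The structure of `C(y)`

Either `C(y)` is a Sylow `r`-subgroup extended by an involution, or it has a single involution, or `r = 3` and
its three involutions commute.
-/

set_option autoImplicit false
set_option linter.style.haveILetI false
set_option linter.unusedSectionVars false

namespace Cfsg.Agent.Invol.ThreeTI

open Subgroup

universe u

theorem eq_of_pow_mul {r : ℕ} (hr : r.Prime) (hr2 : r ≠ 2) {a b i j : ℕ} (h : 2 ^ a * r ^ i = 2 ^ b * r ^ j) :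
    a = b ∧ i = j := by
  have hcop : Nat.Coprime 2 r := (Nat.coprime_primes Nat.prime_two hr).2 (Ne.symm hr2)
  have h1 : 2 ^ a ∣ 2 ^ b := (hcop.pow a j).dvd_of_dvd_mul_right (h ▸ Dvd.intro _ rfl)
  have h2 : 2 ^ b ∣ 2 ^ a := (hcop.pow b i).dvd_of_dvd_mul_right (h.symm ▸ Dvd.intro _ rfl)
  have e := Nat.dvd_antisymm h1 h2
  have hab : a = b := Nat.pow_right_injective le_rfl e
  subst hab
  exact ⟨rfl, Nat.pow_right_injective hr.two_le (Nat.eq_of_mul_eq_mul_left (Nat.two_pow_pos a) h)⟩

/-- In a solvable group with abelian Sylow `r`-subgroup and no other prime but two, without normal 2-subgroups,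
the Sylow `r`-subgroup is normal. -/
theorem sylow_normal_of_no_two {X : Type u} [Group X] [Finite X] [Group.IsSolvable X] {r : ℕ} [Fact r.Prime]
    (hprimes : ∀ q : ℕ, q.Prime → q ∣ Nat.card X → q = 2 ∨ q = r)
    (hno : ∀ N : Subgroup X, N.Normal → IsPGroup 2 N → N = ⊥) (R : Sylow r X)
    (hab : ∀ a ∈ (R : Subgroup X), ∀ b ∈ (R : Subgroup X), a * b = b * a) : (R : Subgroup X).Normal := by
  haveI : Fact (Nat.Prime 2) := ⟨Nat.prime_two⟩
  set F := Cfsg.fittingSubgroup X with hF
  haveI hFn : F.Normal := Grp.fittingSubgroup_isNormal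
  haveI : Group.IsNilpotent ↥F := Grp.fittingSubgroup_isNilpotent
  obtain ⟨P⟩ := (inferInstance : Nonempty (Sylow 2 ↥F))
  haveI hPn : (P : Subgroup ↥F).Normal := inferInstance
  haveI : (P : Subgroup ↥F).Characteristic := P.characteristic_of_normal hPn
  have hP : (P : Subgroup ↥F).map F.subtype = ⊥ :=
    hno _ inferInstance (P.isPGroup'.map F.subtype)
  have h2 : ¬ 2 ∣ Nat.card ↥F := fun h2 => by
    have h1 := Subgroup.card_map_of_injective (K := (P : Subgroup ↥F)) F.subtype_injective
    rw [hP, Subgroup.card_bot] at h1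
    exact P.not_dvd_index (by rw [← one_mul (Subgroup.index _), h1, Subgroup.card_mul_index]; exact h2)
  have hFr : IsPGroup r ↥F := IsPGroup.of_card (Nat.eq_prime_pow_of_unique_prime_dvd Nat.card_pos.ne'
    fun {q} hq hd => (hprimes q hq (hd.trans (Subgroup.card_subgroup_dvd_card F))).resolve_left
      fun e => h2 (e ▸ hd))
  have hFR : F ≤ (R : Subgroup X) := by
    obtain ⟨Q, hQ⟩ := hFr.exists_le_sylow
    obtain ⟨g, hg⟩ := MulAction.exists_smul_eq X Q R
    intro x hx
    rw [← hg]
    have : g⁻¹ * x * g⁻¹⁻¹ ∈ F := hFn.conj_mem x hx g⁻¹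
    rw [inv_inv] at this
    have := Subgroup.smul_mem_pointwise_smul _ (MulAut.conj g) (Q : Subgroup X) (hQ this)
    rw [Sylow.coe_subgroup_smul]
    simpa [mul_assoc] using this
  have hRF : (R : Subgroup X) ≤ F := fun x hx => Grp.centralizer_fittingSubgroup_le
    (mem_centralizer_iff.2 fun y hy => hab y (hFR hy) x hx)
  exact le_antisymm hFR hRF ▸ hFn

variable {G : Type u} [Group G] [Finite G] [IsSimpleGroup G] {A : Fin 3 → Subgroup G} {r : ℕ} {y t : G}

/-- The three possible shapes of `C(y)`. -/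
theorem YData.cases (d : YData A r y t) :
    (Nat.card ↥(centralizer ({y} : Set G)) = 2 * rho G r ∧
        Nat.card ↥(centralizer ({y * t} : Set G)) = 2 * rho0 r t ∧
        ∀ R : Sylow r G, y ∈ (R : Subgroup G) →
          centralizer ({y} : Set G) ≤ normalizer ((R : Subgroup G) : Set G)) ∨
    ((∀ u, u ∈ centralizer ({y} : Set G) → orderOf u = 2 → u = t) ∧ rho G r = rho0 r t) ∨
    (r = 3 ∧ rho G r = 3 * rho0 r t ∧
        Nat.card ↥(centralizer ({y} : Set G)) = 3 * Nat.card ↥(centralizer ({y * t} : Set G)) ∧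
        Nat.card {u : G // u ∈ centralizer ({y} : Set G) ∧ orderOf u = 2} = 3 ∧
        ∀ u v, u ∈ centralizer ({y} : Set G) → v ∈ centralizer ({y} : Set G) → orderOf u = 2 →
          orderOf v = 2 → u * v = v * u) := by
  classical
  haveI := d.fact
  haveI : Fact (Nat.Prime 2) := ⟨Nat.prime_two⟩
  have h3 := d.three_le
  obtain ⟨a, ha⟩ := d.card_cent_y
  obtain ⟨b, hb⟩ := d.card_cent_yt
  set C := centralizer ({y} : Set G) with hC
  set tC : C := ⟨t, mem_centralizer_singleton_iff.2 d.comm⟩ with htC
  -- one class of involutions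
  have hone : ∀ u : C, orderOf u = 2 → IsConj tC u := by
    intro u hu
    obtain ⟨g, hg1, hg2⟩ := d.pair_conj d.oy (by rw [Subgroup.orderOf_coe, hu] : orderOf (u : G) = 2)
      (mem_centralizer_singleton_iff.1 u.2)
    exact isConj_iff.2 ⟨⟨g, mem_centralizer_singleton_iff.2 (mul_inv_eq_iff_eq_mul.1 hg1)⟩, Subtype.ext hg2⟩
  have htC2 : orderOf tC = 2 := by rw [htC, Subgroup.orderOf_mk, d.ot]
  have hI : Nat.card {u : C // orderOf u = 2} * Nat.card ↥(centralizer ({y * t} : Set G)) = Nat.card C := by
    have e1 : Nat.card {u : C // orderOf u = 2} = Nat.card ↥(ConjClasses.mk tC).carrier := by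
      refine Nat.card_congr (Equiv.subtypeEquivRight fun u => ?_)
      rw [ConjClasses.mem_carrier_iff_mk_eq, ConjClasses.mk_eq_mk_iff_isConj]
      exact ⟨fun hu => (hone u hu).symm, fun hu => (orderOf_eq_of_isConj hu).trans htC2⟩
    have e2 : Nat.card ↥(centralizer ({y * t} : Set G)) = Nat.card ↥(centralizer ({tC} : Set C)) := by
      refine Nat.card_congr ⟨fun g => ⟨⟨g.1, ?_⟩, ?_⟩, fun g => ⟨g.1.1, ?_⟩, fun _ => rfl, fun _ => rfl⟩
      · exact (d.cent_yt.le g.2).1
      · exact mem_centralizer_singleton_iff.2 (Subtype.ext (mem_centralizer_singleton_iff.1 (d.cent_yt.le g.2).2))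
      · exact d.cent_yt.ge ⟨g.1.2, mem_centralizer_singleton_iff.2
          (congrArg Subtype.val (mem_centralizer_singleton_iff.1 g.2))⟩
    rw [e1, e2, card_carrier_mul]
  have hIG : Nat.card {u : G // u ∈ C ∧ orderOf u = 2} = Nat.card {u : C // orderOf u = 2} :=
    Nat.card_congr ⟨fun u => ⟨⟨u.1, u.2.1⟩, (Subgroup.orderOf_mk u.1 u.2.1).trans u.2.2⟩,
      fun u => ⟨u.1.1, u.1.2, (Subgroup.orderOf_coe u.1).trans u.2⟩, fun _ => rfl, fun _ => rfl⟩
  by_cases hcomm : ∀ u v : C, orderOf u = 2 → orderOf v = 2 → u * v = v * u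
  · right
    let E : Subgroup C :=
      { carrier := {x | x = 1 ∨ orderOf x = 2}
        one_mem' := Or.inl rfl
        mul_mem' := by
          rintro p q (rfl | hp) (rfl | hq)
          · exact Or.inl (one_mul 1)
          · exact Or.inr (by rw [one_mul]; exact hq)
          · exact Or.inr (by rw [mul_one]; exact hp)
          · by_cases hpq : p * q = 1
            · exact Or.inl hpq
            · refine Or.inr (orderOf_eq_prime ?_ hpq)
              rw [(show Commute p q from hcomm p q hp hq).mul_pow, ← hp, pow_orderOf_eq_one, hp, ← hq,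
                pow_orderOf_eq_one, one_mul]
        inv_mem' := by
          rintro p (rfl | hp)
          · exact Or.inl inv_one
          · exact Or.inr (by rw [orderOf_inv]; exact hp) }
    have hEp : IsPGroup 2 E := fun x => ⟨1, by
      rcases x.2 with e | e
      · exact Subtype.ext (by simp [e])
      · refine Subtype.ext ?_
        rw [Subgroup.coe_pow, pow_one, ← e, pow_orderOf_eq_one, Subgroup.coe_one]⟩
    obtain ⟨e, he⟩ := IsPGroup.iff_card.1 hEp
    have hcardI : Nat.card {u : C // orderOf u = 2} + 1 = 2 ^ e := by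
      let f : {u : C // orderOf u = 2} ≃ {x : E // x ≠ 1} :=
        ⟨fun u => ⟨⟨u.1, Or.inr u.2⟩, fun h => by
          have h' : u.1 = 1 := congrArg Subtype.val h
          have := u.2
          rw [h', orderOf_one] at this
          omega⟩,
         fun x => ⟨x.1.1, x.1.2.resolve_left fun h => x.2 (Subtype.ext h)⟩, fun _ => rfl, fun _ => rfl⟩
      letI := Fintype.ofFinite ↥E
      have hpos : 0 < Fintype.card ↥E := Fintype.card_pos
      rw [← he, Nat.card_congr f, Nat.card_eq_fintype_card, Fintype.card_subtype_compl,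
        Fintype.card_subtype_eq, Nat.card_eq_fintype_card]
      omega
    have hdI : Nat.card {u : C // orderOf u = 2} ∣ r ^ (Nat.card G).factorization r := by
      have hd : Nat.card {u : C // orderOf u = 2} ∣ 2 ^ a * rho G r := by rw [← ha]; exact Dvd.intro _ hI
      refine (Nat.Coprime.pow_right a ?_).dvd_of_dvd_mul_left hd
      rw [Nat.coprime_two_right, Nat.odd_iff]
      have hpos : 0 < Nat.card {u : C // orderOf u = 2} := by
        haveI : Nonempty {u : C // orderOf u = 2} := ⟨⟨tC, htC2⟩⟩
        exact Nat.card_pos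
      have he1 : 1 ≤ e := by
        rcases Nat.eq_zero_or_pos e with rfl | h0
        · simp at hcardI; omega
        · exact h0
      have : 2 ∣ 2 ^ e := dvd_pow_self 2 (by omega)
      omega
    obtain ⟨k, -, hk⟩ := (Nat.dvd_prime_pow d.prime).1 hdI
    rw [hk] at hI hcardI
    have hr35 : r = 3 ∨ r = 5 := by rcases d.rho0_shape with h | h | h <;> omega
    rcases two_pow_eq_pow_succ hr35 hcardI.symm with rfl | ⟨hr, rfl⟩
    · left
      rw [pow_zero] at hk
      have hsub : Subsingleton {u : C // orderOf u = 2} := Finite.card_le_one_iff_subsingleton.1 hk.le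
      refine ⟨fun u hu hu2 => ?_, ?_⟩
      · exact congrArg (fun w : {u : C // orderOf u = 2} => ((w.1 : C) : G))
          (hsub.elim ⟨⟨u, hu⟩, by rw [Subgroup.orderOf_mk]; exact hu2⟩ ⟨tC, htC2⟩)
      · rw [pow_zero, one_mul, ha, hb, rho, rho0] at hI
        rw [rho, rho0, (eq_of_pow_mul d.prime d.ne_two hI.symm).2]
    · right
      rw [pow_one] at hI hk
      subst hr
      refine ⟨rfl, ?_, hI.symm, hIG.trans hk, fun u v hu hv hu2 hv2 => ?_⟩
      · rw [ha, hb, rho, rho0, ← mul_assoc, mul_comm 3, mul_assoc, ← pow_succ'] at hI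
        rw [rho, rho0, ← (eq_of_pow_mul d.prime d.ne_two hI).2, pow_succ']
      · exact congrArg Subtype.val (hcomm ⟨u, hu⟩ ⟨v, hv⟩ (by rw [Subgroup.orderOf_mk]; exact hu2)
          (by rw [Subgroup.orderOf_mk]; exact hv2))
  · left
    -- no normal 2-subgroup
    have hno : ∀ N : Subgroup C, N.Normal → IsPGroup 2 N → N = ⊥ := by
      intro N hN hNp
      by_contra hNb
      haveI : Nontrivial N := (Subgroup.nontrivial_iff_ne_bot N).2 hNb
      haveI := hNp.center_nontrivial
      obtain ⟨z, hz⟩ := exists_ne (1 : ↥(Subgroup.center N))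
      obtain ⟨m, hm⟩ := IsPGroup.iff_orderOf.1 (hNp.to_subgroup (Subgroup.center N)) z
      have hm0 : m ≠ 0 := fun e => hz (orderOf_eq_one_iff.1 (by rw [hm, e, pow_zero]))
      set w := z ^ 2 ^ (m - 1) with hw
      have hw2 : orderOf w = 2 := by
        rw [hw, orderOf_pow, hm, Nat.gcd_eq_right (Nat.pow_dvd_pow 2 (by omega)),
          Nat.pow_div (by omega) (by omega), show m - (m - 1) = 1 by omega, pow_one]
      set wC : C := ((w : N) : C) with hwC
      have hwC2 : orderOf wC = 2 := by rw [hwC, Subgroup.orderOf_coe, Subgroup.orderOf_coe, hw2]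
      have hall : ∀ u : C, orderOf u = 2 → u ∈ N := by
        intro u hu
        obtain ⟨c, hc⟩ := isConj_iff.1 ((hone wC hwC2).symm.trans (hone u hu))
        rw [← hc]
        exact hN.conj_mem _ (w : N).2 c
      refine hcomm fun u v hu hv => ?_
      obtain ⟨c, hc⟩ := isConj_iff.1 ((hone wC hwC2).symm.trans (hone u hu))
      have hcv : c⁻¹ * v * c ∈ N := by
        have := hN.conj_mem v (hall v hv) c⁻¹
        rwa [inv_inv] at this
      have e : c⁻¹ * v * c * wC = wC * (c⁻¹ * v * c) :=
        congrArg Subtype.val (Subgroup.mem_center_iff.1 w.2 ⟨_, hcv⟩)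
      rw [← hc]
      calc c * wC * c⁻¹ * v = c * (wC * (c⁻¹ * v * c)) * c⁻¹ := by group
        _ = c * (c⁻¹ * v * c * wC) * c⁻¹ := by rw [e]
        _ = _ := by group
    have hprimes : ∀ q : ℕ, q.Prime → q ∣ Nat.card C → q = 2 ∨ q = r := fun q hq hd => d.primes_cent_y hq hd
    haveI : Group.IsSolvable C := S0144.result 2 r a ((Nat.card G).factorization r) Nat.prime_two d.prime
      (by rw [ha, rho])
    have hRn : ∀ R : Sylow r G, y ∈ (R : Subgroup G) →
        C ≤ normalizer ((R : Subgroup G) : Set G) := by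
      intro R hR
      have hle := d.R_le_cent R hR
      have hn := sylow_normal_of_no_two hprimes hno (R.subtype hle) (fun p hp q hq => Subtype.ext
        (d.sylow_comm R p (mem_subgroupOf.1 hp) q (mem_subgroupOf.1 hq)))
      intro g hg
      rw [mem_normalizer_iff]
      intro x
      constructor
      · intro hx
        exact mem_subgroupOf.1 (hn.conj_mem ⟨x, hle hx⟩ (mem_subgroupOf.2 hx) ⟨g, hg⟩)
      · intro hx
        have := mem_subgroupOf.1 (hn.conj_mem ⟨_, hle hx⟩ (mem_subgroupOf.2 hx) ⟨g, hg⟩⁻¹)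
        simpa [mul_assoc] using this
    obtain ⟨R, hR⟩ := d.exists_R
    have hle := d.R_le_cent R hR
    set RC : Subgroup C := (R : Subgroup G).subgroupOf C with hRC
    haveI hRCn : RC.Normal := by
      refine ⟨fun x hx g => mem_subgroupOf.2 ?_⟩
      exact (mem_normalizer_iff.1 (hRn R hR g.2) _).1 (mem_subgroupOf.1 hx)
    have hRCcard : Nat.card RC = rho G r := by
      rw [Nat.card_congr (subgroupOfEquivOfLe hle).toEquiv, card_sylow_rho]
    -- a Sylow 2-subgroup with the involution central
    obtain ⟨T⟩ := (inferInstance : Nonempty (Sylow 2 C))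
    have hTcard : Nat.card (T : Subgroup C) = 2 ^ a := by
      rw [T.card_eq_multiplicity, ha]
      congr 1
      rw [Nat.factorization_mul (by positivity) (by rw [rho]; exact (Nat.pow_pos d.prime.pos).ne'), rho,
        Nat.factorization_pow, Nat.factorization_pow, Nat.Prime.factorization Nat.prime_two,
        Nat.Prime.factorization d.prime]
      simp [d.ne_two]
    have hcopRT : Nat.Coprime (Nat.card RC) (Nat.card (T : Subgroup C)) := by
      rw [hRCcard, hTcard, rho]
      exact d.coprime_two.pow _ a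
    have hcompl : RC.IsComplement' (T : Subgroup C) :=
      Subgroup.isComplement'_of_coprime (by rw [hRCcard, hTcard, ha, mul_comm]) hcopRT
    have hinf : ∀ x, x ∈ RC → x ∈ (T : Subgroup C) → x = 1 := fun x h1 h2 =>
      Subgroup.mem_bot.1 (hcompl.disjoint.le_bot ⟨h1, h2⟩)
    have hTconj : ∀ u ∈ (T : Subgroup C), ∀ v ∈ (T : Subgroup C), IsConj u v →
        ∃ τ ∈ (T : Subgroup C), τ * u * τ⁻¹ = v := by
      intro u hu v hv hc
      obtain ⟨g, hg⟩ := isConj_iff.1 hc
      obtain ⟨⟨p, τ⟩, rfl⟩ := hcompl.2 g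
      have hw : (τ : C) * u * (τ : C)⁻¹ ∈ (T : Subgroup C) :=
        (T : Subgroup C).mul_mem ((T : Subgroup C).mul_mem τ.2 hu) ((T : Subgroup C).inv_mem τ.2)
      refine ⟨τ, τ.2, ?_⟩
      set w := (τ : C) * u * (τ : C)⁻¹ with hwdef
      have hm : v * w⁻¹ ∈ RC := by
        rw [← hg, show (p : C) * τ * u * ((p : C) * τ)⁻¹ * w⁻¹ = (p : C) * (w * (p : C)⁻¹ * w⁻¹) by
          rw [hwdef]; group]
        exact RC.mul_mem p.2 (hRCn.conj_mem _ (RC.inv_mem p.2) w)
      exact (mul_inv_eq_one.1 (hinf _ hm ((T : Subgroup C).mul_mem hv ((T : Subgroup C).inv_mem hw)))).symm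
    have ha0 : a ≠ 0 := fun h0 => by
      have hd : orderOf tC ∣ Nat.card C := orderOf_dvd_natCard _
      rw [htC2, ha, h0, pow_zero, one_mul, rho] at hd
      exact d.ne_two ((Nat.prime_dvd_prime_iff_eq Nat.prime_two d.prime).1 (Nat.prime_two.dvd_of_dvd_pow hd)).symm
    haveI : Nontrivial (T : Subgroup C) := by
      rw [← Finite.one_lt_card_iff_nontrivial, hTcard]
      exact Nat.one_lt_two_pow ha0
    haveI := T.isPGroup'.center_nontrivial
    obtain ⟨z, hz⟩ := exists_ne (1 : ↥(Subgroup.center (T : Subgroup C)))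
    obtain ⟨m, hm⟩ := IsPGroup.iff_orderOf.1 (T.isPGroup'.to_subgroup (Subgroup.center _)) z
    have hm0 : m ≠ 0 := fun e => hz (orderOf_eq_one_iff.1 (by rw [hm, e, pow_zero]))
    set w := z ^ 2 ^ (m - 1) with hw
    set uC : C := ((w : (T : Subgroup C)) : C) with huC
    have huC2 : orderOf uC = 2 := by
      rw [huC, Subgroup.orderOf_coe, Subgroup.orderOf_coe, hw, orderOf_pow, hm,
        Nat.gcd_eq_right (Nat.pow_dvd_pow 2 (by omega)), Nat.pow_div (by omega) (by omega),
        show m - (m - 1) = 1 by omega, pow_one]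
    have huT : uC ∈ (T : Subgroup C) := (w : (T : Subgroup C)).2
    have hucent : ∀ τ ∈ (T : Subgroup C), τ * uC = uC * τ := fun τ hτ =>
      congrArg Subtype.val (Subgroup.mem_center_iff.1 w.2 ⟨τ, hτ⟩)
    have huniq : ∀ v ∈ (T : Subgroup C), orderOf v = 2 → v = uC := by
      intro v hv hv2
      obtain ⟨τ, hτ, e⟩ := hTconj uC huT v hv ((hone uC huC2).symm.trans (hone v hv2))
      rw [← e, hucent τ hτ, mul_inv_cancel_right]
    -- no element of order eight
    have hno8 : ∀ τ : C, orderOf τ ≠ 8 := by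
      intro τ hτ
      obtain ⟨x, hx, hxo, hto, hyto, hyt⟩ := d.exists_base
      have hτ8 : orderOf (τ : G) = 8 := by rw [Subgroup.orderOf_coe, hτ]
      have hτ4 : orderOf ((τ : G) ^ 2) = 4 := by rw [orderOf_pow, hτ8]; rfl
      have hc : (τ : G) ^ 2 * y = y * (τ : G) ^ 2 :=
        ((show Commute (τ : G) y from mem_centralizer_singleton_iff.1 τ.2).pow_left 2).eq
      have hy4 : orderOf (y * (τ : G) ^ 2) = r * 4 := orderOf_mul_comm d.oy hτ4 hc (d.coprime_two.pow_right 2)
      have hy4o : Out A (y * (τ : G) ^ 2) :=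
        d.out_of_comm d.out_y (ne_one_of_order hy4 (by omega)) (by rw [mul_assoc, hc])
      have hτo : Out A (τ : G) :=
        d.hyp.out_of_two_pow (ne_one_of_order hτ8 (by norm_num)) (k := 3) (by rw [hτ8]; rfl)
      have hr4 := d.ne_four
      have hr8 : r ≠ 8 ∧ r * 4 ≠ 8 := ⟨fun e => absurd (e ▸ d.prime) (by norm_num), by omega⟩
      refine d.six_orders ![t, x, y, y * t, (τ : G), y * (τ : G) ^ 2]
        (fun k => by fin_cases k <;> first | exact d.out_y | assumption) ?_
      refine injective_six ?_ ?_ ?_ ?_ ?_ ?_ ?_ ?_ ?_ ?_ ?_ ?_ ?_ ?_ ?_ <;>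
        · simp [d.ot, hx, d.oy, hyt, hτ8, hy4] <;> omega
    have hfour : ∀ p ∈ (T : Subgroup C), p ≠ 1 → p ≠ uC → orderOf p = 4 := by
      intro p hp hp1 hpu
      obtain ⟨k, hk⟩ := IsPGroup.iff_orderOf.1 T.isPGroup' ⟨p, hp⟩
      rw [Subgroup.orderOf_mk] at hk
      rcases Nat.lt_or_ge k 3 with hk3 | hk3
      · interval_cases k
        · exact absurd (orderOf_eq_one_iff.1 (by simpa using hk)) hp1
        · exact absurd (huniq p hp (by simpa using hk)) hpu
        · simpa using hk
      · exfalso
        refine hno8 (p ^ 2 ^ (k - 3)) ?_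
        rw [orderOf_pow, hk, Nat.gcd_eq_right (Nat.pow_dvd_pow 2 (by omega)),
          Nat.pow_div (by omega) (by omega), show k - (k - 3) = 3 by omega]
    have hconj4 : ∀ p q : C, orderOf p = 4 → orderOf q = 4 → IsConj p q := by
      intro p q hp hq
      obtain ⟨x, hx, hxo, hto, hyto, hyt⟩ := d.exists_base
      have hr4 := d.ne_four
      have hpo : orderOf (y * (p : G)) = r * 4 := orderOf_mul_comm d.oy (by rw [Subgroup.orderOf_coe, hp])
        (mem_centralizer_singleton_iff.1 p.2) (d.coprime_two.pow_right 2)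
      have hqo : orderOf (y * (q : G)) = r * 4 := orderOf_mul_comm d.oy (by rw [Subgroup.orderOf_coe, hq])
        (mem_centralizer_singleton_iff.1 q.2) (d.coprime_two.pow_right 2)
      have hpO : Out A (y * (p : G)) := d.out_of_comm d.out_y (ne_one_of_order hpo (by omega))
        (by rw [mul_assoc, mem_centralizer_singleton_iff.1 p.2])
      have hqO : Out A (y * (q : G)) := d.out_of_comm d.out_y (ne_one_of_order hqo (by omega))
        (by rw [mul_assoc, mem_centralizer_singleton_iff.1 q.2])
      by_contra hnc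
      refine d.hyp.six d.hyp.oc_le_five ![t, x, y, y * t, y * (p : G), y * (q : G)]
        (fun k => by fin_cases k <;> first | exact d.out_y | assumption) ?_
      intro k l hkl hc'
      have ho := orderOf_eq_of_isConj hc'
      fin_cases k <;> fin_cases l <;> simp [d.ot, hx, d.oy, hyt, hpo, hqo] at hkl ho <;>
        first
          | omega
          | (obtain ⟨g, hg⟩ := isConj_iff.1 hc'
             apply hnc
             have hpow : ∀ v : C, orderOf v = 4 → (y * (v : G)) ^ (3 * r * r + 1) = y := by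
               intro v hv
               have hc : Commute y (v : G) := (mem_centralizer_singleton_iff.1 v.2).symm
               have h4 : (v : G) ^ 4 = 1 := by rw [← hv, ← Subgroup.orderOf_coe, pow_orderOf_eq_one]
               have hr1 : y ^ r = 1 := by rw [← d.oy, pow_orderOf_eq_one]
               obtain ⟨s, hs⟩ := d.prime.odd_of_ne_two d.ne_two
               have e4 : 3 * r * r + 1 = 4 * (3 * s * s + 3 * s + 1) := by rw [hs]; ring
               have ey : y ^ (3 * r * r + 1) = y := by
                 rw [pow_succ, mul_comm (3 * r) r, pow_mul, hr1, one_pow, one_mul]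
               rw [hc.mul_pow, ey, e4, pow_mul, h4, one_pow, mul_one]
             have hgy : g * y * g⁻¹ = y := by
               have hpw := congrArg (· ^ (3 * r * r + 1)) hg
               simp only [conj_pow] at hpw
               simpa [hpow p hp, hpow q hq] using hpw
             refine isConj_iff.2 ⟨⟨g, mem_centralizer_singleton_iff.2 (mul_inv_eq_iff_eq_mul.1 hgy)⟩,
               Subtype.ext ?_⟩
             have hg' : g * (y * (p : G)) * g⁻¹ = y * (q : G) := hg
             rw [conj_mul', hgy] at hg'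
             exact mul_left_cancel hg')
    -- the Sylow 2-subgroup has order two
    have ha1 : a = 1 := by
      by_contra ha1
      have h4 : 4 ≤ 2 ^ a := (show 4 = 2 ^ 2 by norm_num) ▸ Nat.pow_le_pow_right (by norm_num) (by omega)
      obtain ⟨p, hp, hp1, hpu⟩ : ∃ p ∈ (T : Subgroup C), p ≠ 1 ∧ p ≠ uC := by
        by_contra hnone
        push Not at hnone
        have : Nat.card (T : Subgroup C) ≤ Nat.card (zpowers uC) := Subgroup.card_le_of_le fun p hp => by
          by_cases hp1 : p = 1
          · rw [hp1]; exact one_mem _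
          · rw [hnone p hp hp1]; exact mem_zpowers _
        rw [hTcard, Nat.card_zpowers, huC2] at this
        omega
      have hp4 := hfour p hp hp1 hpu
      set pT : (T : Subgroup C) := ⟨p, hp⟩
      set uT : (T : Subgroup C) := ⟨uC, huT⟩
      have hcar : Nat.card ↥(ConjClasses.mk pT).carrier + 2 = 2 ^ a := by
        have e : (ConjClasses.mk pT).carrier = (Set.univ : Set (T : Subgroup C)) \ {1, uT} := by
          ext q
          simp only [ConjClasses.mem_carrier_iff_mk_eq, ConjClasses.mk_eq_mk_iff_isConj, Set.mem_diff,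
            Set.mem_univ, true_and, Set.mem_insert_iff, Set.mem_singleton_iff, not_or]
          constructor
          · intro hq
            have ho : orderOf q = 4 := by
              rw [orderOf_eq_of_isConj hq, Subgroup.orderOf_mk]
              exact hp4
            exact ⟨fun e => by rw [e, orderOf_one] at ho; omega, fun e => by
              rw [e, Subgroup.orderOf_mk, huC2] at ho; omega⟩
          · rintro ⟨hq1, hqu⟩
            have hq4 := hfour q q.2 (fun e => hq1 (Subtype.ext e)) (fun e => hqu (Subtype.ext e))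
            obtain ⟨τ, hτ, e⟩ := hTconj p hp q q.2 (hconj4 p q hp4 hq4)
            exact (isConj_iff.2 ⟨⟨τ, hτ⟩, Subtype.ext e⟩).symm
        have hne : (1 : (T : Subgroup C)) ≠ uT := fun e => by
          have := congrArg orderOf e
          rw [orderOf_one, Subgroup.orderOf_mk, huC2] at this
          omega
        rw [e, Nat.card_coe_set_eq, Set.ncard_sdiff (Set.subset_univ _) (Set.toFinite _), Set.ncard_univ,
          Set.ncard_pair hne, hTcard]
        omega
      have hcent : 4 ≤ Nat.card ↥(centralizer ({pT} : Set (T : Subgroup C))) := by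
        have hp4' : orderOf pT = 4 := by rw [Subgroup.orderOf_mk, hp4]
        rw [← hp4', ← Nat.card_zpowers]
        exact Subgroup.card_le_of_le (zpowers_le.2 (mem_centralizer_singleton_iff.2 rfl))
      have hmul := card_carrier_mul pT
      rw [hTcard] at hmul
      have hle := Nat.mul_le_mul_left (Nat.card ↥(ConjClasses.mk pT).carrier) hcent
      rw [hmul] at hle
      have hlt : Nat.card ↥(ConjClasses.mk pT).carrier < 2 ^ a := by omega
      have hdvd : Nat.card ↥(ConjClasses.mk pT).carrier ∣ 2 ^ a := ⟨_, hmul.symm⟩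
      have hd2 : Nat.card ↥(ConjClasses.mk pT).carrier ∣ 2 :=
        (Nat.dvd_add_right (dvd_refl _)).1 (hcar ▸ hdvd)
      have := Nat.le_of_dvd (by norm_num) hd2
      omega
    refine ⟨by rw [ha, ha1, pow_one], ?_, hRn⟩
    have hdvd : Nat.card ↥(centralizer ({y * t} : Set G)) ∣ Nat.card C := Dvd.intro_left _ hI
    have htmem : t ∈ centralizer ({y * t} : Set G) :=
      d.cent_yt.ge ⟨mem_centralizer_singleton_iff.2 d.comm, mem_centralizer_singleton_iff.2 rfl⟩
    have h2d : 2 ∣ Nat.card ↥(centralizer ({y * t} : Set G)) := d.ot ▸ Subgroup.orderOf_dvd_natCard _ htmem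
    rw [hb] at h2d hdvd ⊢
    rw [ha, ha1, pow_one] at hdvd
    have hb2 : 2 ^ b ∣ 2 :=
      ((d.coprime_two.symm.pow b _).dvd_of_dvd_mul_right (dvd_trans (Dvd.intro _ rfl) hdvd))
    have hb0 : b ≠ 0 := fun e => by
      rw [e, pow_zero, one_mul, rho0] at h2d
      exact d.ne_two ((Nat.prime_dvd_prime_iff_eq Nat.prime_two d.prime).1 (Nat.prime_two.dvd_of_dvd_pow h2d)).symm
    have : b ≤ 1 := (Nat.pow_dvd_pow_iff_le_right (x := 2) (by norm_num)).1 (by simpa using hb2)
    rw [show b = 1 by omega, pow_one]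

end Cfsg.Agent.Invol.ThreeTI
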