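import Cfsg.Agent.Lib.Invol.ThreeTI.Local
import Cfsg.Agent.Lib.Invol.ThreeTI.Arith

/-!
# The Sylow `r`-subgroups of `C(t)` and `C(y)`
-/

set_option autoImplicit false
set_option linter.style.haveILetI false
set_option linter.unusedSectionVars false

namespace Cfsg.Agent.Invol.ThreeTI

open Subgroup

universe u

variable {G : Type u} [Group G] [Finite G]

/-- The `r`-part of the order of the centraliser of `t`. -/
noncomputable def rho0 (r : ℕ) (t : G) : ℕ :=
  r ^ (Nat.card ↥(centralizer ({t} : Set G))).factorization r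

/-- The `r`-part of the order of the group. -/
noncomputable def rho (G : Type u) [Group G] (r : ℕ) : ℕ := r ^ (Nat.card G).factorization r

theorem conj_pow_pow {g y : G} {i : ℕ} (h : g * y * g⁻¹ = y ^ i) (n : ℕ) :
    g ^ n * y * (g ^ n)⁻¹ = y ^ i ^ n := by
  induction n with
  | zero => simp
  | succ n ih =>
    calc g ^ (n + 1) * y * (g ^ (n + 1))⁻¹ = g ^ n * (g * y * g⁻¹) * (g ^ n)⁻¹ := by
          rw [pow_succ]; group
      _ = g ^ n * y ^ i * (g ^ n)⁻¹ := by rw [h]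
      _ = (g ^ n * y * (g ^ n)⁻¹) ^ i := (conj_pow).symm
      _ = _ := by rw [ih, ← pow_mul, pow_succ]

variable [IsSimpleGroup G] {A : Fin 3 → Subgroup G} {r : ℕ} {y t : G}

theorem YData.not_dvd_nn (d : YData A r y t) : ¬ r ∣ nn A := fun hd =>
  d.prime.one_lt.ne' (Nat.Coprime.eq_one_of_dvd (d.oy ▸ d.out_y.2) hd)

theorem YData.sylow_comm (d : YData A r y t) (R : Sylow r G) :
    ∀ a ∈ (R : Subgroup G), ∀ b ∈ (R : Subgroup G), a * b = b * a := fun a ha b hb => by
  haveI := d.hyp.abel r d.prime d.ne_two d.not_dvd_nn R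
  exact congrArg Subtype.val (mul_comm' (⟨a, ha⟩ : ↥(R : Subgroup G)) ⟨b, hb⟩)

/-- A Sylow subgroup containing `y`. -/
theorem YData.exists_R (d : YData A r y t) : ∃ R : Sylow r G, y ∈ (R : Subgroup G) := by
  haveI := d.fact
  obtain ⟨R, hR⟩ := (IsPGroup.of_card (n := 1) (by rw [Nat.card_zpowers, d.oy, pow_one]) :
    IsPGroup r ↥(zpowers y)).exists_le_sylow
  exact ⟨R, hR (mem_zpowers y)⟩

theorem YData.R_le_cent (d : YData A r y t) (R : Sylow r G) (hR : y ∈ (R : Subgroup G)) :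
    (R : Subgroup G) ≤ centralizer ({y} : Set G) := fun a ha =>
  mem_centralizer_singleton_iff.2 (d.sylow_comm R a ha y hR)

omit [IsSimpleGroup G] in
theorem card_sylow_rho [Fact r.Prime] (R : Sylow r G) : Nat.card ↥(R : Subgroup G) = rho G r :=
  R.card_eq_multiplicity

/-- The primes of `C(t)`. -/
theorem YData.primes_cent_t (d : YData A r y t) {q : ℕ} (hq : q.Prime)
    (hd : q ∣ Nat.card ↥(centralizer ({t} : Set G))) : q = 2 ∨ q = r := by
  rcases eq_or_ne q 2 with h2 | h2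
  · exact Or.inl h2
  haveI : Fact q.Prime := ⟨hq⟩
  obtain ⟨⟨z, hz⟩, hzo⟩ := exists_prime_orderOf_dvd_card' q hd
  refine Or.inr (d.eq_r hq h2 d.ot (z := z) ?_ (mem_centralizer_singleton_iff.1 hz).symm)
  rw [← hzo, Subgroup.orderOf_mk]

/-- The primes of `C(y)`. -/
theorem YData.primes_cent_y (d : YData A r y t) {q : ℕ} (hq : q.Prime)
    (hd : q ∣ Nat.card ↥(centralizer ({y} : Set G))) : q = 2 ∨ q = r := by
  rcases eq_or_ne q 2 with h2 | h2
  · exact Or.inl h2
  haveI : Fact q.Prime := ⟨hq⟩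
  obtain ⟨⟨z, hz⟩, hzo⟩ := exists_prime_orderOf_dvd_card' q hd
  refine Or.inr (d.eq_r_of_comm_y hq h2 (z := z) ?_ (mem_centralizer_singleton_iff.1 hz))
  rw [← hzo, Subgroup.orderOf_mk]

omit [IsSimpleGroup G] in
/-- The part of a number prime to `r` is a power of two when no other prime divides it. -/
theorem two_pow_of_primes {n r : ℕ} (hn : n ≠ 0) (hr : r.Prime)
    (h : ∀ q : ℕ, q.Prime → q ∣ n → q = 2 ∨ q = r) (hnr : ¬ r ∣ n) : ∃ k, n = 2 ^ k := by
  refine ⟨_, Nat.eq_prime_pow_of_unique_prime_dvd hn fun {q} hq hd => ?_⟩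
  rcases h q hq hd with e | e
  · exact e
  · exact absurd (e ▸ hd) hnr

/-- The order of `C(y)`. -/
theorem YData.card_cent_y (d : YData A r y t) :
    ∃ a, Nat.card ↥(centralizer ({y} : Set G)) = 2 ^ a * rho G r := by
  haveI := d.fact
  obtain ⟨R, hR⟩ := d.exists_R
  obtain ⟨c, hc⟩ := Subgroup.card_dvd_of_le (d.R_le_cent R hR)
  rw [card_sylow_rho] at hc
  have hc0 : c ≠ 0 := fun e => Nat.card_pos.ne' (by rw [hc, e, mul_zero])
  have hnr : ¬ r ∣ c := by
    intro hrc
    refine Nat.pow_succ_factorization_not_dvd (Nat.card_pos (α := G)).ne' d.prime ?_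
    rw [pow_succ]
    exact (Nat.mul_dvd_mul_left _ hrc).trans (hc ▸ Subgroup.card_subgroup_dvd_card _)
  obtain ⟨k, hk⟩ := two_pow_of_primes hc0 d.prime
    (fun q hq hd => d.primes_cent_y hq (hc ▸ hd.mul_left _)) hnr
  exact ⟨k, by rw [hc, hk, mul_comm]⟩

/-- Non-identity elements of a Sylow `r`-subgroup of `C(t)` have order `r`. -/
theorem YData.order_in_sylow (d : YData A r y t) (P : Sylow r ↥(centralizer ({t} : Set G)))
    {z : ↥(centralizer ({t} : Set G))} (hz : z ∈ (P : Subgroup ↥(centralizer ({t} : Set G)))) (hz1 : z ≠ 1) :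
    orderOf (z : G) = r := by
  haveI := d.fact
  obtain ⟨k, hk⟩ := IsPGroup.iff_orderOf.1 P.isPGroup' ⟨z, hz⟩
  rw [Subgroup.orderOf_mk] at hk
  have hkG : orderOf (z : G) = r ^ k := by rw [Subgroup.orderOf_coe, hk]
  rcases Nat.lt_or_ge k 2 with hk2 | hk2
  · interval_cases k
    · exact absurd (orderOf_eq_one_iff.1 (by simpa using hk)) hz1
    · simpa using hkG
  · exfalso
    have hpw : orderOf ((z : G) ^ r ^ (k - 2)) = r ^ 2 := by
      rw [orderOf_pow, hkG, Nat.gcd_eq_right (Nat.pow_dvd_pow r (by omega)),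
        Nat.pow_div (by omega) d.prime.pos, show k - (k - 2) = 2 by omega]
    refine d.no_sq d.ot ?_ hpw
    exact ((show Commute t (z : G) from (mem_centralizer_singleton_iff.1 z.2).symm).pow_right _).eq

/-- The shape of `ρ₀`. -/
theorem YData.rho0_shape (d : YData A r y t) :
    (r = 3 ∧ rho0 r t = 3) ∨ (r = 5 ∧ rho0 r t = 5) ∨ (r = 3 ∧ rho0 r t = 9) := by
  classical
  haveI := d.fact
  set H := centralizer ({t} : Set G) with hH
  have h3 := d.three_le
  set yH : H := ⟨y, mem_centralizer_singleton_iff.2 d.comm.symm⟩ with hyH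
  obtain ⟨P, hP⟩ := (IsPGroup.of_card (n := 1)
    (by rw [Nat.card_zpowers, hyH, Subgroup.orderOf_mk, d.oy, pow_one]) : IsPGroup r ↥(zpowers yH)).exists_le_sylow
  have hyP : yH ∈ (P : Subgroup H) := hP (mem_zpowers _)
  have hyH1 : yH ≠ 1 := fun e => ne_one_of_order d.oy (by omega) (congrArg Subtype.val e)
  haveI : IsMulCommutative ↥(P : Subgroup H) := by
    obtain ⟨Q, hQ⟩ := (P.isPGroup'.map H.subtype).exists_le_sylow
    exact ⟨⟨fun a b => Subtype.ext (Subtype.ext
      (d.sylow_comm Q _ (hQ ⟨_, a.2, rfl⟩) _ (hQ ⟨_, b.2, rfl⟩)))⟩⟩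
  set N := normalizer ((P : Subgroup H) : Set H) with hN
  set yN : N := ⟨yH, le_normalizer hyP⟩ with hyN
  have hmem : ∀ z : H, z ∈ (P : Subgroup H) → z ≠ 1 → ∃ n : N, (n : H) * yH * (n : H)⁻¹ = z := by
    intro z hz hz1
    obtain ⟨g, hg1, hg2⟩ := d.pair_conj (d.order_in_sylow P hz hz1) d.ot
      (mem_centralizer_singleton_iff.1 z.2).symm
    have hgH : g ∈ H := mem_centralizer_singleton_iff.2 (mul_inv_eq_iff_eq_mul.1 hg2)
    obtain ⟨n, hn, e⟩ := P.conj_eq_normalizer_conj_of_mem yH (⟨g, hgH⟩ : H)⁻¹ hyP (by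
      rw [inv_inv]
      rw [show (⟨g, hgH⟩ : H) * yH * (⟨g, hgH⟩ : H)⁻¹ = z from Subtype.ext hg1]
      exact hz)
    refine ⟨⟨n⁻¹, N.inv_mem hn⟩, ?_⟩
    rw [inv_inv] at e
    show n⁻¹ * yH * n⁻¹⁻¹ = z
    rw [inv_inv, ← e]
    exact Subtype.ext hg1
  have hcarrier : Nat.card ↥(ConjClasses.mk yN).carrier + 1 = rho0 r t := by
    rw [rho0, ← hH, ← P.card_eq_multiplicity]
    let f : ↥(ConjClasses.mk yN).carrier → {p : ↥(P : Subgroup H) // p ≠ 1} := fun x =>
      ⟨⟨(x.1 : H), by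
        obtain ⟨c, hc⟩ := isConj_iff.1 (ConjClasses.mk_eq_mk_iff_isConj.1
          (ConjClasses.mem_carrier_iff_mk_eq.1 x.2)).symm
        rw [← hc]
        exact (mem_normalizer_iff.1 c.2 yH).1 hyP⟩, fun e => by
        obtain ⟨c, hc⟩ := isConj_iff.1 (ConjClasses.mk_eq_mk_iff_isConj.1
          (ConjClasses.mem_carrier_iff_mk_eq.1 x.2)).symm
        have e' : (x.1 : H) = 1 := congrArg Subtype.val e
        rw [← hc] at e'
        exact hyH1 (conj_eq_one_iff.1 e')⟩
    have hf : Function.Bijective f := by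
      refine ⟨fun a b e => Subtype.ext (Subtype.ext
        (congrArg (fun p : {p : ↥(P : Subgroup H) // p ≠ 1} => ((p.1 : ↥(P : Subgroup H)) : H)) e)), fun p => ?_⟩
      obtain ⟨n, hn⟩ := hmem p.1.1 p.1.2 (fun e => p.2 (Subtype.ext e))
      refine ⟨⟨n * yN * n⁻¹, ?_⟩, ?_⟩
      · rw [ConjClasses.mem_carrier_iff_mk_eq, ConjClasses.mk_eq_mk_iff_isConj]
        exact (isConj_iff.2 ⟨n, rfl⟩).symm
      · exact Subtype.ext (Subtype.ext hn)
    letI := Fintype.ofFinite ↥(P : Subgroup H)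
    have hpos : 0 < Fintype.card ↥(P : Subgroup H) := Fintype.card_pos
    rw [Nat.card_congr (Equiv.ofBijective f hf), Nat.card_eq_fintype_card, Fintype.card_subtype_compl,
      Fintype.card_subtype_eq, Nat.card_eq_fintype_card]
    omega
  -- a power of two
  obtain ⟨k, hk⟩ : ∃ k, rho0 r t = 2 ^ k + 1 := by
    have hle : (P : Subgroup H).subgroupOf N ≤ centralizer ({yN} : Set N) := fun x hx =>
      mem_centralizer_singleton_iff.2 (Subtype.ext
        (congrArg Subtype.val (mul_comm' (⟨(x : H), hx⟩ : ↥(P : Subgroup H)) ⟨yH, hyP⟩) :))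
    obtain ⟨c, hc⟩ := Subgroup.card_dvd_of_le hle
    have e := card_carrier_mul yN
    have hd : Nat.card ↥(ConjClasses.mk yN).carrier ∣ ((P : Subgroup H).subgroupOf N).index := by
      refine ⟨c, Nat.eq_of_mul_eq_mul_left (Nat.card_pos (α := ↥((P : Subgroup H).subgroupOf N))) ?_⟩
      rw [Subgroup.card_mul_index, ← e, hc]
      ring
    have hd' : Nat.card ↥(ConjClasses.mk yN).carrier ∣ (P : Subgroup H).index :=
      hd.trans (Subgroup.relIndex_dvd_index_of_le le_normalizer)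
    obtain ⟨k, hk⟩ := two_pow_of_primes (n := Nat.card ↥(ConjClasses.mk yN).carrier)
      (fun h0 => by
        haveI : Nonempty ↥(ConjClasses.mk yN).carrier := ⟨⟨yN, ConjClasses.mem_carrier_mk⟩⟩
        exact Nat.card_pos.ne' h0) d.prime
      (fun q hq hdq => d.primes_cent_t hq (hdq.trans (hd'.trans (Subgroup.index_dvd_card _))))
      (fun hrd => P.not_dvd_index (hrd.trans hd'))
    exact ⟨k, by rw [← hcarrier, hk]⟩
  set f := (Nat.card H).factorization r with hf'
  have hrf : r ^ f = 2 ^ k + 1 := hk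
  have hf1 : 1 ≤ f := by
    rcases Nat.eq_zero_or_pos f with h0 | h0
    · rw [h0, pow_zero] at hrf
      have := Nat.two_pow_pos k
      omega
    · exact h0
  rcases Nat.lt_or_ge f 2 with hf2 | hf2
  swap
  · obtain ⟨hr, hfe⟩ := pow_eq_two_pow_succ d.prime d.ne_two hf2 hrf
    exact Or.inr (Or.inr ⟨hr, by rw [rho0, ← hH, ← hf', hfe, hr]; rfl⟩)
  -- `r` is at most five
  have hfe : f = 1 := by omega
  rw [hfe, pow_one] at hrf
  have hρ : rho0 r t = r := by rw [rho0, ← hH, ← hf', hfe, pow_one]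
  obtain ⟨ζ, hζ⟩ := IsCyclic.exists_generator (α := (ZMod r)ˣ)
  have hζo : orderOf ζ = r - 1 := by
    rw [orderOf_eq_card_of_forall_mem_zpowers hζ, Nat.card_eq_fintype_card, ZMod.card_units]
  set i := (ζ : ZMod r).val with hi
  have hyi : orderOf (y ^ i) = r := by
    rw [orderOf_pow, d.oy, (Nat.Coprime.gcd_eq_one _), Nat.div_one]
    rw [d.prime.coprime_iff_not_dvd]
    intro hd
    have : (ζ : ZMod r) = 0 := by
      rw [← ZMod.natCast_zmod_val (ζ : ZMod r), ← hi, (ZMod.natCast_eq_zero_iff _ _).2 hd]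
    exact ζ.ne_zero this
  obtain ⟨g, hg1, hg2⟩ := d.pair_conj hyi d.ot ((show Commute t y from d.comm).pow_right _).eq
  have hgH : g ∈ H := mem_centralizer_singleton_iff.2 (mul_inv_eq_iff_eq_mul.1 hg2)
  obtain ⟨b, o', hno, hbo⟩ := Nat.exists_eq_pow_mul_and_not_dvd (orderOf_pos g).ne' r d.prime.ne_one
  obtain ⟨a, rfl⟩ := two_pow_of_primes (n := o') (fun e => (orderOf_pos g).ne' (by rw [hbo, e, mul_zero]))
    d.prime (fun q hq hd => d.primes_cent_t hq ((hd.trans (hbo ▸ Dvd.intro_left _ rfl)).trans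
      (Subgroup.orderOf_dvd_natCard H hgH))) hno
  have hg' : orderOf (g ^ r ^ b) = 2 ^ a := by
    rw [orderOf_pow, hbo, Nat.gcd_eq_right (Dvd.intro _ rfl), Nat.mul_div_cancel_left _ (Nat.pow_pos d.prime.pos)]
  have ha : a ≤ 3 := by
    by_contra hlt
    refine d.no_sixteen (g := (g ^ r ^ b) ^ 2 ^ (a - 4)) ?_
    rw [orderOf_pow, hg', Nat.gcd_eq_right (Nat.pow_dvd_pow 2 (by omega)),
      Nat.pow_div (by omega) (by omega), show a - (a - 4) = 4 by omega]
  have hfix : y ^ i ^ (r ^ b * 8) = y := by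
    rw [← conj_pow_pow hg1, pow_mul,
      orderOf_dvd_iff_pow_eq_one.1 (hg' ▸ (show 8 = 2 ^ 3 by norm_num) ▸ Nat.pow_dvd_pow 2 ha : orderOf (g ^ r ^ b) ∣ 8)]
    simp
  have hmodr : i ^ (r ^ b * 8) ≡ 1 [MOD r] := by
    have := (pow_eq_pow_iff_modEq (x := y) (n := i ^ (r ^ b * 8)) (m := 1)).1 (by rw [hfix, pow_one])
    rwa [d.oy] at this
  have hdvd : r - 1 ∣ r ^ b * 8 := by
    rw [← hζo]
    apply orderOf_dvd_of_pow_eq_one
    apply Units.ext
    rw [Units.val_pow_eq_pow_val, ← ZMod.natCast_zmod_val (ζ : ZMod r), ← Nat.cast_pow, Units.val_one,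
      ← Nat.cast_one, ZMod.natCast_eq_natCast_iff]
    exact hmodr
  have hk8 : 2 ^ k ∣ 8 := by
    rw [show r - 1 = 2 ^ k by omega] at hdvd
    exact (Nat.Coprime.dvd_of_dvd_mul_left ((d.coprime_two.symm.pow_left k).pow_right b) hdvd)
  have hk3 : k ≤ 3 := (Nat.pow_dvd_pow_iff_le_right (by norm_num)).1 ((show 8 = 2 ^ 3 by norm_num) ▸ hk8)
  interval_cases k
  · exact absurd (show r = 2 by simpa using hrf) d.ne_two
  · exact Or.inl ⟨by simpa using hrf, by rw [hρ]; simpa using hrf⟩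
  · exact Or.inr (Or.inl ⟨by simpa using hrf, by rw [hρ]; simpa using hrf⟩)
  · exact absurd (show r = 9 by simpa using hrf) (fun e => absurd (e ▸ d.prime) (by norm_num))

/-- The centraliser of `y * t`. -/
theorem YData.cent_yt (d : YData A r y t) :
    centralizer ({y * t} : Set G) = centralizer ({y} : Set G) ⊓ centralizer ({t} : Set G) := by
  ext g
  simp only [Subgroup.mem_inf, mem_centralizer_singleton_iff]
  constructor
  · intro hg
    have hc : g * (y * t) * g⁻¹ = y * t := by rw [hg, mul_inv_cancel_right]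
    obtain ⟨e1, e2⟩ := d.split d.oy d.ot d.comm d.oy d.ot d.comm hc
    exact ⟨mul_inv_eq_iff_eq_mul.1 e1, mul_inv_eq_iff_eq_mul.1 e2⟩
  · rintro ⟨h1, h2⟩
    rw [← mul_assoc, h1, mul_assoc, h2, mul_assoc]

/-- The order of the centraliser of `y * t`. -/
theorem YData.card_cent_yt (d : YData A r y t) :
    ∃ b, Nat.card ↥(centralizer ({y * t} : Set G)) = 2 ^ b * rho0 r t := by
  haveI := d.fact
  set H := centralizer ({t} : Set G) with hH
  set yH : H := ⟨y, mem_centralizer_singleton_iff.2 d.comm.symm⟩ with hyH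
  obtain ⟨P, hP⟩ := (IsPGroup.of_card (n := 1)
    (by rw [Nat.card_zpowers, hyH, Subgroup.orderOf_mk, d.oy, pow_one]) : IsPGroup r ↥(zpowers yH)).exists_le_sylow
  have hyP : yH ∈ (P : Subgroup H) := hP (mem_zpowers _)
  obtain ⟨Q, hQ⟩ := (P.isPGroup'.map H.subtype).exists_le_sylow
  have hle : (P : Subgroup H).map H.subtype ≤ centralizer ({y * t} : Set G) := by
    rw [d.cent_yt]
    exact le_inf (fun x hx => d.R_le_cent Q (hQ ⟨yH, hyP, rfl⟩) (hQ hx))
      (Subgroup.map_subtype_le _)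
  obtain ⟨c, hc⟩ := Subgroup.card_dvd_of_le hle
  rw [Subgroup.card_map_of_injective H.subtype_injective, P.card_eq_multiplicity] at hc
  have hsub : centralizer ({y * t} : Set G) ≤ H := by rw [d.cent_yt]; exact inf_le_right
  have hd : r ^ (Nat.card H).factorization r * c ∣ Nat.card H := hc ▸ Subgroup.card_dvd_of_le hsub
  have hc0 : c ≠ 0 := fun e => Nat.card_pos.ne' (by rw [hc, e, mul_zero])
  have hnr : ¬ r ∣ c := fun hrc => Nat.pow_succ_factorization_not_dvd (Nat.card_pos (α := H)).ne' d.prime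
    (by rw [pow_succ]; exact (Nat.mul_dvd_mul_left _ hrc).trans hd)
  obtain ⟨k, hk⟩ := two_pow_of_primes hc0 d.prime
    (fun q hq hdq => d.primes_cent_t hq ((hdq.mul_left _).trans hd)) hnr
  exact ⟨k, by rw [hc, hk, mul_comm, rho0]⟩

end Cfsg.Agent.Invol.ThreeTI
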