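import Mathlib

/-!
# The combinatorial bound on the union of the three sets of non-exceptional characters
-/

set_option autoImplicit false

namespace Cfsg.Agent.Invol.ThreeTI

variable {ι : Type*}

theorem card_le_sum_add (s : Finset ι) (f g : ι → ℤ) (h : ∀ u ∈ s, f u ≠ 0 ∨ g u ≠ 0) :
    (s.card : ℤ) ≤ ∑ u ∈ s, f u ^ 2 + ∑ u ∈ s, g u ^ 2 := by
  rw [← Finset.sum_add_distrib, Finset.card_eq_sum_ones, Nat.cast_sum]
  refine Finset.sum_le_sum fun u hu => ?_
  have h1 := sq_nonneg (f u)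
  have h2 := sq_nonneg (g u)
  rcases h u hu with h0 | h0
  · have := (sq_pos_iff (a := f u)).2 h0
    push_cast; omega
  · have := (sq_pos_iff (a := g u)).2 h0
    push_cast; omega

/-- A non-zero inner product saves one. -/
theorem card_lt_sum_add (s : Finset ι) (f g : ι → ℤ) (h : ∀ u ∈ s, f u ≠ 0 ∨ g u ≠ 0)
    (hfg : ∑ u ∈ s, f u * g u ≠ 0) : (s.card : ℤ) < ∑ u ∈ s, f u ^ 2 + ∑ u ∈ s, g u ^ 2 := by
  obtain ⟨w, hw, hw'⟩ := Finset.exists_ne_zero_of_sum_ne_zero hfg
  obtain ⟨h1, h2⟩ := mul_ne_zero_iff.1 hw'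
  rw [← Finset.sum_add_distrib, Finset.card_eq_sum_ones, Nat.cast_sum]
  refine Finset.sum_lt_sum (fun u hu => ?_) ⟨w, hw, ?_⟩
  · have h1 := sq_nonneg (f u)
    have h2 := sq_nonneg (g u)
    rcases h u hu with h0 | h0
    · have := (sq_pos_iff (a := f u)).2 h0
      push_cast; omega
    · have := (sq_pos_iff (a := g u)).2 h0
      push_cast; omega
  · have := (sq_pos_iff (a := f w)).2 h1
    have := (sq_pos_iff (a := g w)).2 h2
    push_cast; omega

theorem one_le_sq {k : ℤ} (hk : k ≠ 0) : 1 ≤ k ^ 2 := by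
  have := (sq_pos_iff (a := k)).2 hk
  omega

theorem two_le_mul_sq {m k : ℤ} (hm : 2 ≤ m) (hk : k ≠ 0) : 2 ≤ m * k ^ 2 := by
  have := one_le_sq hk
  nlinarith

/-- The union of the supports has at most three members. -/
theorem union_card_le (U : Finset ι) (c0 c1 c2 : ι → ℤ) (hU : ∀ u ∈ U, c0 u ≠ 0 ∨ c1 u ≠ 0 ∨ c2 u ≠ 0)
    {m0 m1 m2 v0 v1 v2 k01 k02 k10 k12 k20 k21 : ℤ} (h0 : 2 ≤ m0) (h1 : 2 ≤ m1) (h2 : 2 ≤ m2)
    (B0 : ∑ u ∈ U, c0 u ^ 2 + m1 * k10 ^ 2 + m2 * k20 ^ 2 ≤ 1)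
    (B1 : ∑ u ∈ U, c1 u ^ 2 + m0 * k01 ^ 2 + m2 * k21 ^ 2 ≤ 3)
    (B2 : ∑ u ∈ U, c2 u ^ 2 + m0 * k02 ^ 2 + m1 * k12 ^ 2 ≤ 3)
    (O01 : 1 + ∑ u ∈ U, c0 u * c1 u + v0 * k01 + v1 * k10 + m2 * k20 * k21 = 0)
    (O02 : 1 + ∑ u ∈ U, c0 u * c2 u + v0 * k02 + v2 * k20 + m1 * k10 * k12 = 0)
    (O12 : 1 + ∑ u ∈ U, c1 u * c2 u + v1 * k12 + v2 * k21 + m0 * k01 * k02 = 0) :
    U.card ≤ 3 := by
  classical
  have n0 : 0 ≤ ∑ u ∈ U, c0 u ^ 2 := Finset.sum_nonneg fun _ _ => sq_nonneg _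
  have p01 : 0 ≤ m0 * k01 ^ 2 := mul_nonneg (by omega) (sq_nonneg _)
  have p02 : 0 ≤ m0 * k02 ^ 2 := mul_nonneg (by omega) (sq_nonneg _)
  have p12 : 0 ≤ m1 * k12 ^ 2 := mul_nonneg (by omega) (sq_nonneg _)
  have p21 : 0 ≤ m2 * k21 ^ 2 := mul_nonneg (by omega) (sq_nonneg _)
  have p10 : 0 ≤ m1 * k10 ^ 2 := mul_nonneg (by omega) (sq_nonneg _)
  have p20 : 0 ≤ m2 * k20 ^ 2 := mul_nonneg (by omega) (sq_nonneg _)
  have hk10 : k10 = 0 := by
    by_contra hk
    have := two_le_mul_sq h1 hk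
    omega
  have hk20 : k20 = 0 := by
    by_contra hk
    have := two_le_mul_sq h2 hk
    omega
  subst hk10 hk20
  simp only [mul_zero, zero_mul, add_zero] at O01 O02
  by_cases hz : ∀ u ∈ U, c0 u = 0
  · -- no member outside the two large supports
    have e1 : ∑ u ∈ U, c0 u * c1 u = 0 := Finset.sum_eq_zero fun u hu => by rw [hz u hu, zero_mul]
    have e2 : ∑ u ∈ U, c0 u * c2 u = 0 := Finset.sum_eq_zero fun u hu => by rw [hz u hu, zero_mul]
    rw [e1] at O01
    rw [e2] at O02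
    have hk1 : k01 ≠ 0 := fun e => by rw [e] at O01; simp at O01
    have hk2 : k02 ≠ 0 := fun e => by rw [e] at O02; simp at O02
    have := two_le_mul_sq h0 hk1
    have := two_le_mul_sq h0 hk2
    have := card_le_sum_add U c1 c2 fun u hu => (hU u hu).resolve_left (fun e => e (hz u hu))
    omega
  push Not at hz
  obtain ⟨γ, hγ, hγ0⟩ := hz
  set U' := U.erase γ with hU'
  have s0 := Finset.add_sum_erase U (fun u => c0 u ^ 2) hγ
  have s1 := Finset.add_sum_erase U (fun u => c1 u ^ 2) hγ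
  have s2 := Finset.add_sum_erase U (fun u => c2 u ^ 2) hγ
  have s12 := Finset.add_sum_erase U (fun u => c1 u * c2 u) hγ
  have t01 := Finset.add_sum_erase U (fun u => c0 u * c1 u) hγ
  have t02 := Finset.add_sum_erase U (fun u => c0 u * c2 u) hγ
  rw [← hU'] at s0 s1 s2 s12 t01 t02
  have hg0 := one_le_sq hγ0
  have hz' : ∀ u ∈ U', c0 u = 0 := by
    intro u hu
    by_contra hu0
    have := Finset.single_le_sum (f := fun u => c0 u ^ 2) (fun v _ => sq_nonneg _) hu
    have := one_le_sq hu0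
    omega
  have hzs : ∑ u ∈ U', c0 u * c1 u = 0 := Finset.sum_eq_zero fun u hu => by rw [hz' u hu, zero_mul]
  have hzt : ∑ u ∈ U', c0 u * c2 u = 0 := Finset.sum_eq_zero fun u hu => by rw [hz' u hu, zero_mul]
  have hc0γ : c0 γ ^ 2 = 1 := by
    have : 0 ≤ ∑ u ∈ U', c0 u ^ 2 := Finset.sum_nonneg fun _ _ => sq_nonneg _
    omega
  rw [← t01, hzs, add_zero] at O01
  rw [← t02, hzt, add_zero] at O02
  rw [← s12] at O12
  rw [← s1] at B1
  rw [← s2] at B2
  have hcard : U'.card + 1 = U.card := Finset.card_erase_add_one hγ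
  have hsup : ∀ u ∈ U', c1 u ≠ 0 ∨ c2 u ≠ 0 := fun u hu =>
    (hU u (Finset.mem_of_mem_erase hu)).resolve_left (fun e => e (hz' u hu))
  have hbound := card_le_sum_add U' c1 c2 hsup
  have a1n : 0 ≤ ∑ u ∈ U', c1 u ^ 2 := Finset.sum_nonneg fun _ _ => sq_nonneg _
  have a2n : 0 ≤ ∑ u ∈ U', c2 u ^ 2 := Finset.sum_nonneg fun _ _ => sq_nonneg _
  by_contra hgt
  -- at least three members besides `γ`
  by_cases g1 : c1 γ = 0
  · have hk : k01 ≠ 0 := fun e => by rw [e, g1] at O01; simp at O01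
    have := two_le_mul_sq h0 hk
    by_cases g2 : c2 γ = 0
    · have hk' : k02 ≠ 0 := fun e => by rw [e, g2] at O02; simp at O02
      have := two_le_mul_sq h0 hk'
      rw [g1] at B1; rw [g2] at B2
      simp at B1 B2
      omega
    have := one_le_sq g2
    rw [g1] at B1 O12
    have hk02 : k02 = 0 := by
      by_contra hk'
      have := two_le_mul_sq h0 hk'
      simp at B1
      omega
    have hk12 : k12 = 0 := by
      by_contra hk'
      have := two_le_mul_sq h1 hk'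
      simp at B1
      omega
    have hk21 : k21 = 0 := by
      by_contra hk'
      have := two_le_mul_sq h2 hk'
      simp at B1
      omega
    rw [hk02, hk12, hk21] at O12
    simp only [mul_zero, zero_mul, add_zero, zero_add] at O12
    have := card_lt_sum_add U' c1 c2 hsup (by omega)
    simp at B1
    omega
  have hg1 := one_le_sq g1
  by_cases g2 : c2 γ = 0
  · have hk : k02 ≠ 0 := fun e => by rw [e, g2] at O02; simp at O02
    have := two_le_mul_sq h0 hk
    rw [g2] at B2 O12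
    have hk01 : k01 = 0 := by
      by_contra hk'
      have := two_le_mul_sq h0 hk'
      simp at B2
      omega
    have hk12 : k12 = 0 := by
      by_contra hk'
      have := two_le_mul_sq h1 hk'
      simp at B2
      omega
    have hk21 : k21 = 0 := by
      by_contra hk'
      have := two_le_mul_sq h2 hk'
      simp at B2
      omega
    rw [hk01, hk12, hk21] at O12
    simp only [mul_zero, zero_mul, add_zero, zero_add] at O12
    have := card_lt_sum_add U' c1 c2 hsup (by omega)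
    simp at B2
    omega
  have hg2 := one_le_sq g2
  have hk01 : k01 = 0 := by
    by_contra hk'
    have := two_le_mul_sq h0 hk'
    omega
  have hk02 : k02 = 0 := by
    by_contra hk'
    have := two_le_mul_sq h0 hk'
    omega
  have hk12 : k12 = 0 := by
    by_contra hk'
    have := two_le_mul_sq h1 hk'
    omega
  have hk21 : k21 = 0 := by
    by_contra hk'
    have := two_le_mul_sq h2 hk'
    omega
  rw [hk01, mul_zero, add_zero] at O01
  rw [hk02, mul_zero, add_zero] at O02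
  rw [hk01, hk02, hk12, hk21] at O12
  simp only [mul_zero, zero_mul, add_zero] at O12
  have hprod : c1 γ * c2 γ = 1 := by
    have : c0 γ ^ 2 * (c1 γ * c2 γ) = (-1) * (-1) := by
      rw [show c0 γ ^ 2 * (c1 γ * c2 γ) = (c0 γ * c1 γ) * (c0 γ * c2 γ) by ring,
        show c0 γ * c1 γ = -1 by omega, show c0 γ * c2 γ = -1 by omega]
    rw [hc0γ] at this
    simpa using this
  have hsum : ∑ u ∈ U', (c1 u + c2 u) ^ 2 ≤ 0 := by
    have : ∀ u ∈ U', (c1 u + c2 u) ^ 2 = c1 u ^ 2 + c2 u ^ 2 + 2 * (c1 u * c2 u) := fun u _ => by ring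
    rw [Finset.sum_congr rfl this, Finset.sum_add_distrib, Finset.sum_add_distrib, ← Finset.mul_sum]
    omega
  have hopp : ∀ u ∈ U', c1 u ≠ 0 := by
    intro u hu e
    have := Finset.single_le_sum (f := fun u => (c1 u + c2 u) ^ 2) (fun v _ => sq_nonneg _) hu
    rw [e, zero_add] at this
    have := one_le_sq ((hsup u hu).resolve_left (fun e' => e' e))
    omega
  have := card_le_sum_add U' c1 (fun _ => 0) fun u hu => Or.inl (hopp u hu)
  simp only [ne_eq, OfNat.ofNat_ne_zero, not_false_eq_true, zero_pow, Finset.sum_const_zero, add_zero] at this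
  omega

end Cfsg.Agent.Invol.ThreeTI
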