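import Cfsg.Agent.Lib.Invol.ThreeTI.CharExc
import Cfsg.Agent.Lib.Invol.ThreeTI.UnionComb

/-!
# At most five outside classes
-/

set_option autoImplicit false
set_option linter.style.haveILetI false
set_option linter.unusedSectionVars false

namespace Cfsg.Agent.Invol.ThreeTI

open Subgroup Cfsg Cfsg.Agent.Char Cfsg.Agent.Block
open scoped ComplexConjugate

universe u

variable {G : Type u} [Group G] [Fintype G] {A : Fin 3 → Subgroup G}

theorem trivialIrr_apply (g : G) : ((trivialIrr G : IrrCharacter G) : G → ℂ) g = 1 := rfl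

variable (h : Hyp A) (D : ∀ i, Exc A i)

theorem Exc.trivial_not_mem {i : Fin 3} (E : Exc A i) : trivialIrr G ∉ E.Ex := fun hm => by
  obtain ⟨a, -, b, -, -, -, hne⟩ := E.moving _ hm
  exact hne (by rw [trivialIrr_apply, trivialIrr_apply])

include h in
theorem Hyp.c_trivial {i : Fin 3} (E : Exc A i) : E.c (trivialIrr G) = 1 := by
  obtain ⟨a, ha, ha1⟩ := h.exists_ne_one i
  have e := E.const _ E.trivial_not_mem a ha ha1
  rw [trivialIrr_apply] at e
  exact_mod_cast e.symm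

include h in
/-- Elements of another subgroup are not conjugate into `A i`. -/
theorem Hyp.off_other {i j : Fin 3} (hij : i ≠ j) {b : G} (hb : b ∈ A j) (hb1 : b ≠ 1) (x a : G)
    (ha : a ∈ A i) (_ha1 : a ≠ 1) : x * b * x⁻¹ ≠ a := fun e =>
  hij (h.eq_of_conj hb hb1 (e ▸ ha)).symm

include h in
theorem Hyp.disjoint_ex {i j : Fin 3} (hij : i ≠ j) {χ : IrrCharacter G} (hi : χ ∈ (D i).Ex) :
    χ ∉ (D j).Ex := by
  intro hj
  obtain ⟨χ', hχ', hne⟩ : ∃ χ' ∈ (D i).Ex, χ' ≠ χ := by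
    refine Finset.exists_mem_ne ?_ χ
    rw [(D i).card_Ex]
    exact h.two_le_mm i
  have heq : ∀ b ∈ A j, b ≠ 1 → (χ' : G → ℂ) b = (χ : G → ℂ) b := fun b hb hb1 =>
    (D i).off _ hχ' _ hi b (h.off_other hij hb hb1)
  by_cases hj' : χ' ∈ (D j).Ex
  · exact hne ((D j).inj _ hj' _ hj heq)
  · obtain ⟨a, ha, b, hb, ha1, hb1, hab⟩ := (D j).moving _ hj
    rw [← heq a ha ha1, ← heq b hb hb1, (D j).const _ hj' a ha ha1, (D j).const _ hj' b hb hb1] at hab
    exact hab rfl

/-- The non-trivial, non-exceptional characters not vanishing on all three subgroups. -/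
noncomputable def UU : Finset (IrrCharacter G) := by
  classical
  exact Finset.univ.filter fun χ =>
    χ ≠ trivialIrr G ∧ (∀ i, χ ∉ (D i).Ex) ∧ ∃ i, (D i).c χ ≠ 0

/-- The non-trivial, non-exceptional characters vanishing on all three subgroups. -/
noncomputable def SS : Finset (IrrCharacter G) := by
  classical
  exact Finset.univ.filter fun χ =>
    χ ≠ trivialIrr G ∧ (∀ i, χ ∉ (D i).Ex) ∧ ∀ i, (D i).c χ = 0

include h in
/-- Column orthogonality between two of the subgroups. -/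
theorem Hyp.orth {i j l : Fin 3} (hij : i ≠ j) (hil : i ≠ l) (hjl : j ≠ l) {ki kj li lj : ℤ}
    (hki : ∀ χ ∈ (D i).Ex, (D j).c χ = ki) (hkj : ∀ χ ∈ (D j).Ex, (D i).c χ = kj)
    (hli : ∀ χ ∈ (D l).Ex, (D i).c χ = li) (hlj : ∀ χ ∈ (D l).Ex, (D j).c χ = lj) :
    1 + ∑ χ ∈ UU D, (D i).c χ * (D j).c χ + (D i).v * ki + (D j).v * kj + (mm A l : ℤ) * li * lj = 0 := by
  classical
  obtain ⟨a, ha, ha1⟩ := h.exists_ne_one i
  obtain ⟨b, hb, hb1⟩ := h.exists_ne_one j
  have hnc : ¬ IsConj a b := fun hc => by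
    obtain ⟨c, hc⟩ := isConj_iff.1 hc
    exact hij (h.eq_of_conj ha ha1 (hc ▸ hb))
  have hcol := sum_irr_mul_conj a b
  rw [if_neg hnc] at hcol
  have hcover : ∀ p, p = i ∨ p = j ∨ p = l := by omega
  have hT : ∀ χ : IrrCharacter G, χ = trivialIrr G ∨ χ ∈ (D i).Ex ∨ χ ∈ (D j).Ex ∨ χ ∈ (D l).Ex ∨
      χ ∈ UU D ∨ χ ∈ SS D := by
    intro χ
    by_cases h1 : χ = trivialIrr G
    · exact Or.inl h1
    by_cases h2 : ∀ p, χ ∉ (D p).Ex
    · by_cases h3 : ∃ p, (D p).c χ ≠ 0
      · exact Or.inr (Or.inr (Or.inr (Or.inr (Or.inl (by simp [UU, h1, h2, h3])))))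
      · push Not at h3
        exact Or.inr (Or.inr (Or.inr (Or.inr (Or.inr (by simp [SS, h1, h2, h3])))))
    push Not at h2
    obtain ⟨p, hp⟩ := h2
    rcases hcover p with rfl | rfl | rfl
    · exact Or.inr (Or.inl hp)
    · exact Or.inr (Or.inr (Or.inl hp))
    · exact Or.inr (Or.inr (Or.inr (Or.inl hp)))
  have hd1 : Disjoint (D i).Ex (D j).Ex := Finset.disjoint_left.2 fun χ hχ => h.disjoint_ex D hij hχ
  have hd2 : Disjoint ((D i).Ex ∪ (D j).Ex) (D l).Ex := Finset.disjoint_union_left.2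
    ⟨Finset.disjoint_left.2 fun χ hχ => h.disjoint_ex D hil hχ,
     Finset.disjoint_left.2 fun χ hχ => h.disjoint_ex D hjl hχ⟩
  have hd3 : Disjoint (((D i).Ex ∪ (D j).Ex) ∪ (D l).Ex) (UU D ∪ SS D) := by
    rw [Finset.disjoint_left]
    intro χ hχ hχ'
    have hno : ∀ p, χ ∉ (D p).Ex := by
      rcases Finset.mem_union.1 hχ' with e | e
      · exact (by simpa [UU] using e : _ ∧ (∀ p, χ ∉ (D p).Ex) ∧ _).2.1
      · exact (by simpa [SS] using e : _ ∧ (∀ p, χ ∉ (D p).Ex) ∧ _).2.1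
    simp only [Finset.mem_union] at hχ
    rcases hχ with (e | e) | e <;> exact hno _ e
  have hd4 : Disjoint (UU D) (SS D) := by
    rw [Finset.disjoint_left]
    intro χ hU hS
    simp only [UU, SS, Finset.mem_filter] at hU hS
    obtain ⟨p, hp⟩ := hU.2.2.2
    exact hp (hS.2.2.2 p)
  have hd5 : Disjoint ({trivialIrr G} : Finset (IrrCharacter G))
      ((((D i).Ex ∪ (D j).Ex) ∪ (D l).Ex) ∪ (UU D ∪ SS D)) := by
    rw [Finset.disjoint_singleton_left]
    simp only [Finset.mem_union, not_or, UU, SS, Finset.mem_filter, ne_eq, not_true_eq_false, false_and,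
      and_false, not_false_eq_true, and_true]
    exact ⟨⟨Exc.trivial_not_mem _, Exc.trivial_not_mem _⟩, Exc.trivial_not_mem _⟩
  have hu : (Finset.univ : Finset (IrrCharacter G)) =
      {trivialIrr G} ∪ ((((D i).Ex ∪ (D j).Ex) ∪ (D l).Ex) ∪ (UU D ∪ SS D)) := by
    ext χ
    simp only [Finset.mem_univ, true_iff, Finset.mem_union, Finset.mem_singleton]
    have := hT χ
    tauto
  rw [hu, Finset.sum_union hd5, Finset.sum_singleton, Finset.sum_union hd3, Finset.sum_union hd2,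
    Finset.sum_union hd1, Finset.sum_union hd4, trivialIrr_apply, trivialIrr_apply, map_one, mul_one] at hcol
  have hUv : ∀ χ ∈ UU D, (χ : G → ℂ) a * conj ((χ : G → ℂ) b) = ((D i).c χ * (D j).c χ : ℤ) := by
    intro χ hχ
    have hno := (by simpa [UU] using hχ : _ ∧ (∀ p, χ ∉ (D p).Ex) ∧ _).2.1
    rw [(D i).const χ (hno i) a ha ha1, (D j).const χ (hno j) b hb hb1, map_intCast]
    push_cast; ring
  have hSv : ∀ χ ∈ SS D, (χ : G → ℂ) a * conj ((χ : G → ℂ) b) = 0 := by
    intro χ hχ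
    have hh := (by simpa [SS] using hχ : _ ∧ (∀ p, χ ∉ (D p).Ex) ∧ ∀ p, (D p).c χ = 0).2
    rw [(D i).const χ (hh.1 i) a ha ha1, hh.2 i]
    simp
  have hiv : ∀ χ ∈ (D i).Ex, (χ : G → ℂ) a * conj ((χ : G → ℂ) b) = (χ : G → ℂ) a * (ki : ℂ) := by
    intro χ hχ
    rw [(D j).const χ (h.disjoint_ex D hij hχ) b hb hb1, hki χ hχ, map_intCast]
  have hjv : ∀ χ ∈ (D j).Ex, (χ : G → ℂ) a * conj ((χ : G → ℂ) b) = (kj : ℂ) * conj ((χ : G → ℂ) b) := by
    intro χ hχ
    rw [(D i).const χ (h.disjoint_ex D hij.symm hχ) a ha ha1, hkj χ hχ]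
  have hlv : ∀ χ ∈ (D l).Ex, (χ : G → ℂ) a * conj ((χ : G → ℂ) b) = (li : ℂ) * (lj : ℂ) := by
    intro χ hχ
    rw [(D i).const χ (h.disjoint_ex D hil.symm hχ) a ha ha1, hli χ hχ,
      (D j).const χ (h.disjoint_ex D hjl.symm hχ) b hb hb1, hlj χ hχ, map_intCast]
  rw [Finset.sum_congr rfl hUv, Finset.sum_congr rfl hSv, Finset.sum_congr rfl hiv, Finset.sum_congr rfl hjv,
    Finset.sum_congr rfl hlv, ← Finset.sum_mul, ← Finset.mul_sum, ← map_sum, (D i).sum_ex a ha ha1,
    (D j).sum_ex b hb hb1, map_intCast, Finset.sum_const_zero, Finset.sum_const, (D l).card_Ex,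
    nsmul_eq_mul] at hcol
  have e : ((1 + ∑ χ ∈ UU D, (D i).c χ * (D j).c χ + (D i).v * ki + (D j).v * kj +
      (mm A l : ℤ) * li * lj : ℤ) : ℂ) = 0 := by
    push_cast at hcol ⊢
    linear_combination hcol
  exact_mod_cast e

include h in
theorem Hyp.exists_const {i j : Fin 3} (hij : i ≠ j) :
    ∃ k : ℤ, ∀ χ ∈ (D i).Ex, (D j).c χ = k := by
  by_cases he : (D i).Ex.Nonempty
  · obtain ⟨χ₀, h₀⟩ := he
    obtain ⟨b, hb, hb1⟩ := h.exists_ne_one j
    refine ⟨(D j).c χ₀, fun χ hχ => ?_⟩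
    have e := (D i).off _ hχ _ h₀ b (h.off_other hij hb hb1)
    rw [(D j).const χ (h.disjoint_ex D hij hχ) b hb hb1,
      (D j).const χ₀ (h.disjoint_ex D hij h₀) b hb hb1] at e
    exact_mod_cast e
  · exact ⟨0, fun χ hχ => absurd ⟨χ, hχ⟩ he⟩

include h in
theorem Hyp.budget {j i l : Fin 3} (hij : i ≠ j) (hlj : l ≠ j) (hil : i ≠ l) {ki kl : ℤ}
    (hki : ∀ χ ∈ (D i).Ex, (D j).c χ = ki) (hkl : ∀ χ ∈ (D l).Ex, (D j).c χ = kl) :
    ∑ χ ∈ UU D, (D j).c χ ^ 2 + (mm A i : ℤ) * ki ^ 2 + (mm A l : ℤ) * kl ^ 2 ≤ (ee j : ℤ) - 1 := by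
  classical
  have hd1 : Disjoint ({trivialIrr G} : Finset (IrrCharacter G)) (UU D) := by
    simp [UU]
  have hd2 : Disjoint (D i).Ex (D l).Ex := Finset.disjoint_left.2 fun χ hχ => h.disjoint_ex D hil hχ
  have hd3 : Disjoint ({trivialIrr G} ∪ UU D) ((D i).Ex ∪ (D l).Ex) := by
    rw [Finset.disjoint_left]
    intro χ hχ hχ'
    rcases Finset.mem_union.1 hχ with e | e
    · rw [Finset.mem_singleton] at e
      subst e
      rcases Finset.mem_union.1 hχ' with e | e <;> exact Exc.trivial_not_mem _ e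
    · have hno := (by simpa [UU] using e : _ ∧ (∀ p, χ ∉ (D p).Ex) ∧ _).2.1
      rcases Finset.mem_union.1 hχ' with e | e <;> exact hno _ e
  have hsub : ({trivialIrr G} ∪ UU D) ∪ ((D i).Ex ∪ (D l).Ex) ⊆
      Finset.univ.filter (fun χ => χ ∉ (D j).Ex) := by
    intro χ hχ
    simp only [Finset.mem_filter, Finset.mem_univ, true_and]
    rcases Finset.mem_union.1 hχ with hχ | hχ
    · rcases Finset.mem_union.1 hχ with e | e
      · rw [Finset.mem_singleton] at e
        subst e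
        exact Exc.trivial_not_mem _
      · exact (by simpa [UU] using e : _ ∧ (∀ p, χ ∉ (D p).Ex) ∧ _).2.1 j
    · rcases Finset.mem_union.1 hχ with e | e
      · exact h.disjoint_ex D hij e
      · exact h.disjoint_ex D hlj e
  have e := (Finset.sum_le_sum_of_subset_of_nonneg hsub (f := fun χ => (D j).c χ ^ 2)
    (fun _ _ _ => sq_nonneg _)).trans (D j).sq
  rw [Finset.sum_union hd3, Finset.sum_union hd1, Finset.sum_union hd2, Finset.sum_singleton,
    h.c_trivial, Finset.sum_congr (s₁ := (D i).Ex) rfl (fun χ hχ => by rw [hki χ hχ]),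
    Finset.sum_congr (s₁ := (D l).Ex) rfl (fun χ hχ => by rw [hkl χ hχ]),
    Finset.sum_const, Finset.sum_const, (D i).card_Ex, (D l).card_Ex, nsmul_eq_mul, nsmul_eq_mul] at e
  linarith

include h in
theorem Hyp.card_UU : (UU D).card ≤ 3 := by
  obtain ⟨k01, h01⟩ := h.exists_const D (i := 0) (j := 1) (by decide)
  obtain ⟨k02, h02⟩ := h.exists_const D (i := 0) (j := 2) (by decide)
  obtain ⟨k10, h10⟩ := h.exists_const D (i := 1) (j := 0) (by decide)
  obtain ⟨k12, h12⟩ := h.exists_const D (i := 1) (j := 2) (by decide)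
  obtain ⟨k20, h20⟩ := h.exists_const D (i := 2) (j := 0) (by decide)
  obtain ⟨k21, h21⟩ := h.exists_const D (i := 2) (j := 1) (by decide)
  have hm : ∀ i, (2 : ℤ) ≤ (mm A i : ℤ) := fun i => by exact_mod_cast h.two_le_mm i
  refine union_card_le (UU D) (D 0).c (D 1).c (D 2).c ?_ (hm 0) (hm 1) (hm 2)
    (v0 := (D 0).v) (v1 := (D 1).v) (v2 := (D 2).v) (k01 := k01) (k02 := k02) (k10 := k10) (k12 := k12)
    (k20 := k20) (k21 := k21) ?_ ?_ ?_ ?_ ?_ ?_
  · intro χ hχ
    obtain ⟨p, hp⟩ := (by simpa [UU] using hχ : _ ∧ _ ∧ ∃ p, (D p).c χ ≠ 0).2.2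
    fin_cases p
    · exact Or.inl hp
    · exact Or.inr (Or.inl hp)
    · exact Or.inr (Or.inr hp)
  · exact h.budget D (j := 0) (i := 1) (l := 2) (by decide) (by decide) (by decide) h10 h20
  · exact h.budget D (j := 1) (i := 0) (l := 2) (by decide) (by decide) (by decide) h01 h21
  · exact h.budget D (j := 2) (i := 0) (l := 1) (by decide) (by decide) (by decide) h02 h12
  · exact h.orth D (i := 0) (j := 1) (l := 2) (by decide) (by decide) (by decide) h01 h10 h20 h21
  · exact h.orth D (i := 0) (j := 2) (l := 1) (by decide) (by decide) (by decide) h02 h20 h10 h12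
  · exact h.orth D (i := 1) (j := 2) (l := 0) (by decide) (by decide) (by decide) h12 h21 h01 h02

include h in
/-- The outside classes. -/
theorem Hyp.exists_surplus :
    ∃ s : ℕ, oc A ≤ 3 + s ∧ s * nn A ^ 2 < Nat.card G := by
  classical
  obtain ⟨D⟩ : Nonempty (∀ i, Exc A i) := ⟨fun i => Classical.choice (h.exists_exc i)⟩
  refine ⟨(SS D).card, ?_, ?_⟩
  · have hsub : (Finset.univ : Finset (IrrCharacter G)) ⊆
        ({trivialIrr G} ∪ UU D) ∪ SS D ∪ Finset.univ.biUnion (fun i => (D i).Ex) := by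
      intro χ _
      by_cases h1 : χ = trivialIrr G
      · simp [h1]
      by_cases h2 : ∀ p, χ ∉ (D p).Ex
      · by_cases h3 : ∃ p, (D p).c χ ≠ 0
        · exact Finset.mem_union_left _ (Finset.mem_union_left _ (Finset.mem_union_right _
            (by simp [UU, h1, h2, h3])))
        · push Not at h3
          exact Finset.mem_union_left _ (Finset.mem_union_right _ (by simp [SS, h1, h2, h3]))
      push Not at h2
      obtain ⟨p, hp⟩ := h2
      exact Finset.mem_union_right _ (Finset.mem_biUnion.2 ⟨p, Finset.mem_univ _, hp⟩)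
    have h1 := Finset.card_le_card hsub
    have h2 := Finset.card_union_le (({trivialIrr G} ∪ UU D) ∪ SS D) (Finset.univ.biUnion fun i => (D i).Ex)
    have h3 := Finset.card_union_le ({trivialIrr G} ∪ UU D) (SS D)
    have h4 := Finset.card_union_le {trivialIrr G} (UU D)
    have h5 : (Finset.univ.biUnion fun i => (D i).Ex).card ≤ ∑ i, mm A i :=
      Finset.card_biUnion_le.trans (le_of_eq (Finset.sum_congr rfl fun i _ => (D i).card_Ex))
    have h6 : (Finset.univ : Finset (IrrCharacter G)).card = 1 + oc A + ∑ i, mm A i := by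
      rw [Finset.card_univ, ← Nat.card_eq_fintype_card, card_irrCharacter, h.card_classes]
    have h7 := h.card_UU D
    rw [Finset.card_singleton] at h4
    omega
  · choose d hd0 hd using fun χ : IrrCharacter G => IsIrr.one_eq_pos χ.2
    have hdvd : ∀ χ ∈ SS D, nn A ∣ d χ := by
      intro χ hχ
      obtain ⟨-, hno, hz⟩ := (by simpa [SS] using hχ : _ ∧ (∀ p, χ ∉ (D p).Ex) ∧ ∀ p, (D p).c χ = 0)
      refine Finset.prod_dvd_of_isRelPrime (fun i _ j _ hij => Nat.coprime_iff_isRelPrime.1 (h.coprime hij)) fun i _ => ?_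
      letI : Fintype ↥(A i) := Fintype.ofFinite _
      obtain ⟨k, hk⟩ := IsChar.classInner_nat (IsChar.res (IsIrr.isCharacter χ.2) (A i))
        (IsChar.one (G := ↥(A i)))
      rw [classInner, inv_mul_eq_iff_eq_mul₀ (Nat.cast_ne_zero.2 Nat.card_pos.ne'),
        ← Finset.add_sum_erase _ _ (Finset.mem_univ (1 : ↥(A i))), Finset.sum_eq_zero fun a ha => by
          have ha1 : (a : G) ≠ 1 := fun e => (Finset.mem_erase.1 ha).1 (Subtype.ext e)
          show (χ : G → ℂ) a * conj (1 : ℂ) = 0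
          rw [(D i).const χ (hno i) a a.2 ha1, hz i]
          simp] at hk
      have e : (d χ : ℂ) = ((Nat.card ↥(A i) * k : ℕ) : ℂ) := by
        rw [← hd χ, Nat.cast_mul, ← hk]
        simp
      exact ⟨k, Nat.cast_injective e⟩
    have hsum : ∑ χ : IrrCharacter G, d χ ^ 2 = Nat.card G := by
      have := sum_degree_sq (G := G)
      simp only [hd] at this
      exact_mod_cast this
    have htS : trivialIrr G ∉ SS D := by simp [SS]
    have h1 : d (trivialIrr G) ^ 2 + ∑ χ ∈ SS D, d χ ^ 2 ≤ Nat.card G := by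
      rw [← hsum, ← Finset.sum_insert (f := fun χ => d χ ^ 2) htS]
      exact Finset.sum_le_sum_of_subset (Finset.subset_univ _)
    have h2 : (SS D).card * nn A ^ 2 ≤ ∑ χ ∈ SS D, d χ ^ 2 := by
      rw [← smul_eq_mul, ← Finset.sum_const]
      exact Finset.sum_le_sum fun χ hχ => Nat.pow_le_pow_left (Nat.le_of_dvd (hd0 χ) (hdvd χ hχ)) 2
    have := Nat.pow_pos (n := 2) (hd0 (trivialIrr G))
    omega

end Cfsg.Agent.Invol.ThreeTI
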