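import Cfsg.Agent.Lib.Invol.ThreeTI.Classes
import Cfsg.Agent.Lib.Char.FrobTIAbelian
import Cfsg.Agent.Lib.Block.Central

/-!
# The exceptional characters of the three subgroups
-/

set_option autoImplicit false
set_option linter.style.haveILetI false
set_option linter.unusedSectionVars false

namespace Cfsg.Agent.Invol.ThreeTI

open Subgroup Cfsg Cfsg.Agent.Char Cfsg.Agent.Char.FrobTI
open scoped ComplexConjugate

universe u

variable {G : Type u} [Group G] [Fintype G] {A : Fin 3 → Subgroup G}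

/-- The exceptional characters attached to `A i`, the constant values of the other characters there, and
the sum of the exceptional values. -/
structure Exc (A : Fin 3 → Subgroup G) (i : Fin 3) where
  Ex : Finset (IrrCharacter G)
  c : IrrCharacter G → ℤ
  v : ℤ
  card_Ex : Ex.card = mm A i
  const : ∀ χ ∉ Ex, ∀ a ∈ A i, a ≠ 1 → (χ : G → ℂ) a = c χ
  moving : ∀ χ ∈ Ex, ∃ a ∈ A i, ∃ b ∈ A i, a ≠ 1 ∧ b ≠ 1 ∧ (χ : G → ℂ) a ≠ (χ : G → ℂ) b
  inj : ∀ χ ∈ Ex, ∀ χ' ∈ Ex, (∀ a ∈ A i, a ≠ 1 → (χ : G → ℂ) a = (χ' : G → ℂ) a) → χ = χ'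
  off : ∀ χ ∈ Ex, ∀ χ' ∈ Ex, ∀ g : G, (∀ x a : G, a ∈ A i → a ≠ 1 → x * g * x⁻¹ ≠ a) →
    (χ : G → ℂ) g = (χ' : G → ℂ) g
  sum_ex : ∀ a ∈ A i, a ≠ 1 → ∑ χ ∈ Ex, (χ : G → ℂ) a = v
  sq : ∑ χ ∈ Finset.univ.filter (fun χ => χ ∉ Ex), c χ ^ 2 ≤ (ee i : ℤ)

section Local

variable {L : Type u} [Group L] [Fintype L] (K : Subgroup L) [K.Normal]

theorem eq_one_of_not_nonTriv {χ : IrrCharacter L} (h : ¬ NonTriv K (χ : L → ℂ)) {a : L} (ha : a ∈ K) :
    (χ : L → ℂ) a = (χ : L → ℂ) 1 := by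
  by_contra hne
  exact h ⟨a, ha, hne⟩

/-- Sums over the non-constant characters at a non-identity element of the kernel. -/
theorem local_sums [DecidablePred fun χ : IrrCharacter L => NonTriv K (χ : L → ℂ)]
    (hab : ∀ a ∈ K, ∀ b ∈ K, a * b = b * a) (hfix : ∀ k ∈ K, k ≠ 1 → ∀ x : L, x * k = k * x → x ∈ K)
    {a : L} (ha : a ∈ K) (ha1 : a ≠ 1) :
    (∑ χ ∈ Finset.univ.filter (fun χ : IrrCharacter L => NonTriv K (χ : L → ℂ)), (χ : L → ℂ) a = -1) ∧
    ∑ χ ∈ Finset.univ.filter (fun χ : IrrCharacter L => NonTriv K (χ : L → ℂ)),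
      (χ : L → ℂ) a * conj ((χ : L → ℂ) a) = (Nat.card K : ℂ) - (K.index : ℂ) := by
  classical
  constructor
  · have h := regular_expansion a
    rw [if_neg ha1, ← Finset.sum_filter_add_sum_filter_not Finset.univ
      (fun χ : IrrCharacter L => NonTriv K (χ : L → ℂ))] at h
    rw [Finset.sum_congr (s₁ := Finset.univ.filter fun χ : IrrCharacter L => ¬ NonTriv K (χ : L → ℂ)) rfl
        fun χ hχ => by rw [eq_one_of_not_nonTriv K (Finset.mem_filter.1 hχ).2 ha],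
      sum_sq_triv K,
      Finset.sum_congr rfl fun χ hχ => by
        rw [degree_eq_index K hab hfix χ.2 (Finset.mem_filter.1 hχ).2],
      ← Finset.mul_sum] at h
    have he : (K.index : ℂ) ≠ 0 := Nat.cast_ne_zero.2 Subgroup.index_ne_zero_of_finite
    refine mul_left_cancel₀ he ?_
    linear_combination h
  · have h := sum_irr_mul_conj a a
    rw [if_pos (IsConj.refl a)] at h
    have hc : Subgroup.centralizer ({a} : Set L) = K := by
      refine le_antisymm (fun x hx => hfix a ha ha1 x (mem_centralizer_singleton_iff.1 hx)) fun x hx => ?_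
      exact mem_centralizer_singleton_iff.2 (hab x hx a ha)
    rw [hc, ← Finset.sum_filter_add_sum_filter_not Finset.univ
      (fun χ : IrrCharacter L => NonTriv K (χ : L → ℂ)),
      Finset.sum_congr (s₁ := Finset.univ.filter fun χ : IrrCharacter L => ¬ NonTriv K (χ : L → ℂ)) rfl
        fun χ hχ => by
          rw [eq_one_of_not_nonTriv K (Finset.mem_filter.1 hχ).2 ha,
            show conj ((χ : L → ℂ) 1) = (χ : L → ℂ) 1 from by
              obtain ⟨n, -, hn⟩ := IsIrr.one_eq_pos χ.2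
              rw [hn, map_natCast]],
      sum_sq_triv K] at h
    linear_combination h

end Local

variable (h : Hyp A)
include h

theorem Hyp.exists_exc (i : Fin 3) : Nonempty (Exc A i) := by
  classical
  set N := normalizer (A i : Set G) with hN
  letI : Fintype ↥N := Fintype.ofFinite _
  set K := A i with hK
  set KK := KN K with hKK
  have hC : ∀ k ∈ K, k ≠ 1 → centralizer ({k} : Set G) ≤ K := fun k hk hk1 => (h.sc i k hk hk1).le
  have hTI : ∀ g : G, g ∉ N → ∀ k ∈ K, g * k * g⁻¹ ∈ K → k = 1 := fun g hg k hk hgk =>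
    by_contra fun hk1 => hg (h.mem_normalizer hk hk1 hgk)
  have hidx : KK.index = ee i := h.rel i
  have hlt : K < N := lt_of_le_of_ne le_normalizer fun e => by
    have hh := h.rel i
    rw [← hK, ← hN, ← e, Subgroup.relIndex_self] at hh
    fin_cases i <;> simp [ee] at hh
  have hab : ∀ a ∈ K, ∀ b ∈ K, a * b = b * a := fun a ha b hb => h.comm ha hb
  have hab' : ∀ a ∈ KK, ∀ b ∈ KK, a * b = b * a := fun a ha b hb => Subtype.ext (hab _ ha _ hb)
  have hfix := fix_of_centralizer K hC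
  have hcardK : Nat.card KK = Nat.card K :=
    Nat.card_congr (Subgroup.subgroupOfEquivOfLe le_normalizer).toEquiv
  -- the number of relevant characters
  have hdeg : ∀ ψ : Rel K, (ψ.1 : ↥N → ℂ) 1 = (ee i : ℂ) := fun ψ => by
    rw [degree_eq_index KK hab' hfix ψ.1.2 ψ.2, hidx]
  have hRel : Nat.card (Rel K) = mm A i := by
    have hS := sum_sq_nonTriv KK
    rw [Finset.sum_congr rfl fun χ hχ => by
        rw [degree_eq_index KK hab' hfix χ.2 (Finset.mem_filter.1 hχ).2, hidx],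
      Finset.sum_const, nsmul_eq_mul, hidx] at hS
    have hL : Nat.card ↥N = Nat.card K * ee i := by rw [← hcardK, ← hidx, KK.card_mul_index]
    have hf : Nat.card (Rel K) = (Finset.univ.filter
        fun χ : IrrCharacter ↥N => NonTriv KK (χ : ↥N → ℂ)).card := by
      rw [Nat.card_eq_fintype_card, ← Fintype.card_subtype]
      exact Fintype.card_congr (Equiv.refl _)
    rw [← hf, hL, h.card_eq_mm_mul i] at hS
    have he : (ee i : ℂ) ≠ 0 := Nat.cast_ne_zero.2 (by fin_cases i <;> simp [ee])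
    push_cast at hS
    refine Nat.cast_injective (R := ℂ) (mul_right_cancel₀ he (mul_right_cancel₀ he ?_))
    linear_combination hS
  have hm2 := h.two_le_mm i
  rcases brauer_suzuki K hTI hlt hC hab with ⟨hone, -⟩ | ⟨ε, f, hε, hfinj, hf⟩
  · omega
  have hεc : conj ε = ε := by rcases hε with rfl | rfl <;> simp
  have hε2 : ε * ε = 1 := by rcases hε with rfl | rfl <;> norm_num
  obtain ⟨εz, hεz⟩ : ∃ z : ℤ, ε = (z : ℂ) := by
    rcases hε with rfl | rfl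
    · exact ⟨1, by simp⟩
    · exact ⟨-1, by simp⟩
  obtain ⟨ψ₀⟩ : Nonempty (Rel K) := (Nat.card_pos_iff.1 (by omega : 0 < Nat.card (Rel K))).1
  -- restriction coefficients
  have hrel : ∀ χ : IrrCharacter G, ∃ c : ℤ, ∀ a : ↥N, a ∈ KK → a ≠ 1 →
      (χ : G → ℂ) a = c + ε * ∑ ψ : Rel K, (if χ = f ψ then (ψ.1 : ↥N → ℂ) a else 0) := by
    intro χ
    obtain ⟨co, hco, hdec⟩ := IsChar.exists_decomp_inner (IsChar.res (IsIrr.isCharacter χ.2) N)
    have hdiff : ∀ ψ ξ : Rel K, (co ψ.1 : ℂ) - co ξ.1 =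
        ε * ((if χ = f ψ then 1 else 0) - (if χ = f ξ then 1 else 0)) := by
      intro ψ ξ
      rw [← hco, ← hco, ← classInner_sub_right]
      have e : classInner (χ : G → ℂ) (indFun N ((ψ.1 : ↥N → ℂ) - ξ.1)) =
          classInner (fun x : ↥N => (χ : G → ℂ) x) ((ψ.1 : ↥N → ℂ) - ξ.1) :=
        classInner_indFun_right N _ (IsIrr.classFun χ.2)
      rw [← e, hf, classInner_smul_right, hεc, classInner_sub_right,
        classInner_irr_eq_ite χ.2 (f ψ).2, classInner_irr_eq_ite χ.2 (f ξ).2]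
      simp only [Subtype.coe_inj]
    choose d hd using fun ρ : IrrCharacter ↥N => IsIrr.one_eq_pos ρ.2
    refine ⟨(∑ ρ ∈ Finset.univ.filter (fun ρ : IrrCharacter ↥N => ¬ NonTriv KK (ρ : ↥N → ℂ)),
      (co ρ : ℤ) * d ρ) - ((co ψ₀.1 : ℤ) - εz * if χ = f ψ₀ then 1 else 0), fun a ha ha1 => ?_⟩
    have hv := congrFun hdec a
    rw [sum_irr_apply] at hv
    rw [hv, ← Finset.sum_filter_add_sum_filter_not Finset.univ
      (fun ρ : IrrCharacter ↥N => NonTriv KK (ρ : ↥N → ℂ))]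
    have h1 : ∑ ρ ∈ Finset.univ.filter (fun ρ : IrrCharacter ↥N => ¬ NonTriv KK (ρ : ↥N → ℂ)),
        (co ρ : ℂ) * (ρ : ↥N → ℂ) a =
        ((∑ ρ ∈ Finset.univ.filter (fun ρ : IrrCharacter ↥N => ¬ NonTriv KK (ρ : ↥N → ℂ)),
          (co ρ : ℤ) * d ρ : ℤ) : ℂ) := by
      push_cast
      exact Finset.sum_congr rfl fun ρ hρ => by
        rw [eq_one_of_not_nonTriv KK (Finset.mem_filter.1 hρ).2 ha, (hd ρ).2]
    have hto : ∀ F : IrrCharacter ↥N → ℂ,
        ∑ ρ ∈ Finset.univ.filter (fun ρ : IrrCharacter ↥N => NonTriv KK (ρ : ↥N → ℂ)), F ρ =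
        ∑ ψ : Rel K, F ψ.1 := fun F =>
      Finset.sum_subtype _ (fun x => by simp only [Finset.mem_filter, Finset.mem_univ, true_and]; rfl) F
    have h2 : ∑ ψ : Rel K, (co ψ.1 : ℂ) * (ψ.1 : ↥N → ℂ) a =
        ε * ∑ ψ : Rel K, (if χ = f ψ then (ψ.1 : ↥N → ℂ) a else 0) +
        ((co ψ₀.1 : ℂ) - ε * if χ = f ψ₀ then 1 else 0) * ∑ ψ : Rel K, (ψ.1 : ↥N → ℂ) a := by
      rw [Finset.mul_sum, Finset.mul_sum, ← Finset.sum_add_distrib]
      refine Finset.sum_congr rfl fun ψ _ => ?_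
      have := hdiff ψ ψ₀
      by_cases hh : χ = f ψ <;> by_cases h0 : χ = f ψ₀
      · rw [if_pos hh, if_pos h0] at this ⊢
        linear_combination ((ψ.1 : ↥N → ℂ) a) * this
      · rw [if_pos hh, if_neg h0] at this ⊢
        linear_combination ((ψ.1 : ↥N → ℂ) a) * this
      · rw [if_neg hh, if_pos h0] at this ⊢
        linear_combination ((ψ.1 : ↥N → ℂ) a) * this
      · rw [if_neg hh, if_neg h0] at this ⊢
        linear_combination ((ψ.1 : ↥N → ℂ) a) * this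
    have h3 : ∑ ψ : Rel K, (ψ.1 : ↥N → ℂ) a = -1 := by
      rw [← hto (fun ρ => (ρ : ↥N → ℂ) a)]
      exact (local_sums KK hab' hfix ha ha1).1
    rw [h1, hto, h2, h3]
    push_cast
    rw [hεz]
    ring
  choose c hc using hrel
  -- values of the images
  have hval : ∀ ψ : Rel K, ∀ a : ↥N, a ∈ KK → a ≠ 1 →
      (f ψ : G → ℂ) a = c (f ψ) + ε * (ψ.1 : ↥N → ℂ) a := by
    intro ψ a ha ha1
    rw [hc (f ψ) a ha ha1, Finset.sum_eq_single ψ (fun ξ _ hξ => if_neg fun e => hξ (hfinj e).symm)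
      (fun hh => absurd (Finset.mem_univ _) hh), if_pos rfl]
  have hsub : ∀ ψ ξ : Rel K, IsClassFunction ↥N ((ψ.1 : ↥N → ℂ) - ξ.1) := fun ψ ξ g k => by
    simp only [Pi.sub_apply, IsIrr.classFun ψ.1.2 g k, IsIrr.classFun ξ.1.2 g k]
  have hsupp : ∀ ψ ξ : Rel K, ∀ x : ↥N, x ∉ KK → ((ψ.1 : ↥N → ℂ) - ξ.1) x = 0 := fun ψ ξ x hx => by
    rw [Pi.sub_apply, vanish KK hfix ψ.1.2 ψ.2 hx, vanish KK hfix ξ.1.2 ξ.2 hx, sub_self]
  obtain ⟨a₀, ha₀, ha₀1⟩ := h.exists_ne_one i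
  set a₀' : ↥N := ⟨a₀, le_normalizer ha₀⟩ with ha₀'
  have hc0 : ∀ ψ ξ : Rel K, c (f ψ) = c (f ξ) := by
    intro ψ ξ
    have e := congrFun (hf ψ ξ) a₀
    rw [show a₀ = (a₀' : G) from rfl, res_ind K hC hTI hlt (hsub ψ ξ) (hsupp ψ ξ)
      (by rw [Pi.sub_apply, hdeg, hdeg, sub_self]), Pi.smul_apply, Pi.sub_apply, Pi.sub_apply, smul_eq_mul,
      hval ψ a₀' ha₀ (fun e => ha₀1 (congrArg Subtype.val e)),
      hval ξ a₀' ha₀ (fun e => ha₀1 (congrArg Subtype.val e))] at e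
    have e' : (c (f ψ) : ℂ) = c (f ξ) := by
      linear_combination (-ε) * e + ((c (f ξ) : ℂ) - c (f ψ) - ε * (ψ.1 : ↥N → ℂ) a₀' + ε * (ξ.1 : ↥N → ℂ) a₀') * hε2
    exact_mod_cast e'
  set Ex := Finset.univ.image f with hEx
  have hmem : ∀ {χ}, χ ∈ Ex → ∃ ψ, f ψ = χ := fun {χ} hχ => by simpa [hEx] using hχ
  have hlift : ∀ {a : G}, a ∈ K → a ≠ 1 → ∃ a' : ↥N, a' ∈ KK ∧ a' ≠ 1 ∧ (a' : G) = a := fun {a} ha ha1 =>
    ⟨⟨a, le_normalizer ha⟩, ha, fun e => ha1 (congrArg Subtype.val e), rfl⟩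
  have hsumψ : ∀ a : ↥N, a ∈ KK → a ≠ 1 → ∑ ψ : Rel K, (ψ.1 : ↥N → ℂ) a = -1 := by
    intro a ha ha1
    rw [← (local_sums KK hab' hfix ha ha1).1]
    exact (Finset.sum_subtype _ (fun x => by
      simp only [Finset.mem_filter, Finset.mem_univ, true_and]; rfl) fun ρ : IrrCharacter ↥N => (ρ : ↥N → ℂ) a).symm
  have hsumsq : ∀ a : ↥N, a ∈ KK → a ≠ 1 →
      ∑ ψ : Rel K, (ψ.1 : ↥N → ℂ) a * conj ((ψ.1 : ↥N → ℂ) a) = (Nat.card K : ℂ) - (ee i : ℂ) := by
    intro a ha ha1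
    rw [← hcardK, ← hidx, ← (local_sums KK hab' hfix ha ha1).2]
    exact (Finset.sum_subtype _ (fun x => by simp only [Finset.mem_filter, Finset.mem_univ, true_and]; rfl)
      fun ρ : IrrCharacter ↥N => (ρ : ↥N → ℂ) a * conj ((ρ : ↥N → ℂ) a)).symm
  refine ⟨{ Ex := Ex, c := c, v := (mm A i : ℤ) * c (f ψ₀) - εz, card_Ex := ?_, const := ?_, moving := ?_,
            inj := ?_, off := ?_, sum_ex := ?_, sq := ?_ }⟩
  · rw [hEx, Finset.card_image_of_injective _ hfinj, Finset.card_univ, ← Nat.card_eq_fintype_card, hRel]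
  · intro χ hχ a ha ha1
    obtain ⟨a', ha', ha1', rfl⟩ := hlift ha ha1
    rw [hc χ a' ha' ha1', Finset.sum_eq_zero fun ψ _ => if_neg fun e =>
      hχ (by rw [hEx, e]; exact Finset.mem_image_of_mem f (Finset.mem_univ ψ)), mul_zero, add_zero]
  · intro χ hχ
    obtain ⟨ψ, rfl⟩ := hmem hχ
    obtain ⟨ξ, hξ⟩ : ∃ ξ : Rel K, ξ ≠ ψ := by
      by_contra hh
      push Not at hh
      have : Subsingleton (Rel K) := ⟨fun x y => (hh x).trans (hh y).symm⟩
      have := Finite.card_le_one_iff_subsingleton.2 this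
      omega
    obtain ⟨a, ha, b, hb, ha1, hb1, hne⟩ :=
      not_const KK hfix ψ.2 ξ.2 (fun e => hξ (Subtype.ext e.symm))
    refine ⟨(a : G), ha, (b : G), hb, fun e => ha1 (Subtype.ext e), fun e => hb1 (Subtype.ext e), fun e => hne ?_⟩
    rw [hval ψ a ha ha1, hval ψ b hb hb1] at e
    linear_combination ε * e + ((ψ.1 : ↥N → ℂ) b - (ψ.1 : ↥N → ℂ) a) * hε2
  · intro χ hχ χ' hχ' heq
    obtain ⟨ψ, rfl⟩ := hmem hχ
    obtain ⟨ξ, rfl⟩ := hmem hχ'
    refine congrArg f (Subtype.ext (Subtype.ext (funext fun x => ?_)))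
    by_cases hx : x ∈ KK
    · by_cases hx1 : x = 1
      · rw [hx1, hdeg, hdeg]
      have e := heq (x : G) hx (fun e => hx1 (Subtype.ext e))
      rw [hval ψ x hx hx1, hval ξ x hx hx1, hc0 ψ ξ] at e
      linear_combination ε * e + ((ξ.1 : ↥N → ℂ) x - (ψ.1 : ↥N → ℂ) x) * hε2
    · rw [vanish KK hfix ψ.1.2 ψ.2 hx, vanish KK hfix ξ.1.2 ξ.2 hx]
  · intro χ hχ χ' hχ' g hg
    obtain ⟨ψ, rfl⟩ := hmem hχ
    obtain ⟨ξ, rfl⟩ := hmem hχ'
    have e := congrFun (hf ψ ξ) g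
    rw [indFun_eq_zero_of_not_conj N _ fun x hx => ?_, Pi.smul_apply, Pi.sub_apply, smul_eq_mul] at e
    · linear_combination (-ε) * e + ((f ξ : G → ℂ) g - (f ψ : G → ℂ) g) * hε2
    · by_cases hxK : (⟨x⁻¹ * g * x, hx⟩ : ↥N) ∈ KK
      · by_cases hx1 : x⁻¹ * g * x = 1
        · rw [show (⟨x⁻¹ * g * x, hx⟩ : ↥N) = 1 from Subtype.ext hx1, Pi.sub_apply, hdeg, hdeg, sub_self]
        · exact absurd (by rw [inv_inv]) (hg x⁻¹ (x⁻¹ * g * x) hxK hx1)
      · exact hsupp ψ ξ _ hxK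
  · intro a ha ha1
    obtain ⟨a', ha', ha1', rfl⟩ := hlift ha ha1
    rw [hEx, Finset.sum_image fun x _ y _ e => hfinj e,
      Finset.sum_congr rfl fun ψ _ => by rw [hval ψ a' ha' ha1', hc0 ψ ψ₀],
      Finset.sum_add_distrib, Finset.sum_const, ← Finset.mul_sum, hsumψ a' ha' ha1', Finset.card_univ,
      ← Nat.card_eq_fintype_card, hRel, nsmul_eq_mul]
    push_cast
    rw [hεz]
    ring
  · have hcol := sum_irr_mul_conj a₀ a₀
    rw [if_pos (IsConj.refl a₀), h.sc i a₀ ha₀ ha₀1,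
      ← Finset.sum_filter_add_sum_filter_not Finset.univ (fun χ : IrrCharacter G => χ ∈ Ex),
      Finset.filter_univ_mem] at hcol
    have e1 : ∑ χ ∈ Ex, (χ : G → ℂ) a₀ * conj ((χ : G → ℂ) a₀) =
        (((mm A i : ℤ) * c (f ψ₀) ^ 2 - 2 * εz * c (f ψ₀) - (ee i : ℤ) + (Nat.card ↥(A i) : ℤ) : ℤ) : ℂ) := by
      rw [hEx, Finset.sum_image fun x _ y _ e => hfinj e, Finset.sum_congr rfl (g := fun ψ : Rel K =>
        ((c (f ψ₀) : ℂ) * c (f ψ₀)) + (c (f ψ₀) : ℂ) * ε * (ψ.1 : ↥N → ℂ) a₀' +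
          (c (f ψ₀) : ℂ) * ε * conj ((ψ.1 : ↥N → ℂ) a₀') +
          (ψ.1 : ↥N → ℂ) a₀' * conj ((ψ.1 : ↥N → ℂ) a₀')) fun ψ _ => by
          rw [show a₀ = (a₀' : G) from rfl, hval ψ a₀' ha₀ (fun e => ha₀1 (congrArg Subtype.val e)),
            hc0 ψ ψ₀, map_add, map_mul, hεc, map_intCast]
          linear_combination ((ψ.1 : ↥N → ℂ) a₀' * conj ((ψ.1 : ↥N → ℂ) a₀')) * hε2]
      rw [Finset.sum_add_distrib, Finset.sum_add_distrib, Finset.sum_add_distrib, Finset.sum_const,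
        ← Finset.mul_sum, ← Finset.mul_sum, ← map_sum, hsumψ a₀' ha₀ (fun e => ha₀1 (congrArg Subtype.val e)),
        hsumsq a₀' ha₀ (fun e => ha₀1 (congrArg Subtype.val e)), Finset.card_univ, ← Nat.card_eq_fintype_card,
        hRel, nsmul_eq_mul, map_neg, map_one]
      push_cast
      rw [hεz]
      ring
    have e2 : ∑ χ ∈ Finset.univ.filter (fun χ => χ ∉ Ex), (χ : G → ℂ) a₀ * conj ((χ : G → ℂ) a₀) =
        ((∑ χ ∈ Finset.univ.filter (fun χ => χ ∉ Ex), c χ ^ 2 : ℤ) : ℂ) := by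
      push_cast
      refine Finset.sum_congr rfl fun χ hχ => ?_
      rw [show a₀ = (a₀' : G) from rfl, hc χ a₀' ha₀ (fun e => ha₀1 (congrArg Subtype.val e)),
        Finset.sum_eq_zero fun ψ _ => if_neg fun e => (Finset.mem_filter.1 hχ).2
          (by rw [hEx, e]; exact Finset.mem_image_of_mem f (Finset.mem_univ ψ)),
        mul_zero, add_zero, map_intCast, pow_two]
    rw [e1, e2] at hcol
    have e3 : (mm A i : ℤ) * c (f ψ₀) ^ 2 - 2 * εz * c (f ψ₀) - (ee i : ℤ) + (Nat.card ↥(A i) : ℤ) +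
        ∑ χ ∈ Finset.univ.filter (fun χ => χ ∉ Ex), c χ ^ 2 = (Nat.card ↥(A i) : ℤ) := by exact_mod_cast hcol
    have hεz' : εz = 1 ∨ εz = -1 := by
      rcases hε with rfl | rfl
      · exact Or.inl (by exact_mod_cast hεz.symm)
      · exact Or.inr (by exact_mod_cast hεz.symm)
    have hnn : 0 ≤ (mm A i : ℤ) * c (f ψ₀) ^ 2 - 2 * εz * c (f ψ₀) := by
      have hm : (2 : ℤ) ≤ (mm A i : ℤ) := by exact_mod_cast hm2
      rcases lt_trichotomy (c (f ψ₀)) 0 with h0 | h0 | h0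
      · rcases hεz' with rfl | rfl <;> nlinarith
      · simp [h0]
      · rcases hεz' with rfl | rfl <;> nlinarith
    linarith

end Cfsg.Agent.Invol.ThreeTI
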