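import Cfsg.Agent.Lib.Invol.ThreeTI.Basic

/-!
# Conjugacy classes and the class equation
-/

set_option autoImplicit false
set_option linter.style.haveILetI false

namespace Cfsg.Agent.Invol.ThreeTI

open Subgroup

variable {G : Type*} [Group G]

/-- The classes meeting `A i` outside the identity. -/
def CA (A : Fin 3 → Subgroup G) (i : Fin 3) : Set (ConjClasses G) :=
  {C | ∃ a ∈ A i, a ≠ 1 ∧ ConjClasses.mk a = C}

/-- The classes of outside elements. -/
def OC (A : Fin 3 → Subgroup G) : Set (ConjClasses G) := {C | ∃ g, Out A g ∧ ConjClasses.mk g = C}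

/-- The number of classes meeting `A i` outside the identity. -/
noncomputable def mm (A : Fin 3 → Subgroup G) (i : Fin 3) : ℕ := Nat.card ↥(CA A i)

/-- The number of outside classes. -/
noncomputable def oc (A : Fin 3 → Subgroup G) : ℕ := Nat.card ↥(OC A)

/-- The bound of the class equation. -/
noncomputable def EE (A : Fin 3 → Subgroup G) : ℚ := ∑ i, 1 / ((ee i : ℚ) * Nat.card ↥(A i))

variable [Finite G] {A : Fin 3 → Subgroup G}

theorem out_of_isConj {g g' : G} (hg : Out A g) (hc : IsConj g g') : Out A g' := by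
  obtain ⟨c, rfl⟩ := isConj_iff.1 hc
  refine ⟨fun e => hg.1 (by simpa [mul_inv_eq_one] using e), ?_⟩
  rw [← MulAut.conj_apply, MulEquiv.orderOf_eq]
  exact hg.2

theorem card_carrier_mul (g : G) :
    Nat.card ↥(ConjClasses.mk g).carrier * Nat.card ↥(centralizer ({g} : Set G)) = Nat.card G := by
  have h1 := MulAction.index_stabilizer (ConjAct G) g
  rw [ConjAct.stabilizer_eq_centralizer, ConjAct.orbit_eq_carrier_conjClasses] at h1
  rw [← (centralizer ({g} : Set G)).index_mul_card]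
  exact congrArg (· * _) h1.symm

variable (h : Hyp A)
include h

theorem Hyp.one_not_oc : ConjClasses.mk (1 : G) ∉ OC A := by
  rintro ⟨g, hg, hC⟩
  exact hg.1 (isConj_one_right.1 (ConjClasses.mk_eq_mk_iff_isConj.1 hC).symm)

theorem Hyp.one_not_ca (i : Fin 3) : ConjClasses.mk (1 : G) ∉ CA A i := by
  rintro ⟨a, -, ha1, hC⟩
  exact ha1 (isConj_one_right.1 (ConjClasses.mk_eq_mk_iff_isConj.1 hC).symm)

theorem Hyp.disjoint_oc (i : Fin 3) : Disjoint (OC A) (CA A i) := by
  rw [Set.disjoint_left]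
  rintro C ⟨g, hg, rfl⟩ ⟨a, ha, -, hC⟩
  obtain ⟨c, hc⟩ := isConj_iff.1 (ConjClasses.mk_eq_mk_iff_isConj.1 hC.symm)
  exact h.not_out (c := c) (hc ▸ ha) hg

theorem Hyp.disjoint_ca {i j : Fin 3} (hij : i ≠ j) : Disjoint (CA A i) (CA A j) := by
  rw [Set.disjoint_left]
  rintro C ⟨a, ha, ha1, rfl⟩ ⟨b, hb, -, hC⟩
  obtain ⟨c, hc⟩ := isConj_iff.1 (ConjClasses.mk_eq_mk_iff_isConj.1 hC.symm)
  exact hij (h.eq_of_conj ha ha1 (hc ▸ hb))

theorem Hyp.class_cases (C : ConjClasses G) : C = ConjClasses.mk 1 ∨ C ∈ OC A ∨ ∃ i, C ∈ CA A i := by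
  obtain ⟨g, rfl⟩ := C.exists_rep
  by_cases hg : g = 1
  · exact Or.inl (by rw [hg])
  rcases h.out_or hg with ho | ⟨i, c, hc⟩
  · exact Or.inr (Or.inl ⟨g, ho, rfl⟩)
  · exact Or.inr (Or.inr ⟨i, _, hc, fun e => hg (by simpa [mul_inv_eq_one] using e),
      ConjClasses.mk_eq_mk_iff_isConj.2 (isConj_iff.2 ⟨c, rfl⟩).symm⟩)

/-- Sums over all classes split. -/
theorem Hyp.sum_classes {M : Type*} [AddCommMonoid M] [Fintype (ConjClasses G)] [Fintype ↥(OC A)]
    [∀ i, Fintype ↥(CA A i)] (f : ConjClasses G → M) :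
    ∑ C, f C = f (ConjClasses.mk 1) + ∑ C : ↥(OC A), f C + ∑ i, ∑ C : ↥(CA A i), f C := by
  classical
  have h1 : Disjoint ({ConjClasses.mk 1} : Finset (ConjClasses G)) (OC A).toFinset := by
    simp [h.one_not_oc]
  have h2 : ((Finset.univ : Finset (Fin 3)) : Set (Fin 3)).PairwiseDisjoint fun i => (CA A i).toFinset :=
    fun i _ j _ hij => Set.disjoint_toFinset.2 (h.disjoint_ca hij)
  have h3 : Disjoint (({ConjClasses.mk 1} : Finset (ConjClasses G)) ∪ (OC A).toFinset)
      (Finset.univ.biUnion fun i => (CA A i).toFinset) := by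
    rw [Finset.disjoint_biUnion_right]
    intro i _
    rw [Finset.disjoint_union_left]
    exact ⟨by simp [h.one_not_ca i], Set.disjoint_toFinset.2 (h.disjoint_oc i)⟩
  have hu : (Finset.univ : Finset (ConjClasses G)) =
      ({ConjClasses.mk 1} ∪ (OC A).toFinset) ∪ Finset.univ.biUnion fun i => (CA A i).toFinset := by
    ext C
    simpa [or_assoc] using h.class_cases C
  rw [hu, Finset.sum_union h3, Finset.sum_union h1, Finset.sum_singleton, Finset.sum_biUnion h2]
  simp only [← Finset.sum_set_coe]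

theorem Hyp.card_classes : Nat.card (ConjClasses G) = 1 + oc A + ∑ i, mm A i := by
  classical
  letI := Fintype.ofFinite (ConjClasses G)
  have e := h.sum_classes (fun _ => (1 : ℕ))
  simp only [Finset.sum_const, Finset.card_univ, smul_eq_mul, mul_one] at e
  simp only [oc, mm, Nat.card_eq_fintype_card]
  exact e

/-- Each class meeting `A i` meets it in `ee i` elements. -/
theorem Hyp.card_eq_mm_mul (i : Fin 3) : Nat.card ↥(A i) = mm A i * ee i + 1 := by
  classical
  set N := normalizer (A i : Set G) with hN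
  set K := (A i).subgroupOf N with hK
  let f : {a : ↥(A i) // a ≠ 1} → ↥(CA A i) := fun a =>
    ⟨ConjClasses.mk (a.1 : G), a.1, a.1.2, fun e => a.2 (Subtype.ext e), rfl⟩
  have hfib : ∀ C : ↥(CA A i), Nat.card {a // f a = C} = ee i := by
    rintro ⟨C, a, ha, ha1, rfl⟩
    have hidx : Nat.card (N ⧸ K) = ee i := by rw [← Subgroup.index_eq_card]; exact h.rel i
    have hmem : ∀ g : N, (g : G) * a * (g : G)⁻¹ ∈ A i := fun g => (mem_normalizer_iff.1 g.2 a).1 ha
    let F : N → {b // f b = ⟨ConjClasses.mk a, a, ha, ha1, rfl⟩} := fun g =>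
      ⟨⟨⟨(g : G) * a * (g : G)⁻¹, hmem g⟩, fun e => ha1 (by
          have := congrArg Subtype.val e
          simpa [mul_inv_eq_one] using this)⟩,
        Subtype.ext (ConjClasses.mk_eq_mk_iff_isConj.2 (isConj_iff.2 ⟨(g : G), rfl⟩).symm)⟩
    have hF : ∀ g g' : N, g⁻¹ * g' ∈ K ↔ F g = F g' := by
      intro g g'
      constructor
      · intro hk
        refine Subtype.ext (Subtype.ext (Subtype.ext ?_))
        show (g : G) * a * (g : G)⁻¹ = (g' : G) * a * (g' : G)⁻¹
        have hc := h.comm (mem_subgroupOf.1 hk) ha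
        rw [Subgroup.coe_mul, Subgroup.coe_inv] at hc
        calc (g : G) * a * (g : G)⁻¹ = (g : G) * (a * ((g : G)⁻¹ * g')) * (g' : G)⁻¹ := by group
          _ = (g : G) * ((g : G)⁻¹ * g' * a) * (g' : G)⁻¹ := by rw [hc]
          _ = _ := by group
      · intro e
        have e' : (g : G) * a * (g : G)⁻¹ = (g' : G) * a * (g' : G)⁻¹ :=
          congrArg (fun b => ((b.1.1 : ↥(A i)) : G)) e
        refine mem_subgroupOf.2 (h.mem_of_commute ha ha1 ?_)
        rw [Subgroup.coe_mul, Subgroup.coe_inv]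
        calc (g : G)⁻¹ * g' * a = (g : G)⁻¹ * ((g' : G) * a * (g' : G)⁻¹) * g' := by group
          _ = (g : G)⁻¹ * ((g : G) * a * (g : G)⁻¹) * g' := by rw [e']
          _ = _ := by group
    rw [← hidx]
    refine (Nat.card_congr (Equiv.ofBijective
      (Quotient.lift F fun g g' e => (hF g g').1 (QuotientGroup.leftRel_apply.1 e) : N ⧸ K → _) ⟨?_, ?_⟩)).symm
    · intro x y
      induction x using QuotientGroup.induction_on with
      | _ g =>
        induction y using QuotientGroup.induction_on with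
        | _ g' => exact fun e => QuotientGroup.eq.2 ((hF g g').2 e)
    · rintro ⟨⟨⟨b, hb⟩, hb1⟩, hbC⟩
      obtain ⟨g, hg⟩ := isConj_iff.1 (ConjClasses.mk_eq_mk_iff_isConj.1 (congrArg Subtype.val hbC).symm)
      refine ⟨QuotientGroup.mk (⟨g, h.mem_normalizer ha ha1 (hg ▸ hb)⟩ : N), ?_⟩
      exact Subtype.ext (Subtype.ext (Subtype.ext hg))
  have h1 : Nat.card {a : ↥(A i) // a ≠ 1} + 1 = Nat.card ↥(A i) := by
    letI := Fintype.ofFinite ↥(A i)
    have hpos : 0 < Fintype.card ↥(A i) := Fintype.card_pos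
    rw [Nat.card_eq_fintype_card, Fintype.card_subtype_compl, Fintype.card_subtype_eq,
      Nat.card_eq_fintype_card]
    omega
  rw [← h1, Nat.card_congr (Equiv.sigmaFiberEquiv f).symm]
  letI := Fintype.ofFinite ↥(CA A i)
  rw [Nat.card_sigma, Finset.sum_congr rfl fun C _ => hfib C]
  simp [mm, Nat.card_eq_fintype_card]

theorem Hyp.two_le_mm (i : Fin 3) : 2 ≤ mm A i := by
  have h0 := h.card_eq_mm_mul i
  have h5 := h.five_le i
  fin_cases i
  · simp only [ee, Fin.zero_eta, Matrix.cons_val_zero] at h0 h5 ⊢; omega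
  · have h6 := h.six₁
    simp only [ee, Fin.mk_one, Matrix.cons_val_one, Matrix.cons_val_zero] at h0 h5 ⊢
    omega
  · have h6 := h.six₂
    have : ee (2 : Fin 3) = 4 := rfl
    simp only [Fin.reduceFinMk, this] at h0 h5 ⊢
    omega

/-- Six pairwise non-conjugate outside elements contradict a bound of five outside classes. -/
theorem Hyp.six (h5 : oc A ≤ 5) (g : Fin 6 → G) (hg : ∀ k, Out A (g k))
    (hne : ∀ k l, k < l → ¬ IsConj (g k) (g l)) : False := by
  have hinj : Function.Injective (fun k => (⟨ConjClasses.mk (g k), g k, hg k, rfl⟩ : ↥(OC A))) := by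
    intro k l e
    by_contra hkl
    have hc := ConjClasses.mk_eq_mk_iff_isConj.1 (congrArg Subtype.val e)
    rcases lt_or_gt_of_ne hkl with hlt | hlt
    · exact hne k l hlt hc
    · exact hne l k hlt hc.symm
  have := Nat.card_le_card_of_injective _ hinj
  rw [Nat.card_fin] at this
  exact absurd (this.trans h5) (by norm_num)

/-- A lower bound for the number of outside classes. -/
theorem Hyp.le_oc {ι : Type*} (g : ι → G) (hg : ∀ k, Out A (g k))
    (hne : ∀ k l, IsConj (g k) (g l) → k = l) : Nat.card ι ≤ oc A := by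
  refine Nat.card_le_card_of_injective (fun k => (⟨ConjClasses.mk (g k), g k, hg k, rfl⟩ : ↥(OC A))) ?_
  exact fun k l e => hne k l (ConjClasses.mk_eq_mk_iff_isConj.1 (congrArg Subtype.val e))

/-- The class equation. -/
theorem Hyp.class_equation [Fintype ↥(OC A)] :
    1 / (Nat.card G : ℚ) + ∑ C : ↥(OC A), (Nat.card ↥(C : ConjClasses G).carrier : ℚ) / Nat.card G = EE A := by
  classical
  letI := Fintype.ofFinite (ConjClasses G)
  have hG : (Nat.card G : ℚ) ≠ 0 := Nat.cast_ne_zero.2 Nat.card_pos.ne'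
  have htot : ∑ C : ConjClasses G, Nat.card ↥C.carrier = Nat.card G := by
    rw [← Nat.card_sigma]
    exact Nat.card_congr ((Equiv.sigmaCongrRight fun C => Equiv.subtypeEquivRight fun x => by
      rw [ConjClasses.mem_carrier_iff_mk_eq]).trans (Equiv.sigmaFiberEquiv (ConjClasses.mk : G → _)))
  have hone : Nat.card ↥(ConjClasses.mk (1 : G)).carrier = 1 := by
    have hc := card_carrier_mul (1 : G)
    have htop : centralizer ({(1 : G)} : Set G) = ⊤ :=
      eq_top_iff.2 fun g _ => mem_centralizer_singleton_iff.2 (by rw [mul_one, one_mul])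
    rw [htop, Subgroup.card_top] at hc
    exact Nat.eq_of_mul_eq_mul_right Nat.card_pos (hc.trans (one_mul _).symm)
  have hA : ∀ i, ∀ C : ↥(CA A i),
      (Nat.card ↥(C : ConjClasses G).carrier : ℚ) / Nat.card G = 1 / Nat.card ↥(A i) := by
    rintro i ⟨C, a, ha, ha1, rfl⟩
    have hc := card_carrier_mul a
    rw [h.sc i a ha ha1] at hc
    have hn : (Nat.card ↥(A i) : ℚ) ≠ 0 := Nat.cast_ne_zero.2 Nat.card_pos.ne'
    rw [div_eq_div_iff hG hn, one_mul, ← Nat.cast_mul, hc]
  have e := h.sum_classes (fun C : ConjClasses G => (Nat.card ↥C.carrier : ℚ) / Nat.card G)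
  rw [hone, Nat.cast_one, ← Finset.sum_div, ← Nat.cast_sum, htot, div_self hG] at e
  have hAi : ∀ i, ∑ C : ↥(CA A i), (Nat.card ↥(C : ConjClasses G).carrier : ℚ) / Nat.card G =
      1 / (ee i : ℚ) - 1 / ((ee i : ℚ) * Nat.card ↥(A i)) := by
    intro i
    rw [Finset.sum_congr rfl fun C _ => hA i C, Finset.sum_const, nsmul_eq_mul, Finset.card_univ,
      ← Nat.card_eq_fintype_card]
    have hm : (Nat.card ↥(A i) : ℚ) = (mm A i : ℚ) * ee i + 1 := by exact_mod_cast h.card_eq_mm_mul i
    have hn : (Nat.card ↥(A i) : ℚ) ≠ 0 := Nat.cast_ne_zero.2 Nat.card_pos.ne'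
    have he : (ee i : ℚ) ≠ 0 := Nat.cast_ne_zero.2 (by fin_cases i <;> simp [ee])
    rw [show (Nat.card ↥(CA A i) : ℚ) = (mm A i : ℚ) from rfl]
    field_simp
    linear_combination -hm
  simp only [hAi, Fin.sum_univ_three] at e
  simp only [EE, Fin.sum_univ_three]
  have e0 : (ee 0 : ℚ) = 2 := by simp [ee]
  have e1 : (ee 1 : ℚ) = 4 := by simp [ee]
  have e2 : (ee 2 : ℚ) = 4 := by simp [ee]
  rw [e0, e1, e2] at e ⊢
  linarith

/-- Pairwise non-conjugate outside elements give a lower bound in the class equation. -/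
theorem Hyp.sum_inv_lt {ι : Type*} [Fintype ι] (g : ι → G) (hg : ∀ k, Out A (g k))
    (hne : ∀ k l, IsConj (g k) (g l) → k = l) :
    ∑ k, 1 / (Nat.card ↥(centralizer ({g k} : Set G)) : ℚ) < EE A := by
  classical
  letI := Fintype.ofFinite ↥(OC A)
  let φ : ι ↪ ↥(OC A) := ⟨fun k => ⟨ConjClasses.mk (g k), g k, hg k, rfl⟩,
    fun k l e => hne k l (ConjClasses.mk_eq_mk_iff_isConj.1 (congrArg Subtype.val e))⟩
  rw [← h.class_equation]
  have hG : (0 : ℚ) < Nat.card G := Nat.cast_pos.2 Nat.card_pos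
  refine lt_add_of_pos_of_le (by positivity) ?_
  calc ∑ k, 1 / (Nat.card ↥(centralizer ({g k} : Set G)) : ℚ)
      = ∑ k, (Nat.card ↥((φ k : ↥(OC A)) : ConjClasses G).carrier : ℚ) / Nat.card G := by
        refine Finset.sum_congr rfl fun k _ => ?_
        have hn : (Nat.card ↥(centralizer ({g k} : Set G)) : ℚ) ≠ 0 :=
          Nat.cast_ne_zero.2 Nat.card_pos.ne'
        rw [div_eq_div_iff hn hG.ne', one_mul]
        exact_mod_cast (card_carrier_mul (g k)).symm
    _ = ∑ C ∈ Finset.univ.map φ, (Nat.card ↥(C : ConjClasses G).carrier : ℚ) / Nat.card G := by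
        rw [Finset.sum_map]
    _ ≤ _ := Finset.sum_le_sum_of_subset_of_nonneg (Finset.subset_univ _) fun _ _ _ => by positivity

end Cfsg.Agent.Invol.ThreeTI
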