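import Cfsg.Agent.Lib.Invol.ThreeTI.Final
import Cfsg.Agent.Lib.Invol.ThompsonComplement
import Cfsg.Agent.Lib.Classical.SLGroup
import Cfsg.Agent.Lib.Recog.PSLTwoSpectrum
import Cfsg.Agent.S3214

/-!
# The group is a Suzuki group
-/

set_option autoImplicit false
set_option linter.style.haveILetI false
set_option linter.unusedSectionVars false

namespace Cfsg.Agent.Invol.ThreeTI

open Subgroup

universe u

variable {G : Type u} [Group G] [Finite G] {A : Fin 3 → Subgroup G}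

theorem Hyp.not_card_dvd (h : Hyp A) {k : ℕ} (hG : Nat.card G ∣ 2 ^ k * 315) : False := by
  have hd : ∀ i, Nat.card ↥(A i) ∈ Nat.divisors 315 := fun i => Nat.mem_divisors.2
    ⟨Nat.Coprime.dvd_of_dvd_mul_left ((Nat.coprime_two_right.2 (h.odd_card i)).pow_right k)
      ((Subgroup.card_subgroup_dvd_card _).trans hG), by norm_num⟩
  have h1 : mm A 1 * 4 + 1 = Nat.card ↥(A 1) := by simpa [ee] using (h.card_eq_mm_mul 1).symm
  have h2 : mm A 2 * 4 + 1 = Nat.card ↥(A 2) := by simpa [ee] using (h.card_eq_mm_mul 2).symm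
  have key : ∀ {n m : ℕ}, n ∈ Nat.divisors 315 → m * 4 + 1 = n → 5 < n → 3 ∣ n := by
    intro n m hn hm h5
    rw [show Nat.divisors 315 = {1, 3, 5, 7, 9, 15, 21, 35, 45, 63, 105, 315} by decide] at hn
    simp only [Finset.mem_insert, Finset.mem_singleton] at hn
    omega
  have hco := h.coprime (i := 1) (j := 2) (by decide)
  have := Nat.eq_one_of_dvd_coprimes hco (key (hd 1) h1 h.six₁) (key (hd 2) h2 h.six₂)
  omega

theorem Hyp.not_psl_two (h : Hyp A) {F : Type} [Field F] [Fintype F] (hF : 3 < Fintype.card F)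
    (e : G ≃* Matrix.ProjectiveSpecialLinearGroup (Fin 2) F) : False := by
  classical
  obtain ⟨p, hp⟩ := CharP.exists F
  haveI := hp
  haveI hpp : Fact p.Prime := ⟨CharP.char_is_prime F p⟩
  have hrange : ∀ n, (∃ g : G, orderOf g = n) →
      n ∣ p ∨ n ∣ (Fintype.card F - 1) / PSL2Spec.dd F ∨ n ∣ (Fintype.card F + 1) / PSL2Spec.dd F := by
    rintro n ⟨g, rfl⟩
    rw [← MulEquiv.orderOf_eq e g]
    exact PSL2Spec.order_dvd p (e g)
  obtain ⟨k, -, hk⟩ := FiniteField.card F p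
  have hp2 : p ≠ 2 := by
    intro hp2
    have hev : 2 ∣ Fintype.card F := by rw [hk, hp2]; exact dvd_pow_self 2 k.pos.ne'
    rcases hrange 4 h.exists_four with h4 | h4 | h4
    · rw [hp2] at h4
      norm_num at h4
    · have := (show 4 ∣ Fintype.card F - 1 from h4.trans (Nat.div_dvd_of_dvd PSL2Spec.dd_dvd.1))
      omega
    · have := (show 4 ∣ Fintype.card F + 1 from h4.trans (Nat.div_dvd_of_dvd PSL2Spec.dd_dvd.2))
      omega
  have hpodd : p % 2 = 1 := hpp.out.eq_two_or_odd.resolve_left hp2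
  have hqodd : Fintype.card F % 2 = 1 := by
    rw [hk]; exact Nat.odd_iff.1 (Nat.odd_iff.2 hpodd).pow
  have hdd : PSL2Spec.dd F = 2 := by
    rw [PSL2Spec.dd]; exact Nat.gcd_eq_left (by omega)
  rw [hdd] at hrange
  let M : Fin 3 → ℕ := ![p, (Fintype.card F - 1) / 2, (Fintype.card F + 1) / 2]
  have hM : ∀ j, ∃ g : G, orderOf g = M j := by
    intro j
    fin_cases j
    · obtain ⟨g, hg⟩ := PSL2Spec.exists_order_char (F := F) p
      exact ⟨e.symm g, by rw [MulEquiv.orderOf_eq, hg]; rfl⟩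
    · obtain ⟨g, hg⟩ := PSL2Spec.exists_order_split (F := F)
      exact ⟨e.symm g, by rw [MulEquiv.orderOf_eq, hg, hdd]; rfl⟩
    · obtain ⟨g, hg⟩ := PSL2Spec.exists_order_nonsplit (F := F) p
      exact ⟨e.symm g, by rw [MulEquiv.orderOf_eq, hg, hdd]; rfl⟩
  have hsel : ∀ i, ∃ j, ∃ s : ℕ, s.Prime ∧ s ∣ Nat.card ↥(A i) ∧ s ∣ M j := by
    intro i
    obtain ⟨s, hs, hsd⟩ := Nat.exists_prime_and_dvd (show Nat.card ↥(A i) ≠ 1 by have := h.five_le i; omega)
    haveI : Fact s.Prime := ⟨hs⟩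
    obtain ⟨g, hg⟩ := exists_prime_orderOf_dvd_card' (G := G) s (hsd.trans (Subgroup.card_subgroup_dvd_card _))
    rcases hrange s ⟨g, hg⟩ with h1 | h1 | h1
    · exact ⟨0, s, hs, hsd, h1⟩
    · exact ⟨1, s, hs, hsd, h1⟩
    · exact ⟨2, s, hs, hsd, h1⟩
  choose f s hs hsn hsM using hsel
  have hinj : Function.Injective f := by
    intro i j hij
    obtain ⟨g, hg⟩ := hM (f i)
    have hg1 : g ≠ 1 := fun e' => (hs i).one_lt.ne'
      (Nat.dvd_one.1 (by rw [← orderOf_one (G := G), ← e', hg]; exact hsM i))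
    obtain ⟨c, hc⟩ := h.conj_mem_of_dvd (hs i) (hsn i) (g := g) (hg.symm ▸ hsM i)
    obtain ⟨c', hc'⟩ := h.conj_mem_of_dvd (hs j) (hsn j) (g := g) (by rw [hg, hij]; exact hsM j)
    exact h.conj_unique hg1 hc hc'
  obtain ⟨m, hm⟩ : ∃ m, 2 ∣ M m := by
    rcases Nat.even_or_odd ((Fintype.card F - 1) / 2) with he | ho
    · exact ⟨1, even_iff_two_dvd.1 he⟩
    · refine ⟨2, ?_⟩
      show 2 ∣ (Fintype.card F + 1) / 2
      rw [Nat.odd_iff] at ho
      omega
  obtain ⟨i, hi⟩ := (Finite.injective_iff_surjective.1 hinj) m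
  obtain ⟨g, hg⟩ := hM m
  obtain ⟨c, hc⟩ := h.conj_mem_of_dvd (hs i) (hsn i) (g := g) (by rw [hg, ← hi]; exact hsM i)
  have h2 : 2 ∣ Nat.card ↥(A i) := by
    refine (hg.symm ▸ hm : 2 ∣ orderOf g).trans ?_
    rw [← MulEquiv.orderOf_eq (MulAut.conj c) g, MulAut.conj_apply]
    exact Subgroup.orderOf_dvd_natCard _ hc
  exact Nat.not_even_iff_odd.2 (h.odd_card i) (even_iff_two_dvd.2 h2)

variable [IsSimpleGroup G]

theorem Hyp.isoSuzuki (h : Hyp A) (hG : ¬ IsMulCommutative G) : Cfsg.Lie.IsoSuzuki G := by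
  haveI : Fact (Nat.Prime 2) := ⟨Nat.prime_two⟩
  have hI : ∀ t : G, orderOf t = 2 →
      Cfsg.HasNormalPComplement 2 ↥(centralizer ({t} : Set G)) := by
    intro t ht
    refine Invol.hasNormalPComplement_of_isPGroup ?_
    refine IsPGroup.of_card (Nat.eq_prime_pow_of_unique_prime_dvd Nat.card_pos.ne' fun {q} hq hd => ?_)
    by_contra hq2
    haveI : Fact q.Prime := ⟨hq⟩
    obtain ⟨⟨z, hz⟩, hzo⟩ := exists_prime_orderOf_dvd_card' q hd
    exact (⟨h, hG, hq, hq2, by rw [← hzo, Subgroup.orderOf_mk], ht,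
      (mem_centralizer_singleton_iff.1 hz).symm⟩ : YData A q z t).absurd_data
  rcases S3214.result hG hI with ⟨F, hFf, hFt, hF, ⟨e⟩⟩ | hS | ⟨⟨e⟩⟩ | ⟨F, hFf, hFt, hF, ⟨e⟩⟩
  · exact (h.not_psl_two hF e).elim
  · exact hS
  · refine (h.not_card_dvd (k := 3) ?_).elim
    rw [Nat.card_congr e.toEquiv, nat_card_alternatingGroup, Nat.card_fin]
    rfl
  · refine (h.not_card_dvd (k := 6) ?_).elim
    rw [Nat.card_congr e.toEquiv]
    have h1 := Classical.natCard_GL_eq_SL_mul (F := F) 3 (by norm_num)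
    have h2 := Classical.natCard_PSL_mul (F := F) 3 (by norm_num)
    rw [Classical.natCard_units_field, hF, Matrix.card_GL_field, hF, Fin.prod_univ_three] at h1
    rw [Classical.natCard_units_field, hF] at h2
    norm_num at h1 h2
    norm_num
    exact ⟨1, by omega⟩

end Cfsg.Agent.Invol.ThreeTI
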