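import Cfsg.Agent.Lib.Invol.ThreeTI.OneClass
import Cfsg.Agent.Lib.Invol.ThreeTI.CharCount

/-!
# Counting pairs of involutions
-/

set_option autoImplicit false
set_option linter.style.haveILetI false
set_option linter.unusedSectionVars false

namespace Cfsg.Agent.Invol.ThreeTI

open Subgroup

universe u

variable {G : Type u} [Group G] [Finite G] [IsSimpleGroup G] {A : Fin 3 → Subgroup G}

/-- The order of the group exceeds `|C(t)|²` times the number of classes meeting the three subgroups. -/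
theorem Hyp.cent_sq_mul_lt (h : Hyp A) (hG : ¬ IsMulCommutative G) {t : G} (ht : orderOf t = 2) :
    Nat.card ↥(centralizer ({t} : Set G)) ^ 2 * ∑ i, mm A i < Nat.card G := by
  classical
  letI := Fintype.ofFinite G
  letI := Fintype.ofFinite (ConjClasses G)
  let P := {p : G × G // orderOf p.1 = 2 ∧ orderOf p.2 = 2}
  let fib : G → ℕ := fun g => Nat.card {p : P // p.1.1 * p.1.2 = g}
  have hI : Nat.card P * Nat.card ↥(centralizer ({t} : Set G)) ^ 2 = Nat.card G ^ 2 := by
    have e1 : Nat.card P = Nat.card {x : G // orderOf x = 2} * Nat.card {x : G // orderOf x = 2} := by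
      rw [← Nat.card_prod]
      exact Nat.card_congr ⟨fun p => (⟨p.1.1, p.2.1⟩, ⟨p.1.2, p.2.2⟩), fun p => ⟨(p.1.1, p.2.1), p.1.2, p.2.2⟩,
        fun p => rfl, fun p => rfl⟩
    have e2 : Nat.card {x : G // orderOf x = 2} = Nat.card ↥(ConjClasses.mk t).carrier := by
      refine Nat.card_congr (Equiv.subtypeEquivRight fun x => ?_)
      rw [ConjClasses.mem_carrier_iff_mk_eq, ConjClasses.mk_eq_mk_iff_isConj]
      refine ⟨fun hx => h.isConj_involutions hG hx ht, fun hx => ?_⟩
      obtain ⟨c, hc⟩ := isConj_iff.1 hx.symm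
      rw [← hc, ← MulAut.conj_apply, MulEquiv.orderOf_eq, ht]
    rw [e1, e2, ← card_carrier_mul t]
    ring
  have htot : Nat.card P = ∑ g : G, fib g := by
    rw [← Nat.card_sigma]
    exact Nat.card_congr (Equiv.sigmaFiberEquiv fun p : P => p.1.1 * p.1.2).symm
  have hone : 0 < fib 1 := by
    haveI : Nonempty {p : P // p.1.1 * p.1.2 = 1} :=
      ⟨⟨⟨(t, t), ht, ht⟩, by show t * t = 1; rw [← pow_two, ← ht, pow_orderOf_eq_one]⟩⟩
    exact Nat.card_pos
  have hA : ∀ i, ∀ C : ↥(CA A i), ∀ g, ConjClasses.mk g = (C : ConjClasses G) → Nat.card ↥(A i) ≤ fib g := by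
    rintro i ⟨C, a, ha, ha1, rfl⟩ g hg
    obtain ⟨c, rfl⟩ := isConj_iff.1 (ConjClasses.mk_eq_mk_iff_isConj.1 hg.symm)
    obtain ⟨s, hs, -, hsA, hsinv⟩ := h.exists_inverting i
    have hss : s * s = 1 := by rw [← pow_two, ← hs, pow_orderOf_eq_one]
    have hsi : s⁻¹ = s := inv_eq_of_mul_eq_one_right hss
    haveI : Fact (Nat.Prime 2) := ⟨Nat.prime_two⟩
    have hinv : ∀ b ∈ A i, orderOf (c * (s * b) * c⁻¹) = 2 := by
      intro b hb
      rw [← MulAut.conj_apply, MulEquiv.orderOf_eq]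
      refine orderOf_eq_prime ?_ fun e => hsA ?_
      · rw [pow_two]
        calc s * b * (s * b) = s * b * s⁻¹ * b := by rw [hsi]; group
          _ = 1 := by rw [hsinv b hb, inv_mul_cancel]
      · rw [eq_inv_of_mul_eq_one_left e]
        exact (A i).inv_mem hb
    refine Nat.card_le_card_of_injective (fun b : ↥(A i) =>
      (⟨⟨(c * (s * b) * c⁻¹, c * (s * ((b : G) * a)) * c⁻¹), hinv b b.2, hinv _ ((A i).mul_mem b.2 ha)⟩, ?_⟩ :
        {p : P // p.1.1 * p.1.2 = c * a * c⁻¹})) ?_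
    · show c * (s * b) * c⁻¹ * (c * (s * ((b : G) * a)) * c⁻¹) = c * a * c⁻¹
      calc c * (s * b) * c⁻¹ * (c * (s * ((b : G) * a)) * c⁻¹) = c * (s * b * s * b * a) * c⁻¹ := by group
        _ = _ := by
            rw [show s * (b : G) * s = (b : G)⁻¹ from by
              conv_lhs => arg 2; rw [← hsi]
              exact hsinv b b.2]
            group
    · intro b b' e
      have e' := congrArg (fun q : {p : P // p.1.1 * p.1.2 = c * a * c⁻¹} => q.1.1.1) e
      exact Subtype.ext (by simpa using e')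
  let F : ConjClasses G → ℕ := fun C => ∑ g ∈ C.carrier.toFinset, fib g
  have hF : ∑ C, F C = ∑ g : G, fib g := by
    rw [← Finset.sum_fiberwise Finset.univ ConjClasses.mk fib]
    refine Finset.sum_congr rfl fun C _ => Finset.sum_congr ?_ fun _ _ => rfl
    ext x
    simp [ConjClasses.mem_carrier_iff_mk_eq]
  have hFA : ∀ i, ∀ C : ↥(CA A i), Nat.card G ≤ F C := by
    intro i C
    obtain ⟨a, ha, ha1, hC⟩ := C.2
    calc Nat.card G = (C : ConjClasses G).carrier.toFinset.card • Nat.card ↥(A i) := by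
          rw [smul_eq_mul, Set.toFinset_card, ← Nat.card_eq_fintype_card, ← hC, ← h.sc i a ha ha1,
            card_carrier_mul]
      _ ≤ F C := Finset.card_nsmul_le_sum _ _ _ fun g hg => hA i C g
          (ConjClasses.mem_carrier_iff_mk_eq.1 (Set.mem_toFinset.1 hg))
  have h1 : 0 < F (ConjClasses.mk 1) :=
    lt_of_lt_of_le hone (Finset.single_le_sum (fun _ _ => Nat.zero_le _)
      (Set.mem_toFinset.2 (ConjClasses.mem_carrier_iff_mk_eq.2 rfl)))
  letI := Fintype.ofFinite ↥(OC A)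
  letI : ∀ i, Fintype ↥(CA A i) := fun i => Fintype.ofFinite _
  have hlow : (∑ i, mm A i) * Nat.card G < Nat.card P := by
    rw [htot, ← hF, h.sum_classes F]
    have : ∀ i, mm A i * Nat.card G ≤ ∑ C : ↥(CA A i), F C := fun i => by
      rw [mm, Nat.card_eq_fintype_card, ← Finset.card_univ, ← smul_eq_mul]
      exact Finset.card_nsmul_le_sum _ _ _ fun C _ => hFA i C
    have h2 := Finset.sum_le_sum fun i (_ : i ∈ Finset.univ) => this i
    rw [← Finset.sum_mul] at h2
    omega
  have hpos : 0 < Nat.card ↥(centralizer ({t} : Set G)) ^ 2 := Nat.pow_pos Nat.card_pos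
  refine Nat.lt_of_mul_lt_mul_left (a := Nat.card G) ?_
  rw [← pow_two, ← hI]
  calc Nat.card G * (Nat.card ↥(centralizer ({t} : Set G)) ^ 2 * ∑ i, mm A i)
      = (∑ i, mm A i) * Nat.card G * Nat.card ↥(centralizer ({t} : Set G)) ^ 2 := by ring
    _ < _ := Nat.mul_lt_mul_of_pos_right hlow hpos

theorem Hyp.oc_le_five (h : Hyp A) : oc A ≤ 5 := by
  letI := Fintype.ofFinite G
  obtain ⟨s, hs, hlt⟩ := h.exists_surplus
  have hs3 : s * nn A ^ 2 < 3 * nn A ^ 2 := lt_of_lt_of_le hlt h.ord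
  have := Nat.lt_of_mul_lt_mul_right hs3
  omega

theorem Hyp.nn_sq_lt (h : Hyp A) (h4 : 4 ≤ oc A) : nn A ^ 2 < Nat.card G := by
  letI := Fintype.ofFinite G
  obtain ⟨s, hs, hlt⟩ := h.exists_surplus
  exact lt_of_le_of_lt (Nat.le_mul_of_pos_left _ (by omega)) hlt

end Cfsg.Agent.Invol.ThreeTI
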