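import Cfsg.Agent.Lib.Invol.ThreeTI.CaseC

/-!
# No element of odd prime order commutes with an involution
-/

set_option autoImplicit false
set_option linter.style.haveILetI false
set_option linter.unusedSectionVars false

namespace Cfsg.Agent.Invol.ThreeTI

open Subgroup

universe u

variable {G : Type u} [Group G] [Finite G] [IsSimpleGroup G] {A : Fin 3 → Subgroup G} {r q : ℕ} {y t z : G}

theorem QData.three_classes (Q : QData A r y t q z) :
    1 / (Nat.card ↥(centralizer ({y} : Set G)) : ℚ) + 1 / (Nat.card ↥(centralizer ({y * t} : Set G)) : ℚ) +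
      1 / (Nat.card ↥(centralizer ({z} : Set G)) : ℚ) < EE A := by
  obtain ⟨x, hx, hxo, hto, hyto, hyt⟩ := Q.d.exists_base
  have := Q.side
  have := Q.qr
  have := Q.d.three_le
  have h := Q.d.hyp.sum_inv_lt ![y, y * t, z]
    (fun k => by fin_cases k <;> first | exact Q.d.out_y | exact Q.zo | assumption)
    (fun k l hc => by
      have ho := orderOf_eq_of_isConj hc
      fin_cases k <;> fin_cases l <;> simp [Q.d.oy, hyt, Q.oz] at ho ⊢ <;> omega)
  simpa [Fin.sum_univ_three] using h

theorem YData.two_classes (d : YData A r y t) :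
    1 / (Nat.card ↥(centralizer ({y} : Set G)) : ℚ) + 1 / (Nat.card ↥(centralizer ({y * t} : Set G)) : ℚ) < EE A := by
  obtain ⟨x, hx, hxo, hto, hyto, hyt⟩ := d.exists_base
  have := d.three_le
  have h := d.hyp.sum_inv_lt ![y, y * t]
    (fun k => by fin_cases k <;> first | exact d.out_y | assumption)
    (fun k l hc => by
      have ho := orderOf_eq_of_isConj hc
      fin_cases k <;> fin_cases l <;> simp [d.oy, hyt] at ho ⊢ <;> omega)
  simpa [Fin.sum_univ_two] using h

theorem QData.cards_of_unique (Q : QData A r y t q z)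
    (huni : ∀ u, u ∈ centralizer ({y} : Set G) → orderOf u = 2 → u = t) :
    Nat.card ↥(centralizer ({y} : Set G)) = 2 * rho G r ∧
      centralizer ({y * t} : Set G) = centralizer ({y} : Set G) := by
  haveI : Fact (Nat.Prime 2) := ⟨Nat.prime_two⟩
  obtain ⟨a, ha⟩ := Q.d.card_cent_y
  have htC : t ∈ centralizer ({y} : Set G) := mem_centralizer_singleton_iff.2 Q.d.comm
  have heq : centralizer ({y * t} : Set G) = centralizer ({y} : Set G) := by
    rw [Q.d.cent_yt, inf_eq_left]
    intro g hg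
    refine mem_centralizer_singleton_iff.2 (mul_inv_eq_iff_eq_mul.1 (huni _ ?_ ?_))
    · exact (centralizer ({y} : Set G)).mul_mem ((centralizer ({y} : Set G)).mul_mem hg htC)
        ((centralizer ({y} : Set G)).inv_mem hg)
    · rw [← MulAut.conj_apply, MulEquiv.orderOf_eq, Q.d.ot]
  refine ⟨?_, heq⟩
  have h1 : 1 ≤ a := by
    by_contra h0
    have hd : (2 : ℕ) ∣ Nat.card ↥(centralizer ({y} : Set G)) :=
      Q.d.ot ▸ Subgroup.orderOf_dvd_natCard _ htC
    rw [ha, show a = 0 by omega, pow_zero, one_mul, rho] at hd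
    exact Q.d.ne_two ((Nat.prime_dvd_prime_iff_eq Nat.prime_two Q.d.prime).1 (Nat.prime_two.dvd_of_dvd_pow hd)).symm
  obtain ⟨T⟩ := (inferInstance : Nonempty (Sylow 2 ↥(centralizer ({y} : Set G))))
  have hd : 2 ^ a ∣ Nat.card ↥(T : Subgroup ↥(centralizer ({y} : Set G))) :=
    T.pow_dvd_card_of_pow_dvd_card (ha ▸ Dvd.intro _ rfl)
  have hle : Nat.card ↥(T : Subgroup ↥(centralizer ({y} : Set G))) ≤ 2 := by
    rw [← Subgroup.card_map_of_injective (centralizer ({y} : Set G)).subtype_injective]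
    refine le_trans (Subgroup.card_le_of_le (K := zpowers t) ?_) (by rw [Nat.card_zpowers, Q.d.ot])
    rintro g ⟨g', hg', rfl⟩
    by_cases h1 : g' = 1
    · rw [h1]; exact one_mem _
    obtain ⟨k, hk⟩ := IsPGroup.iff_orderOf.1 T.isPGroup' ⟨g', hg'⟩
    rw [Subgroup.orderOf_mk, ← Subgroup.orderOf_coe] at hk
    have hk2 := Q.two_pow_dvd_four hk
    interval_cases k
    · exact absurd (Subtype.ext (orderOf_eq_one_iff.1 (by simpa using hk))) h1
    · rw [show (centralizer ({y} : Set G)).subtype g' = t from huni _ g'.2 (by simpa using hk)]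
      exact mem_zpowers t
    · exact absurd (by simpa using hk) (Q.no_four_y (mem_centralizer_singleton_iff.1 g'.2))
  have h2 : 2 ^ a ≤ 2 ^ 1 := by simpa using (Nat.le_of_dvd Nat.card_pos hd).trans hle
  have := (Nat.pow_le_pow_iff_right (by norm_num : 1 < 2)).1 h2
  rw [ha, show a = 1 by omega, pow_one]

/-- No element of odd prime order commutes with an involution. -/
theorem YData.absurd_data (d : YData A r y t) : False := by
  haveI := d.fact
  have hpos := d.rho0_pos
  have hmm := d.hyp.two_le_mm 0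
  have hsum1 : 2 ≤ ∑ i, mm A i := le_trans hmm (Finset.single_le_sum (fun _ _ => Nat.zero_le _) (Finset.mem_univ 0))
  have hdvd : rho0 r t ∣ rho G r := by
    rw [rho0, rho]
    exact Nat.pow_dvd_pow r ((Nat.factorization_le_iff_dvd Nat.card_pos.ne' Nat.card_pos.ne').2
      (Subgroup.card_subgroup_dvd_card _) r)
  have hρpos : 0 < rho G r := by rw [rho]; exact Nat.pow_pos d.prime.pos
  have hle := Nat.le_of_dvd hρpos hdvd
  rcases eq_or_lt_of_le hle with heq | hlt
  · obtain ⟨q, z, Q⟩ := d.exists_q_or.resolve_right (by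
      rw [← heq]
      intro h
      have : rho0 r t ^ 2 * 1 ≤ rho0 r t ^ 2 * ∑ i, mm A i := Nat.mul_le_mul_left _ (by omega)
      linarith)
    obtain ⟨hC, hD⟩ : Nat.card ↥(centralizer ({y} : Set G)) = 2 * rho0 r t ∧
        Nat.card ↥(centralizer ({y * t} : Set G)) = 2 * rho0 r t := by
      rcases d.cases with ⟨h1, h2, -⟩ | ⟨h1, -⟩ | ⟨-, h2, -⟩
      · exact ⟨heq ▸ h1, h2⟩
      · obtain ⟨e1, e2⟩ := Q.cards_of_unique h1
        exact ⟨heq ▸ e1, e2 ▸ heq ▸ e1⟩
      · omega
    have h3 := Q.three_classes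
    rw [hC, hD] at h3
    rcases d.rho0_shape with ⟨hr, h0⟩ | ⟨hr, h0⟩ | ⟨hr, h0⟩ <;> rw [h0] at h3
    · have hb := (d.bounds_three hr).1
      have hnn : (0 : ℚ) ≤ (Nat.card ↥(centralizer ({z} : Set G)) : ℚ)⁻¹ := by positivity
      norm_num at h3
      linarith
    · have hb := d.bounds_five hr
      have hnn : (0 : ℚ) ≤ (Nat.card ↥(centralizer ({z} : Set G)) : ℚ)⁻¹ := by positivity
      norm_num at h3
      linarith
    · have hb := (d.bounds_three hr).1
      have hz : (Nat.card ↥(centralizer ({z} : Set G)) : ℚ) ≤ 25 := by exact_mod_cast Q.card_cent_le hr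
      have hz0 : (0 : ℚ) < Nat.card ↥(centralizer ({z} : Set G)) := Nat.cast_pos.2 Nat.card_pos
      have hz' : (1 : ℚ) / 25 ≤ 1 / (Nat.card ↥(centralizer ({z} : Set G)) : ℚ) :=
        one_div_le_one_div_of_le hz0 hz
      norm_num at h3 hz' ⊢
      linarith
  · rcases d.cases with ⟨hC, hD, -⟩ | ⟨-, h2⟩ | ⟨hr, hρ, hmul, hcnt, hcomm⟩
    · rcases d.rho0_shape with ⟨hr, h0⟩ | ⟨hr, h0⟩ | ⟨hr, h0⟩
      · have hb := (d.bounds_three hr).1
        have h2 := d.two_classes
        rw [hD, h0] at h2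
        have hnn : (0 : ℚ) ≤ (Nat.card ↥(centralizer ({y} : Set G)) : ℚ)⁻¹ := by positivity
        norm_num at h2
        linarith
      · exact d.big_false hC hD hlt (Or.inl ⟨hr, h0⟩)
      · exact d.big_false hC hD hlt (Or.inr ⟨hr, h0⟩)
    · omega
    · have C : CData A r y t := ⟨d, hr, hρ, hmul, hcnt, hcomm⟩
      obtain ⟨hb, h9⟩ := d.bounds_three hr
      obtain ⟨q, z, Q⟩ := d.exists_q_or.resolve_right (by
        rw [hρ]
        intro h
        have : rho0 r t ^ 2 * 9 ≤ rho0 r t ^ 2 * ∑ i, mm A i := Nat.mul_le_mul_left _ h9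
        have e : (3 * rho0 r t) ^ 2 = rho0 r t ^ 2 * 9 := by ring
        linarith)
      rcases d.rho0_shape with ⟨-, h0⟩ | ⟨hr5, -⟩ | ⟨-, h0⟩
      · obtain ⟨hcy, hcyt⟩ := C.cards Q
        have h3 := Q.three_classes
        rw [hcy, hcyt, h0] at h3
        have hz : (Nat.card ↥(centralizer ({z} : Set G)) : ℚ) ≤ 25 := by exact_mod_cast Q.card_cent_le hr
        have hz0 : (0 : ℚ) < Nat.card ↥(centralizer ({z} : Set G)) := Nat.cast_pos.2 Nat.card_pos
        have hz' : (1 : ℚ) / 25 ≤ 1 / (Nat.card ↥(centralizer ({z} : Set G)) : ℚ) :=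
          one_div_le_one_div_of_le hz0 hz
        norm_num at h3 hz' ⊢
        linarith
      · omega
      · exact C.false_of_nine Q h0

end Cfsg.Agent.Invol.ThreeTI
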