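import Cfsg.Agent.Lib.Invol.ThreeTI.Cases
import Cfsg.Agent.Lib.Grp.CoprimeAbelian

/-!
# An outside element of a further odd prime order
-/

set_option autoImplicit false
set_option linter.style.haveILetI false
set_option linter.unusedSectionVars false

namespace Cfsg.Agent.Invol.ThreeTI

open Subgroup

universe u

/-- `z` is an outside element of prime order `q`, apart from two and `r`. -/
structure QData {G : Type u} [Group G] [Finite G] [IsSimpleGroup G] (A : Fin 3 → Subgroup G) (r : ℕ) (y t : G)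
    (q : ℕ) (z : G) : Prop where
  d : YData A r y t
  hq : q.Prime
  q2 : q ≠ 2
  qr : q ≠ r
  oz : orderOf z = q
  zo : Out A z

variable {G : Type u} [Group G] [Finite G] [IsSimpleGroup G] {A : Fin 3 → Subgroup G} {r q : ℕ} {y t z : G}

theorem QData.side (Q : QData A r y t q z) : q ≠ 4 ∧ q ≠ 2 * r ∧ 3 ≤ q := by
  refine ⟨fun e => absurd (e ▸ Q.hq) (by norm_num), fun e => Q.q2 ?_, ?_⟩
  · exact ((Nat.prime_dvd_prime_iff_eq Nat.prime_two Q.hq).1 ⟨r, e⟩).symm
  · have := Q.hq.two_le
    have := Q.q2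
    omega

/-- The orders of the outside elements. -/
theorem QData.orders (Q : QData A r y t q z) {g : G} (hg : Out A g) :
    orderOf g = 2 ∨ orderOf g = 4 ∨ orderOf g = r ∨ orderOf g = 2 * r ∨ orderOf g = q := by
  by_contra hne
  simp only [not_or] at hne
  obtain ⟨h2, h4, hr, h2r, hq⟩ := hne
  obtain ⟨x, hx, hxo, hto, hyto, hyt⟩ := Q.d.exists_base
  have := Q.side
  have := Q.qr
  have := Q.q2
  have := Q.d.ne_four
  have := Q.d.three_le
  have := Q.d.out_y
  have := Q.zo
  refine Q.d.six_orders ![t, x, y, y * t, z, g] (fun k => by fin_cases k <;> assumption) ?_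
  refine injective_six ?_ ?_ ?_ ?_ ?_ ?_ ?_ ?_ ?_ ?_ ?_ ?_ ?_ ?_ ?_ <;>
    · simp [Q.d.ot, hx, Q.d.oy, hyt, Q.oz] <;> omega

theorem QData.conj_z (Q : QData A r y t q z) {g : G} (hg : Out A g) (ho : orderOf g = q) : IsConj z g := by
  by_contra hn
  obtain ⟨x, hx, hxo, hto, hyto, hyt⟩ := Q.d.exists_base
  have := Q.side
  have := Q.qr
  have := Q.q2
  have := Q.d.ne_four
  have := Q.d.three_le
  refine Q.d.hyp.six Q.d.hyp.oc_le_five ![t, x, y, y * t, z, g]
    (fun k => by fin_cases k <;> first | exact Q.d.out_y | exact Q.zo | assumption) ?_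
  intro k l hkl hc'
  have hord := orderOf_eq_of_isConj hc'
  fin_cases k <;> fin_cases l <;> simp [Q.d.ot, hx, Q.d.oy, hyt, Q.oz, ho] at hkl hord <;>
    first
      | omega
      | exact hn hc'

theorem QData.conj_r (Q : QData A r y t q z) {g : G} (hg : Out A g) (ho : orderOf g = r) : IsConj y g := by
  by_contra hn
  obtain ⟨x, hx, hxo, hto, hyto, hyt⟩ := Q.d.exists_base
  have := Q.side
  have := Q.qr
  have := Q.q2
  have := Q.d.ne_four
  have := Q.d.three_le
  refine Q.d.hyp.six Q.d.hyp.oc_le_five ![t, x, y, y * t, z, g]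
    (fun k => by fin_cases k <;> first | exact Q.d.out_y | exact Q.zo | assumption) ?_
  intro k l hkl hc'
  have hord := orderOf_eq_of_isConj hc'
  fin_cases k <;> fin_cases l <;> simp [Q.d.ot, hx, Q.d.oy, hyt, Q.oz, ho] at hkl hord <;>
    first
      | omega
      | exact hn hc'

theorem QData.no_four_y (Q : QData A r y t q z) {g : G} (hc : g * y = y * g) : orderOf g ≠ 4 := by
  intro hg
  have hr4 := Q.d.ne_four
  have h3 := Q.d.three_le
  have ho : orderOf (y * g) = r * 4 := orderOf_mul_comm Q.d.oy hg hc (Q.d.coprime_two.pow_right 2)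
  have hout : Out A (y * g) :=
    Q.d.out_of_comm Q.d.out_y (ne_one_of_order ho (by omega)) (by rw [mul_assoc, hc])
  rcases Q.orders hout with e | e | e | e | e <;> rw [ho] at e
  · omega
  · omega
  · omega
  · omega
  · exact Q.q2 ((Nat.prime_dvd_prime_iff_eq Nat.prime_two Q.hq).1 ⟨2 * r, by omega⟩).symm

theorem QData.two_pow_dvd_four (Q : QData A r y t q z) {g : G} {k : ℕ} (hk : orderOf g = 2 ^ k) : k ≤ 2 := by
  by_contra hlt
  have h8 : 8 ∣ orderOf g := hk ▸ (show 8 = 2 ^ 3 by norm_num) ▸ Nat.pow_dvd_pow 2 (by omega : 3 ≤ k)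
  have hout : Out A g := Q.d.hyp.out_of_two_pow
    (ne_one_of_order hk (Nat.one_lt_two_pow (by omega)).ne') hk
  have hd2 : r % 2 = 1 := Q.d.prime.eq_two_or_odd.resolve_left Q.d.ne_two
  have hq2 : q % 2 = 1 := Q.hq.eq_two_or_odd.resolve_left Q.q2
  rcases Q.orders hout with e | e | e | e | e <;> omega

/-- The centraliser of `z` consists of elements of order `q`. -/
theorem QData.order_cent (Q : QData A r y t q z) {g : G} (hg : g * z = z * g) (hg1 : g ≠ 1) :
    orderOf g = q := by
  have hout : Out A g := Q.d.out_of_comm Q.zo hg1 hg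
  have hinv : ∀ {w : G}, orderOf w = 2 → w * z = z * w → False := fun hw hc =>
    Q.qr (Q.d.eq_r Q.hq Q.q2 hw Q.oz hc)
  rcases Q.orders hout with e | e | e | e | e
  · exact (hinv e hg).elim
  · refine (hinv (w := g ^ 2) ?_ ((show Commute g z from hg).pow_left 2).eq).elim
    rw [orderOf_pow, e]; rfl
  · obtain ⟨c, hc⟩ := isConj_iff.1 (Q.conj_r hout e).symm
    refine absurd (Q.d.eq_r_of_comm_y Q.hq Q.q2 (z := c * z * c⁻¹) ?_ ?_) Q.qr
    · rw [← MulAut.conj_apply, MulEquiv.orderOf_eq, Q.oz]
    · rw [← hc]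
      calc c * z * c⁻¹ * (c * g * c⁻¹) = c * (z * g) * c⁻¹ := by group
        _ = c * (g * z) * c⁻¹ := by rw [hg]
        _ = _ := by group
  · refine (hinv (w := g ^ r) ?_ ((show Commute g z from hg).pow_left r).eq).elim
    rw [orderOf_pow, e, Nat.gcd_eq_right (Dvd.intro_left _ rfl), Nat.mul_div_cancel _ Q.d.prime.pos]
  · exact e

/-- For `r = 3` the centraliser of `z` has order at most twenty-five. -/
theorem QData.card_cent_le (Q : QData A r y t q z) (hr : r = 3) :
    Nat.card ↥(centralizer ({z} : Set G)) ≤ 25 := by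
  classical
  haveI : Fact q.Prime := ⟨Q.hq⟩
  haveI : Fact (Nat.Prime 2) := ⟨Nat.prime_two⟩
  haveI : Fact (Nat.Prime 3) := ⟨Nat.prime_three⟩
  set C := centralizer ({z} : Set G) with hC
  have hCp : IsPGroup q C := fun g => ⟨1, by
    by_cases hg : g = 1
    · rw [hg, one_pow]
    · apply Subtype.ext
      rw [Subgroup.coe_pow, pow_one, Subgroup.coe_one,
        ← Q.order_cent (mem_centralizer_singleton_iff.1 g.2) (fun e => hg (Subtype.ext e)), pow_orderOf_eq_one]⟩
  obtain ⟨S, hS⟩ := hCp.exists_le_sylow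
  have hqn : ¬ q ∣ nn A := fun hd => Q.hq.one_lt.ne' (Nat.Coprime.eq_one_of_dvd (Q.oz ▸ Q.zo.2) hd)
  haveI := Q.d.hyp.abel q Q.hq Q.q2 hqn S
  have hab : ∀ a ∈ (S : Subgroup G), ∀ b ∈ (S : Subgroup G), a * b = b * a := fun a ha b hb =>
    congrArg Subtype.val (mul_comm' (⟨a, ha⟩ : ↥(S : Subgroup G)) ⟨b, hb⟩)
  have hzS : z ∈ (S : Subgroup G) := hS (mem_centralizer_singleton_iff.2 rfl)
  have hSC : (S : Subgroup G) = C :=
    le_antisymm (fun a ha => mem_centralizer_singleton_iff.2 (hab a ha z hzS)) hS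
  have hout : ∀ a ∈ C, a ≠ 1 → Out A a := fun a ha ha1 =>
    Q.d.out_of_comm Q.zo ha1 (mem_centralizer_singleton_iff.1 ha)
  have hCa : ∀ a ∈ C, a ≠ 1 → centralizer ({a} : Set G) = C := by
    intro a ha ha1
    obtain ⟨c, hc⟩ := isConj_iff.1
      (Q.conj_z (hout a ha ha1) (Q.order_cent (mem_centralizer_singleton_iff.1 ha) ha1))
    symm
    refine Subgroup.eq_of_le_of_card_ge ?_ (le_of_eq ?_)
    · intro b hb
      refine mem_centralizer_singleton_iff.2 (hab b ?_ a ?_) <;> rw [hSC] <;> assumption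
    · have h1 := card_carrier_mul a
      have h2 := card_carrier_mul z
      rw [← (ConjClasses.mk_eq_mk_iff_isConj.2 (isConj_iff.2 ⟨c, hc⟩) :
        ConjClasses.mk z = ConjClasses.mk a)] at h1
      haveI : Nonempty ↥(ConjClasses.mk z).carrier := ⟨⟨z, ConjClasses.mem_carrier_mk⟩⟩
      exact Nat.eq_of_mul_eq_mul_left Nat.card_pos (h1.trans h2.symm)
  have hz1 : z ≠ 1 := Q.zo.1
  have hodd : Odd (Nat.card C) := by
    obtain ⟨n, hn⟩ := IsPGroup.iff_card.1 hCp
    rw [hn]
    exact (Q.hq.odd_of_ne_two Q.q2).pow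
  have hbig : 3 ≤ Nat.card C := by
    have := Nat.le_of_dvd Nat.card_pos (Subgroup.orderOf_dvd_natCard C (mem_centralizer_singleton_iff.2 rfl : z ∈ C))
    rw [Q.oz] at this
    exact le_trans Q.side.2.2 this
  set N := normalizer (C : Set G) with hN
  have hCN : C ≤ N := le_normalizer
  -- the order of the normaliser
  set zN : N := ⟨z, hCN (mem_centralizer_singleton_iff.2 rfl)⟩ with hzN
  have hcentN : Nat.card ↥(centralizer ({zN} : Set N)) = Nat.card C :=
    Nat.card_congr
      ⟨fun g => ⟨g.1.1, mem_centralizer_singleton_iff.2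
          (congrArg Subtype.val (mem_centralizer_singleton_iff.1 g.2))⟩,
        fun g => ⟨⟨g.1, hCN g.2⟩, mem_centralizer_singleton_iff.2
          (Subtype.ext (mem_centralizer_singleton_iff.1 g.2))⟩, fun _ => rfl, fun _ => rfl⟩
  have hcar : Nat.card ↥(ConjClasses.mk zN).carrier + 1 = Nat.card C := by
    have e : (ConjClasses.mk zN).carrier = ((C.subgroupOf N : Subgroup N) : Set N) \ {1} := by
      ext x
      rw [ConjClasses.mem_carrier_iff_mk_eq, ConjClasses.mk_eq_mk_iff_isConj]
      constructor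
      · intro hx
        obtain ⟨c, rfl⟩ := isConj_iff.1 hx.symm
        exact ⟨(mem_normalizer_iff.1 c.2 z).1 (mem_centralizer_singleton_iff.2 rfl),
          fun e => hz1 (congrArg Subtype.val (conj_eq_one_iff.1 (Set.mem_singleton_iff.1 e)))⟩
      · rintro ⟨hxC, hx1⟩
        have hxC' : (x : G) ∈ C := mem_subgroupOf.1 hxC
        have hx1' : (x : G) ≠ 1 := fun e => hx1 (Subtype.ext e)
        obtain ⟨g, hg⟩ := isConj_iff.1
          (Q.conj_z (hout x hxC' hx1') (Q.order_cent (mem_centralizer_singleton_iff.1 hxC') hx1'))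
        obtain ⟨n, hn, e⟩ := S.conj_eq_normalizer_conj_of_mem z g⁻¹ hzS (by rw [inv_inv, hg]; exact hS hxC')
        rw [inv_inv, hg] at e
        have hn' : n ∈ N := by
          rw [hN, ← hSC]
          exact hn
        refine (isConj_iff.2 ⟨⟨n⁻¹, N.inv_mem hn'⟩, Subtype.ext ?_⟩ : IsConj zN x).symm
        simpa using e.symm
    have hpos : 0 < Nat.card ↥(C.subgroupOf N) := Nat.card_pos
    have hK : Nat.card ↥(C.subgroupOf N) = Nat.card C := Nat.card_congr (subgroupOfEquivOfLe hCN).toEquiv
    rw [e, Nat.card_coe_set_eq, Set.ncard_sdiff_singleton_of_mem (one_mem (C.subgroupOf N)),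
      ← Nat.card_coe_set_eq]
    show Nat.card ↥(C.subgroupOf N) - 1 + 1 = _
    omega
  have hNcard : Nat.card N = (Nat.card C - 1) * Nat.card C := by
    rw [← card_carrier_mul zN, hcentN, show Nat.card ↥(ConjClasses.mk zN).carrier = Nat.card C - 1 by omega]
  -- involutions invert
  have hinv : ∀ v ∈ N, orderOf v = 2 → ∀ a ∈ C, v * a * v⁻¹ = a⁻¹ := by
    intro v hv hv2 a ha
    have hvC : v ∉ C := fun h => Nat.not_even_iff_odd.2 hodd
      (even_iff_two_dvd.2 (hv2 ▸ Subgroup.orderOf_dvd_natCard C h))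
    have hb : v * a * v⁻¹ ∈ C := (mem_normalizer_iff.1 hv a).1 ha
    have hvv : v * v = 1 := by rw [← pow_two, ← hv2, pow_orderOf_eq_one]
    have hvi : v⁻¹ = v := inv_eq_of_mul_eq_one_right hvv
    by_contra hne
    have hprod : a * (v * a * v⁻¹) ≠ 1 := fun e => hne (eq_inv_of_mul_eq_one_right e)
    apply hvC
    rw [← hCa _ (C.mul_mem ha hb) hprod, mem_centralizer_singleton_iff]
    have hcm : a * (v * a * v⁻¹) = v * a * v⁻¹ * a := hab a (hSC ▸ ha) _ (hSC ▸ hb)
    rw [hvi] at hcm ⊢
    calc v * (a * (v * a * v)) = v * a * v * a * (v * v) * v := by rw [hvv]; group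
      _ = a * (v * a * v) * (v * v) * v := by rw [hcm]
      _ = _ := by rw [hvv, mul_one]
  -- an involution and its centraliser
  obtain ⟨⟨u, huN⟩, huo⟩ := exists_prime_orderOf_dvd_card' (G := ↥N) 2 (by
    rw [hNcard]
    exact (even_iff_two_dvd.1 (Nat.Odd.sub_odd hodd odd_one)).mul_right _)
  have hu2 : orderOf u = 2 := by rw [← huo, Subgroup.orderOf_mk]
  set uN : N := ⟨u, huN⟩ with huNdef
  set V := centralizer ({uN} : Set N) with hV
  have hVlow : Nat.card C - 1 ≤ Nat.card V := by
    have hle : Nat.card ↥(ConjClasses.mk uN).carrier ≤ Nat.card C := by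
      refine Nat.card_le_card_of_injective (fun x => (⟨u * (x.1 : G), ?_⟩ : C)) ?_
      · obtain ⟨c, hc⟩ := isConj_iff.1 (ConjClasses.mk_eq_mk_iff_isConj.1
          (ConjClasses.mem_carrier_iff_mk_eq.1 x.2)).symm
        have hx2 : orderOf (x.1 : G) = 2 := by
          rw [← hu2, ← hc, Subgroup.coe_mul, Subgroup.coe_mul, Subgroup.coe_inv, ← MulAut.conj_apply,
            MulEquiv.orderOf_eq]
        refine mem_centralizer_singleton_iff.2 ?_
        have hzC : z ∈ C := mem_centralizer_singleton_iff.2 rfl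
        have e1 := hinv _ x.1.2 hx2 z hzC
        have e2 := hinv u huN hu2 z⁻¹ (C.inv_mem hzC)
        rw [inv_inv] at e2
        calc u * (x.1 : G) * z = u * ((x.1 : G) * z * (x.1 : G)⁻¹) * (x.1 : G) := by group
          _ = u * z⁻¹ * (x.1 : G) := by rw [e1]
          _ = u * z⁻¹ * u⁻¹ * (u * (x.1 : G)) := by group
          _ = _ := by rw [e2]
      · intro x x' e
        exact Subtype.ext (Subtype.ext (mul_left_cancel (congrArg Subtype.val e :)))
    have e := card_carrier_mul uN
    rw [hNcard, ← hV] at e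
    have h3 := Nat.mul_le_mul_right (Nat.card V) hle
    rw [e, mul_comm] at h3
    exact Nat.le_of_mul_le_mul_left h3 Nat.card_pos
  have hVC : ∀ v : N, v ∈ V → (v : G) ∈ C → v = 1 := by
    intro v hv hvC
    have e1 : u * (v : G) * u⁻¹ = (v : G) := by
      have := congrArg Subtype.val (mem_centralizer_singleton_iff.1 hv)
      rw [mul_inv_eq_iff_eq_mul]
      exact this.symm
    have e2 := hinv u huN hu2 _ hvC
    rw [e1] at e2
    refine Subtype.ext ?_
    have h1 : orderOf (v : G) ∣ 2 :=
      orderOf_dvd_of_pow_eq_one (by rw [pow_two]; nth_rewrite 2 [e2]; exact mul_inv_cancel _)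
    exact orderOf_eq_one_iff.1 (Nat.eq_one_of_dvd_coprimes (Nat.coprime_two_right.2 hodd)
      (Subgroup.orderOf_dvd_natCard C hvC) h1)
  have huniq : ∀ v : N, v ∈ V → orderOf v = 2 → v = uN := by
    intro v hv hv2
    have hvG : orderOf (v : G) = 2 := by rw [Subgroup.orderOf_coe, hv2]
    have hmem : ((uN * v : N) : G) ∈ C := by
      refine mem_centralizer_singleton_iff.2 ?_
      have hzC : z ∈ C := mem_centralizer_singleton_iff.2 rfl
      have e1 := hinv _ v.2 hvG z hzC
      have e2 := hinv u huN hu2 z⁻¹ (C.inv_mem hzC)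
      rw [inv_inv] at e2
      show u * (v : G) * z = z * (u * (v : G))
      calc u * (v : G) * z = u * ((v : G) * z * (v : G)⁻¹) * (v : G) := by group
        _ = u * z⁻¹ * (v : G) := by rw [e1]
        _ = u * z⁻¹ * u⁻¹ * (u * (v : G)) := by group
        _ = _ := by rw [e2]
    have h1 := hVC _ (V.mul_mem (mem_centralizer_singleton_iff.2 rfl) hv) hmem
    rw [eq_inv_of_mul_eq_one_right h1]
    exact inv_eq_of_mul_eq_one_right (by rw [← pow_two, ← huo, pow_orderOf_eq_one])
  -- orders in `V`
  have hords : ∀ v : N, v ∈ V → v ≠ 1 →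
      orderOf v = 2 ∨ orderOf v = 4 ∨ orderOf v = 3 ∨ orderOf v = 6 := by
    intro v hv hv1
    have hc : (v : G) * u = u * (v : G) := congrArg Subtype.val (mem_centralizer_singleton_iff.1 hv)
    have hout' : Out A (v : G) :=
      Q.d.out_of_comm (Q.d.hyp.out_of_two hu2) (fun e => hv1 (Subtype.ext e)) hc
    rcases Q.orders hout' with e | e | e | e | e <;> rw [Subgroup.orderOf_coe] at e
    · exact Or.inl e
    · exact Or.inr (Or.inl e)
    · exact Or.inr (Or.inr (Or.inl (e.trans hr)))
    · exact Or.inr (Or.inr (Or.inr (e.trans (by rw [hr]))))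
    · exact absurd (Q.d.eq_r Q.hq Q.q2 hu2 (z := (v : G)) (by rw [Subgroup.orderOf_coe]; exact e) hc.symm) Q.qr
  -- the Sylow 2-subgroups
  obtain ⟨P⟩ := (inferInstance : Nonempty (Sylow 2 V))
  have hP8 : Nat.card ↥(P : Subgroup V) ≤ 8 := by
    have hexp : ∀ p : V, p ∈ (P : Subgroup V) → p ≠ 1 → orderOf p = 2 ∨ orderOf p = 4 := by
      intro p hp hp1
      obtain ⟨k, hk⟩ := IsPGroup.iff_orderOf.1 P.isPGroup' ⟨p, hp⟩
      rw [Subgroup.orderOf_mk] at hk
      rcases hords p p.2 (fun e => hp1 (Subtype.ext e)) with e | e | e | e <;> rw [Subgroup.orderOf_coe] at e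
      · exact Or.inl e
      · exact Or.inr e
      all_goals
        exfalso
        have h3 : 3 ∣ 2 ^ k := hk ▸ e ▸ by norm_num
        exact absurd (Nat.prime_three.dvd_of_dvd_pow h3) (by norm_num)
    set uV : V := ⟨uN, mem_centralizer_singleton_iff.2 rfl⟩ with huV
    have huV' : ∀ p : V, orderOf p = 2 → p = uV := fun p hp =>
      Subtype.ext (huniq p p.2 (by rw [Subgroup.orderOf_coe, hp]))
    by_cases hall : ∀ p : V, p ∈ (P : Subgroup V) → p = 1 ∨ p = uV
    · have hle : (P : Subgroup V) ≤ zpowers uV := fun p hp => by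
        rcases hall p hp with e | e <;> rw [e]
        · exact one_mem _
        · exact mem_zpowers _
      have h1 := Subgroup.card_le_of_le hle
      rw [Nat.card_zpowers, huV, Subgroup.orderOf_mk, huo] at h1
      omega
    · push Not at hall
      obtain ⟨a, ha, ha1, hau⟩ := hall
      have ha4 : orderOf a = 4 := (hexp a ha ha1).resolve_left fun e => hau (huV' a e)
      have hsq : ∀ p : V, orderOf p = 4 → p * p = uV := fun p hp =>
        huV' _ (by rw [← pow_two, orderOf_pow, hp]; rfl)
      have huc : ∀ p : V, uV * p = p * uV := fun p => Subtype.ext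
        ((mem_centralizer_singleton_iff.1 p.2).symm)
      have huu : uV * uV = 1 :=
        Subtype.ext (show uN * uN = 1 by rw [← pow_two, ← huo, pow_orderOf_eq_one])
      have h4 : ∀ p : V, p ∈ (P : Subgroup V) → p * p = 1 ∨ p * p = uV := by
        intro p hp
        by_cases hp1 : p = 1
        · exact Or.inl (by rw [hp1, one_mul])
        rcases hexp p hp hp1 with e | e
        · exact Or.inl (by rw [← pow_two, ← e, pow_orderOf_eq_one])
        · exact Or.inr (hsq p e)
      set aP : ↥(P : Subgroup V) := ⟨a, ha⟩ with haP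
      have hcar2 : Nat.card ↥(ConjClasses.mk aP).carrier ≤ 2 := by
        rw [Nat.card_coe_set_eq]
        refine le_trans (Set.ncard_le_ncard (t := {w : ↥(P : Subgroup V) | (w : V) = a ∨ (w : V) = a * uV}) ?_
          (Set.toFinite _)) ?_
        · intro w hw
          obtain ⟨⟨b, hb⟩, rfl⟩ := isConj_iff.1 (ConjClasses.mk_eq_mk_iff_isConj.1
            (ConjClasses.mem_carrier_iff_mk_eq.1 hw)).symm
          show b * a * b⁻¹ = a ∨ b * a * b⁻¹ = a * uV
          have hcl : ∀ p p' : V, (p = 1 ∨ p = uV) → (p' = 1 ∨ p' = uV) → p * p' = 1 ∨ p * p' = uV := by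
            rintro p p' (rfl | rfl) (rfl | rfl)
            · exact Or.inl (one_mul _)
            · exact Or.inr (one_mul _)
            · exact Or.inr (mul_one _)
            · exact Or.inl huu
          have hi : ∀ p : V, (p = 1 ∨ p = uV) → p⁻¹ = 1 ∨ p⁻¹ = uV := by
            rintro p (rfl | rfl)
            · exact Or.inl inv_one
            · exact Or.inr (inv_eq_of_mul_eq_one_right huu)
          have hcm : Commute (b * b)⁻¹ a := by
            rcases hi _ (h4 b hb) with e | e <;> rw [e]
            · exact Commute.one_left a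
            · exact huc a
          have e : b * a * b⁻¹ = b * a * (b * a) * (b * b)⁻¹ * (a * a)⁻¹ * a := by
            calc b * a * b⁻¹ = b * a * b * (a * a⁻¹) * (b * b)⁻¹ := by group
              _ = b * a * (b * a) * (a⁻¹ * (b * b)⁻¹) := by group
              _ = b * a * (b * a) * ((b * b)⁻¹ * a⁻¹) := by rw [hcm.inv_right.eq]
              _ = _ := by group
          rw [e]
          rcases hcl _ _ (hcl _ _ (h4 (b * a) ((P : Subgroup V).mul_mem hb ha)) (hi _ (h4 b hb)))
            (hi _ (h4 a ha)) with e' | e' <;> rw [e']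
          · exact Or.inl (one_mul a)
          · exact Or.inr (huc a)
        · refine le_trans (Set.ncard_le_ncard_of_injOn (t := ({a, a * uV} : Set V)) (fun w => (w : V)) ?_
            (fun w _ w' _ e => Subtype.ext e) (Set.toFinite _)) ?_
          · intro w hw
            rcases hw with e | e
            · exact Or.inl e
            · exact Or.inr e
          · exact Set.ncard_insert_le _ _ |>.trans (by rw [Set.ncard_singleton])
      have hcent : Nat.card ↥(centralizer ({aP} : Set ↥(P : Subgroup V))) ≤ 4 := by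
        rw [← ha4, ← Subgroup.orderOf_mk a ha, ← Nat.card_zpowers]
        refine Subgroup.card_le_of_le ?_
        rintro ⟨b, hb⟩ hbc
        have hc : b * a = a * b := congrArg Subtype.val (mem_centralizer_singleton_iff.1 hbc)
        have hmem : ∀ w : V, w = 1 ∨ w = uV → (∃ k : ℕ, w = a ^ k) := by
          rintro w (rfl | rfl)
          · exact ⟨0, (pow_zero a).symm⟩
          · exact ⟨2, by rw [pow_two, hsq a ha4]⟩
        have hbpow : ∃ k : ℕ, b = a ^ k := by
          rcases h4 b hb with e | e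
          · refine hmem b ?_
            by_cases hb1 : b = 1
            · exact Or.inl hb1
            · exact Or.inr (huV' b (orderOf_eq_prime (by rw [pow_two]; exact e) hb1))
          · have e' : b * a * (b * a) = 1 := by
              calc b * a * (b * a) = b * b * (a * a) := by
                    rw [mul_assoc b a, ← mul_assoc a b a, ← hc]; group
                _ = 1 := by rw [e, hsq a ha4, huu]
            have hw : b * a = 1 ∨ b * a = uV := by
              by_cases h1 : b * a = 1
              · exact Or.inl h1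
              · exact Or.inr (huV' _ (orderOf_eq_prime (by rw [pow_two]; exact e') h1))
            obtain ⟨k, hk⟩ := hmem _ hw
            refine ⟨k + 3, ?_⟩
            have h4a : a ^ 4 = 1 := ha4 ▸ pow_orderOf_eq_one a
            rw [pow_add, ← hk, mul_assoc, ← pow_succ', h4a, mul_one]
        obtain ⟨k, rfl⟩ := hbpow
        exact ⟨k, Subtype.ext (by simp [haP])⟩
      have hmul := card_carrier_mul aP
      rw [← hmul]
      exact (Nat.mul_le_mul hcar2 hcent).trans (by norm_num)
  -- the Sylow 3-subgroups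
  obtain ⟨T⟩ := (inferInstance : Nonempty (Sylow 3 V))
  have hT3 : Nat.card ↥(T : Subgroup V) ≤ 3 := by
    set T' : Subgroup G := ((T : Subgroup V).map V.subtype).map N.subtype with hT'
    have hT'p : IsPGroup 3 ↥T' := (T.isPGroup'.map _).map _
    have hcard : Nat.card ↥T' = Nat.card ↥(T : Subgroup V) := by
      rw [hT', Subgroup.card_map_of_injective N.subtype_injective, Subgroup.card_map_of_injective V.subtype_injective]
    obtain ⟨W, hW⟩ := hT'p.exists_le_sylow
    haveI := Q.d.hyp.abel 3 Nat.prime_three (by norm_num) (hr ▸ Q.d.not_dvd_nn) W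
    haveI : IsMulCommutative ↥T' := ⟨⟨fun p p' => Subtype.ext
      (congrArg Subtype.val (mul_comm' (⟨(p : G), hW p.2⟩ : ↥(W : Subgroup G)) ⟨(p' : G), hW p'.2⟩) :)⟩⟩
    haveI : IsMulCommutative C := ⟨⟨fun p p' => Subtype.ext (hab p (hS p.2) p' (hS p'.2))⟩⟩
    by_contra hlt
    have hT'N : T' ≤ N := Subgroup.map_subtype_le _
    have hexp : ∀ p : ↥T', p ^ 3 = 1 := by
      rintro ⟨p, hp⟩
      obtain ⟨pN, ⟨pV, hpV, rfl⟩, rfl⟩ := hp
      apply Subtype.ext
      show (((pV : N) : G)) ^ 3 = 1
      by_cases hp1 : pV = 1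
      · simp [hp1]
      obtain ⟨k, hk⟩ := IsPGroup.iff_orderOf.1 T.isPGroup' ⟨pV, hpV⟩
      rw [Subgroup.orderOf_mk] at hk
      have h2 : ¬ 2 ∣ orderOf pV := by
        rw [hk]
        intro h2
        exact absurd (Nat.prime_two.dvd_of_dvd_pow h2) (by norm_num)
      rcases hords pV pV.2 (fun e => hp1 (Subtype.ext e)) with e | e | e | e <;>
        rw [Subgroup.orderOf_coe] at e
      · exact absurd (e ▸ dvd_rfl) h2
      · exact absurd (e ▸ (by norm_num : 2 ∣ 4)) h2
      · rw [← e, ← Subgroup.orderOf_coe, ← Subgroup.orderOf_coe, pow_orderOf_eq_one]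
      · exact absurd (e ▸ (by norm_num : 2 ∣ 6)) h2
    have hnc : ¬ IsCyclic ↥T' := by
      intro hcyc
      obtain ⟨g, hg⟩ := IsCyclic.exists_generator (α := ↥T')
      have := orderOf_eq_card_of_forall_mem_zpowers hg
      have h3 : orderOf g ≤ 3 := Nat.le_of_dvd (by norm_num) (orderOf_dvd_of_pow_eq_one (hexp g))
      omega
    obtain ⟨p, hp, hp1, hne⟩ := Grp.exists_centralizer_ne_bot T' C hnc
      (fun e => hz1 (Subgroup.mem_bot.1 (e ▸ (mem_centralizer_singleton_iff.2 rfl : z ∈ C)))) hT'N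
    obtain ⟨⟨w, hw⟩, hw1⟩ := (Subgroup.ne_bot_iff_exists_ne_one.1 hne)
    obtain ⟨pN, ⟨pV, hpV, rfl⟩, rfl⟩ := hp
    refine hp1 ?_
    have hmemC : ((pV : N) : G) ∈ C := by
      rw [← hCa w hw.1 (fun e => hw1 (Subtype.ext e))]
      exact mem_centralizer_singleton_iff.2 (mem_centralizer_singleton_iff.1 hw.2).symm
    exact congrArg Subtype.val (hVC (pV : N) pV.2 hmemC)
  -- conclusion
  have hV24 : Nat.card V ≤ 24 := by
    obtain ⟨c, hc⟩ := (P : Subgroup V).card_subgroup_dvd_card
    have hc2 : ¬ 2 ∣ c := fun h2 => P.not_dvd_index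
      (by rwa [show (P : Subgroup V).index = c from
        Nat.eq_of_mul_eq_mul_left Nat.card_pos ((Subgroup.card_mul_index _).trans hc)])
    have hc0 : c ≠ 0 := fun e => Nat.card_pos.ne' (by rw [hc, e, mul_zero])
    have hc3 : c = 3 ^ c.primeFactorsList.length := Nat.eq_prime_pow_of_unique_prime_dvd hc0 fun {s} hs hsd => by
      haveI : Fact s.Prime := ⟨hs⟩
      obtain ⟨v, hv⟩ := exists_prime_orderOf_dvd_card' s (hsd.trans (hc ▸ Dvd.intro_left _ rfl))
      have hv1 : (v : N) ≠ 1 := fun e => hs.one_lt.ne' (by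
        rw [← hv, show v = 1 from Subtype.ext e, orderOf_one])
      rcases hords v v.2 hv1 with e | e | e | e <;> rw [Subgroup.orderOf_coe, hv] at e <;> subst e
      · exact absurd hsd hc2
      · exact absurd hs (by norm_num)
      · rfl
      · exact absurd hs (by norm_num)
    rw [hc3] at hc
    have hd : 3 ^ c.primeFactorsList.length ≤ 3 := le_trans
      (Nat.le_of_dvd Nat.card_pos (T.pow_dvd_card_of_pow_dvd_card (hc ▸ Dvd.intro_left _ rfl))) hT3
    rw [hc]
    exact (Nat.mul_le_mul hP8 hd).trans (by norm_num)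
  omega

end Cfsg.Agent.Invol.ThreeTI
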