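import Cfsg.Agent.Lib.Invol.ThreeTI.Count

/-!
# An element of odd prime order commuting with an involution: the classes
-/

set_option autoImplicit false
set_option linter.style.haveILetI false
set_option linter.unusedSectionVars false

namespace Cfsg.Agent.Invol.ThreeTI

open Subgroup

universe u

variable {G : Type u} [Group G] [Finite G]

/-- Conjugate elements have equal orders. -/
theorem orderOf_eq_of_isConj {a b : G} (hab : IsConj a b) : orderOf a = orderOf b := by
  obtain ⟨c, rfl⟩ := isConj_iff.1 hab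
  rw [← MulAut.conj_apply, MulEquiv.orderOf_eq]

theorem conj_mul' (g a b : G) : g * (a * b) * g⁻¹ = g * a * g⁻¹ * (g * b * g⁻¹) := by group

/-- An abelian Sylow 2-subgroup of exponent two excludes exactly two classes of involutions. -/
theorem not_two_classes {H : Type u} [Group H] [Finite H] (T : Sylow 2 H)
    (hexp : ∀ x ∈ (T : Subgroup H), x ^ 2 = 1) (u v : H) (hu : u ∈ (T : Subgroup H))
    (hv : v ∈ (T : Subgroup H)) (hu1 : u ≠ 1) (hv1 : v ≠ 1) (huv : ¬ IsConj u v)
    (hall : ∀ w ∈ (T : Subgroup H), w ≠ 1 → IsConj u w ∨ IsConj v w) : False := by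
  classical
  haveI : Fact (Nat.Prime 2) := ⟨Nat.prime_two⟩
  have hab : ∀ a ∈ (T : Subgroup H), ∀ b ∈ (T : Subgroup H), a * b = b * a := by
    intro a ha b hb
    have hi : ∀ x ∈ (T : Subgroup H), x⁻¹ = x := fun x hx =>
      inv_eq_of_mul_eq_one_right (by rw [← pow_two, hexp x hx])
    calc a * b = (a * b)⁻¹ := (hi _ ((T : Subgroup H).mul_mem ha hb)).symm
      _ = b * a := by rw [mul_inv_rev, hi a ha, hi b hb]
  haveI : IsMulCommutative ↥(T : Subgroup H) := ⟨⟨fun a b => Subtype.ext (hab a a.2 b b.2)⟩⟩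
  set N := normalizer ((T : Subgroup H) : Set H) with hN
  have hTN : (T : Subgroup H) ≤ N := le_normalizer
  -- the classes in the normaliser
  have hcls : ∀ w (hw : w ∈ (T : Subgroup H)) (z : H) (hz : z ∈ (T : Subgroup H)), IsConj w z →
      IsConj (⟨w, hTN hw⟩ : N) ⟨z, hTN hz⟩ := by
    intro w hw z hz hc
    obtain ⟨g, hg⟩ := isConj_iff.1 hc
    obtain ⟨n, hn, e⟩ := T.conj_eq_normalizer_conj_of_mem w g⁻¹ hw (by rw [inv_inv, hg]; exact hz)
    rw [inv_inv, hg] at e
    refine isConj_iff.2 ⟨⟨n⁻¹, N.inv_mem hn⟩, Subtype.ext ?_⟩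
    simp [e]
  have hodd : ∀ w (hw : w ∈ (T : Subgroup H)), Odd (Nat.card ↥(ConjClasses.mk (⟨w, hTN hw⟩ : N)).carrier) := by
    intro w hw
    set TN := (T : Subgroup H).subgroupOf N
    have hle : TN ≤ centralizer ({(⟨w, hTN hw⟩ : N)} : Set N) := fun x hx =>
      mem_centralizer_singleton_iff.2 (Subtype.ext (hab x (mem_subgroupOf.1 hx) w hw))
    have hd : Nat.card ↥(ConjClasses.mk (⟨w, hTN hw⟩ : N)).carrier ∣ TN.index := by
      obtain ⟨c, hc⟩ := Subgroup.card_dvd_of_le hle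
      have e := card_carrier_mul (⟨w, hTN hw⟩ : N)
      rw [hc, ← TN.card_mul_index] at e
      refine ⟨c, Nat.eq_of_mul_eq_mul_left (Nat.card_pos (α := TN)) ?_⟩
      linarith
    have hTi : Odd TN.index := by
      have h2 : ¬ 2 ∣ (T : Subgroup H).index := T.not_dvd_index
      rw [Nat.odd_iff]
      by_contra hne
      exact h2 ((show 2 ∣ TN.index by omega).trans (Subgroup.relIndex_dvd_index_of_le hTN))
    exact hTi.of_dvd_nat hd
  set T' : Set N := {x | (x : H) ∈ (T : Subgroup H) ∧ x ≠ 1} with hT'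
  have hT'eq : T' = (ConjClasses.mk (⟨u, hTN hu⟩ : N)).carrier ∪ (ConjClasses.mk (⟨v, hTN hv⟩ : N)).carrier := by
    haveI : ((T : Subgroup H).subgroupOf N).Normal := Subgroup.normal_in_normalizer
    ext x
    simp only [hT', Set.mem_setOf_eq, Set.mem_union, ConjClasses.mem_carrier_iff_mk_eq,
      ConjClasses.mk_eq_mk_iff_isConj]
    constructor
    · rintro ⟨hx, hx1⟩
      rcases hall x hx (fun e => hx1 (Subtype.ext e)) with e | e
      · exact Or.inl (hcls u hu x hx e).symm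
      · exact Or.inr (hcls v hv x hx e).symm
    · intro hx
      rcases hx with e | e <;> obtain ⟨c, rfl⟩ := isConj_iff.1 e.symm
      · exact ⟨(mem_normalizer_iff.1 c.2 u).1 hu, fun e' => hu1 (congrArg Subtype.val (conj_eq_one_iff.1 e'))⟩
      · exact ⟨(mem_normalizer_iff.1 c.2 v).1 hv, fun e' => hv1 (congrArg Subtype.val (conj_eq_one_iff.1 e'))⟩
  have hdis : Disjoint (ConjClasses.mk (⟨u, hTN hu⟩ : N)).carrier (ConjClasses.mk (⟨v, hTN hv⟩ : N)).carrier := by
    rw [Set.disjoint_left]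
    intro x h1 h2
    rw [ConjClasses.mem_carrier_iff_mk_eq] at h1 h2
    exact huv (N.subtype.map_isConj (ConjClasses.mk_eq_mk_iff_isConj.1 (h1.symm.trans h2)))
  have hc : Nat.card ↥T' + 1 = Nat.card ↥(T : Subgroup H) := by
    let f : ↥T' ≃ {x : ↥(T : Subgroup H) // x ≠ 1} :=
      ⟨fun x => ⟨⟨x.1, x.2.1⟩, fun e => x.2.2 (Subtype.ext (congrArg Subtype.val e :))⟩,
       fun x => ⟨⟨x.1, hTN x.1.2⟩, x.1.2, fun e => x.2 (Subtype.ext (congrArg Subtype.val e :))⟩,
       fun _ => rfl, fun _ => rfl⟩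
    letI := Fintype.ofFinite ↥(T : Subgroup H)
    have hpos : 0 < Fintype.card ↥(T : Subgroup H) := Fintype.card_pos
    rw [Nat.card_congr f, Nat.card_eq_fintype_card, Fintype.card_subtype_compl, Fintype.card_subtype_eq,
      Nat.card_eq_fintype_card]
    omega
  have hcu : Nat.card ↥T' = Nat.card ↥(ConjClasses.mk (⟨u, hTN hu⟩ : N)).carrier +
      Nat.card ↥(ConjClasses.mk (⟨v, hTN hv⟩ : N)).carrier := by
    rw [hT'eq, Nat.card_coe_set_eq, Nat.card_coe_set_eq, Nat.card_coe_set_eq,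
      Set.ncard_union_eq hdis (Set.toFinite _) (Set.toFinite _)]
  have hev : Even (Nat.card ↥T') := hcu ▸ (hodd u hu).add_odd (hodd v hv)
  obtain ⟨n, hn⟩ := IsPGroup.iff_card.1 T.isPGroup'
  have hn0 : n ≠ 0 := fun e => hu1 (by
    rw [e, pow_zero] at hn
    exact Subgroup.mem_bot.1 (Subgroup.eq_bot_of_card_eq _ hn ▸ hu))
  rw [hn] at hc
  have h2n : Even (2 ^ n) := Nat.even_pow.2 ⟨even_two, hn0⟩
  rw [← hc] at h2n
  rw [Nat.even_add_one] at h2n
  exact h2n hev

variable [IsSimpleGroup G] {A : Fin 3 → Subgroup G}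

/-- An element `y` of odd prime order `r` commuting with the involution `t`. -/
structure YData (A : Fin 3 → Subgroup G) (r : ℕ) (y t : G) : Prop where
  hyp : Hyp A
  na : ¬ IsMulCommutative G
  prime : r.Prime
  ne_two : r ≠ 2
  oy : orderOf y = r
  ot : orderOf t = 2
  comm : t * y = y * t

variable {r : ℕ} {y t : G}

theorem YData.fact (d : YData A r y t) : Fact r.Prime := ⟨d.prime⟩

theorem YData.three_le (d : YData A r y t) : 3 ≤ r := by
  have := d.prime.two_le
  have := d.ne_two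
  omega

theorem YData.coprime_two (d : YData A r y t) : Nat.Coprime r 2 := by
  rw [d.prime.coprime_iff_not_dvd]
  intro hd
  exact d.ne_two ((Nat.prime_dvd_prime_iff_eq d.prime Nat.prime_two).1 hd)

theorem YData.out_y (d : YData A r y t) : Out A y := by
  refine ⟨fun e => d.prime.one_lt.ne' (by rw [← d.oy, e, orderOf_one]), ?_⟩
  exact Nat.Coprime.coprime_dvd_left (Subgroup.orderOf_dvd_natCard (centralizer ({t} : Set G))
    (mem_centralizer_singleton_iff.2 d.comm.symm)) (d.hyp.cent_coprime (d.hyp.out_of_two d.ot))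

/-- Elements commuting with an outside element are outside. -/
theorem YData.out_of_comm (d : YData A r y t) {g u : G} (hg : Out A g) (hu1 : u ≠ 1) (hu : u * g = g * u) :
    Out A u :=
  ⟨hu1, Nat.Coprime.coprime_dvd_left (Subgroup.orderOf_dvd_natCard _ (mem_centralizer_singleton_iff.2 hu))
    (d.hyp.cent_coprime hg)⟩

omit [Finite G] [IsSimpleGroup G] in
theorem ne_one_of_order {g : G} {n : ℕ} (hg : orderOf g = n) (hn : n ≠ 1) : g ≠ 1 := fun e =>
  hn (by rw [← hg, e, orderOf_one])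

omit [Finite G] [IsSimpleGroup G] in
theorem orderOf_mul_comm {a b : G} {m n : ℕ} (ha : orderOf a = m) (hb : orderOf b = n) (hc : b * a = a * b)
    (hmn : Nat.Coprime m n) : orderOf (a * b) = m * n := by
  rw [Commute.orderOf_mul_eq_mul_orderOf_of_coprime (show Commute a b from hc.symm) (ha ▸ hb ▸ hmn), ha, hb]

/-- Six elements with distinct orders. -/
theorem YData.six_orders (d : YData A r y t) (g : Fin 6 → G) (hg : ∀ k, Out A (g k))
    (hne : Function.Injective fun k => orderOf (g k)) : False :=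
  d.hyp.six d.hyp.oc_le_five g hg fun _ _ hkl hc => hkl.ne (hne (orderOf_eq_of_isConj hc))

theorem YData.exists_base (d : YData A r y t) :
    ∃ x : G, orderOf x = 4 ∧ Out A x ∧ Out A t ∧ Out A (y * t) ∧ orderOf (y * t) = 2 * r := by
  obtain ⟨x, hx⟩ := d.hyp.exists_four
  have ho : orderOf (y * t) = 2 * r := by
    rw [orderOf_mul_comm d.oy d.ot d.comm d.coprime_two, mul_comm]
  refine ⟨x, hx, d.hyp.out_of_two_pow (ne_one_of_order hx (by norm_num)) (k := 2) (by rw [hx]; rfl),
    d.hyp.out_of_two d.ot, ?_, ho⟩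
  refine d.out_of_comm d.out_y (ne_one_of_order ho (by have := d.three_le; omega)) ?_
  rw [mul_assoc, d.comm]

theorem injective_six {f : Fin 6 → ℕ} (h01 : f 0 ≠ f 1) (h02 : f 0 ≠ f 2) (h03 : f 0 ≠ f 3) (h04 : f 0 ≠ f 4)
    (h05 : f 0 ≠ f 5) (h12 : f 1 ≠ f 2) (h13 : f 1 ≠ f 3) (h14 : f 1 ≠ f 4) (h15 : f 1 ≠ f 5) (h23 : f 2 ≠ f 3)
    (h24 : f 2 ≠ f 4) (h25 : f 2 ≠ f 5) (h34 : f 3 ≠ f 4) (h35 : f 3 ≠ f 5) (h45 : f 4 ≠ f 5) :
    Function.Injective f := by
  intro a b e
  fin_cases a <;> fin_cases b <;> first | rfl | (simp only [Fin.mk_zero] at e; omega) | (simp_all)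

theorem YData.ne_four (d : YData A r y t) : r ≠ 4 ∧ 2 * r ≠ 4 := by
  have := d.three_le
  exact ⟨fun e => absurd (e ▸ d.prime) (by norm_num), by omega⟩

/-- The only odd prime dividing the order of the centraliser of an involution. -/
theorem YData.eq_r (d : YData A r y t) {t' z : G} {q : ℕ} (hq : q.Prime) (hq2 : q ≠ 2)
    (ht' : orderOf t' = 2) (hz : orderOf z = q) (hc : t' * z = z * t') : q = r := by
  by_contra hne
  obtain ⟨x, hx, hxo, hto, hyto, hyt⟩ := d.exists_base
  have h3 := d.three_le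
  have hz1 : z ≠ 1 := ne_one_of_order hz hq.one_lt.ne'
  have hzo : Out A z := d.out_of_comm (d.hyp.out_of_two ht') hz1 hc.symm
  have hzt : orderOf (z * t') = q * 2 := orderOf_mul_comm hz ht' hc
    (hq.coprime_iff_not_dvd.2 fun e => hq2 ((Nat.prime_dvd_prime_iff_eq hq Nat.prime_two).1 e))
  have hzto : Out A (z * t') :=
    d.out_of_comm hzo (ne_one_of_order hzt (by have := hq.two_le; omega)) (by rw [mul_assoc, hc])
  have h2r : r ≠ 2 * q ∧ q ≠ 2 * r := by
    constructor <;> intro e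
    · exact d.ne_two ((Nat.prime_dvd_prime_iff_eq Nat.prime_two d.prime).1 ⟨q, e⟩).symm
    · exact hq2 ((Nat.prime_dvd_prime_iff_eq Nat.prime_two hq).1 ⟨r, e⟩).symm
  have hq3 : 3 ≤ q := by have := hq.two_le; omega
  have hq4 : q ≠ 4 := fun e => absurd (e ▸ hq) (by norm_num)
  have hr4 := d.ne_four
  refine d.six_orders ![t, x, y, y * t, z, z * t'] (fun k => by fin_cases k <;> first | exact d.out_y | assumption) ?_
  refine injective_six ?_ ?_ ?_ ?_ ?_ ?_ ?_ ?_ ?_ ?_ ?_ ?_ ?_ ?_ ?_ <;>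
    · simp [d.ot, hx, d.oy, hyt, hz, hzt] <;> omega

/-- No element of order `r²` commutes with an involution. -/
theorem YData.no_sq (d : YData A r y t) {t' z : G} (ht' : orderOf t' = 2) (hc : t' * z = z * t') :
    orderOf z ≠ r ^ 2 := by
  intro hz
  obtain ⟨x, hx, hxo, hto, hyto, hyt⟩ := d.exists_base
  have h3 := d.three_le
  have hz1 : z ≠ 1 := ne_one_of_order hz (by rw [pow_two]; nlinarith)
  have hzo : Out A z := d.out_of_comm (d.hyp.out_of_two ht') hz1 hc.symm
  have hzt : orderOf (z * t') = r ^ 2 * 2 := orderOf_mul_comm hz ht' hc (d.coprime_two.pow_left 2)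
  have hzto : Out A (z * t') :=
    d.out_of_comm hzo (ne_one_of_order hzt (by omega)) (by rw [mul_assoc, hc])
  have hr4 := d.ne_four
  have h9 : 3 * r ≤ r ^ 2 := by rw [pow_two]; nlinarith
  refine d.six_orders ![t, x, y, y * t, z, z * t'] (fun k => by fin_cases k <;> first | exact d.out_y | assumption) ?_
  refine injective_six ?_ ?_ ?_ ?_ ?_ ?_ ?_ ?_ ?_ ?_ ?_ ?_ ?_ ?_ ?_ <;>
    · simp [d.ot, hx, d.oy, hyt, hz, hzt] <;> omega

/-- No element of order sixteen. -/
theorem YData.no_sixteen (d : YData A r y t) {g : G} : orderOf g ≠ 16 := by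
  intro hg
  obtain ⟨x, hx, hxo, hto, hyto, hyt⟩ := d.exists_base
  have h3 := d.three_le
  have hg8 : orderOf (g ^ 2) = 8 := by rw [orderOf_pow, hg]; rfl
  have hgo : Out A g := d.hyp.out_of_two_pow (ne_one_of_order hg (by norm_num)) (k := 4) (by rw [hg]; rfl)
  have hgo2 : Out A (g ^ 2) :=
    d.hyp.out_of_two_pow (ne_one_of_order hg8 (by norm_num)) (k := 3) (by rw [hg8]; rfl)
  have hr4 := d.ne_four
  have h8 : r ≠ 8 ∧ r ≠ 16 := ⟨fun e => absurd (e ▸ d.prime) (by norm_num), fun e => absurd (e ▸ d.prime) (by norm_num)⟩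
  refine d.six_orders ![t, x, y, y * t, g, g ^ 2] (fun k => by fin_cases k <;> first | exact d.out_y | assumption) ?_
  refine injective_six ?_ ?_ ?_ ?_ ?_ ?_ ?_ ?_ ?_ ?_ ?_ ?_ ?_ ?_ ?_ <;>
    · simp [d.ot, hx, d.oy, hyt, hg, hg8] <;> omega

/-- An odd prime dividing the order of an element commuting with `y` is `r`. -/
theorem YData.eq_r_of_comm_y (d : YData A r y t) {z : G} {q : ℕ} (hq : q.Prime) (hq2 : q ≠ 2)
    (hz : orderOf z = q) (hc : z * y = y * z) : q = r := by
  by_contra hne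
  obtain ⟨x, hx, hxo, hto, hyto, hyt⟩ := d.exists_base
  have h3 := d.three_le
  have hzo : Out A z := d.out_of_comm d.out_y (ne_one_of_order hz hq.one_lt.ne') hc
  have hzy : orderOf (y * z) = r * q := orderOf_mul_comm d.oy hz hc ((Nat.coprime_primes d.prime hq).2 (Ne.symm hne))
  have hzyo : Out A (y * z) :=
    d.out_of_comm d.out_y (ne_one_of_order hzy (by have := hq.two_le; nlinarith)) (by rw [mul_assoc, hc])
  have h2r : q ≠ 2 * r := fun e => hq2 ((Nat.prime_dvd_prime_iff_eq Nat.prime_two hq).1 ⟨r, e⟩).symm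
  have hq3 : 3 ≤ q := by have := hq.two_le; omega
  have hq4 : q ≠ 4 := fun e => absurd (e ▸ hq) (by norm_num)
  have h9 : 3 * r ≤ r * q := by nlinarith
  have h9' : 3 * q ≤ r * q := by nlinarith
  have hr4 := d.ne_four
  refine d.six_orders ![t, x, y, y * t, z, y * z] (fun k => by fin_cases k <;> first | exact d.out_y | assumption) ?_
  refine injective_six ?_ ?_ ?_ ?_ ?_ ?_ ?_ ?_ ?_ ?_ ?_ ?_ ?_ ?_ ?_ <;>
    · simp [d.ot, hx, d.oy, hyt, hz, hzy] <;> omega

/-- Conjugating a product of commuting elements of orders `r` and two conjugates both factors. -/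
theorem YData.split (d : YData A r y t) {a b a' b' g : G} (ha : orderOf a = r) (hb : orderOf b = 2)
    (hab : b * a = a * b) (ha' : orderOf a' = r) (hb' : orderOf b' = 2) (hab' : b' * a' = a' * b')
    (hg : g * (a * b) * g⁻¹ = a' * b') : g * a * g⁻¹ = a' ∧ g * b * g⁻¹ = b' := by
  have hp : ∀ {a b : G}, orderOf a = r → orderOf b = 2 → b * a = a * b →
      (a * b) ^ (r + 1) = a ∧ (a * b) ^ r = b := by
    intro a b ha hb hab
    have hc : Commute a b := hab.symm
    have har : a ^ r = 1 := ha ▸ pow_orderOf_eq_one a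
    obtain ⟨k, hk⟩ := d.prime.odd_of_ne_two d.ne_two
    have hb2 : b ^ 2 = 1 := hb ▸ pow_orderOf_eq_one b
    constructor
    · rw [hc.mul_pow, pow_succ, har, one_mul, show r + 1 = 2 * (k + 1) by omega, pow_mul, hb2, one_pow, mul_one]
    · rw [hc.mul_pow, har, one_mul, show r = 2 * k + 1 by omega, pow_succ, pow_mul, hb2, one_pow, one_mul]
  obtain ⟨e1, e2⟩ := hp ha hb hab
  obtain ⟨e1', e2'⟩ := hp ha' hb' hab'
  constructor
  · rw [← e1, ← conj_pow, hg, e1']
  · rw [← e2, ← conj_pow, hg, e2']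

/-- Pairs of commuting elements of orders `r` and two are conjugate. -/
theorem YData.pair_conj (d : YData A r y t) {y' t' : G} (hy' : orderOf y' = r) (ht' : orderOf t' = 2)
    (hc : t' * y' = y' * t') : ∃ g : G, g * y * g⁻¹ = y' ∧ g * t * g⁻¹ = t' := by
  suffices key : IsConj (y * t) (y' * t') by
    obtain ⟨g, hg⟩ := isConj_iff.1 key
    exact ⟨g, d.split d.oy d.ot d.comm hy' ht' hc hg⟩
  by_contra hnc
  obtain ⟨x, hx, hxo, hto, hyto, hyt⟩ := d.exists_base
  have h3 := d.three_le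
  have hr4 := d.ne_four
  have hy'o : Out A y' := d.out_of_comm (d.hyp.out_of_two ht') (ne_one_of_order hy' (by omega)) hc.symm
  have hyt' : orderOf (y' * t') = 2 * r := by rw [orderOf_mul_comm hy' ht' hc d.coprime_two, mul_comm]
  have hyt'o : Out A (y' * t') :=
    d.out_of_comm hy'o (ne_one_of_order hyt' (by omega)) (by rw [mul_assoc, hc])
  -- the two elements of order `r` are conjugate
  have hyy : IsConj y y' := by
    by_contra hyy
    refine d.hyp.six d.hyp.oc_le_five ![t, x, y, y', y * t, y' * t']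
      (fun k => by fin_cases k <;> first | exact d.out_y | assumption) ?_
    intro k l hkl hc'
    have ho := orderOf_eq_of_isConj hc'
    fin_cases k <;> fin_cases l <;> simp [d.ot, hx, d.oy, hy', hyt, hyt'] at hkl ho <;>
      first
        | omega
        | exact hyy hc'
        | exact hnc hc'
  obtain ⟨g, hg⟩ := isConj_iff.1 hyy
  -- reduce to the centraliser of `y`
  set t₁ := g⁻¹ * t' * g with ht₁
  have ht₁2 : orderOf t₁ = 2 := by
    rw [← ht', ht₁]
    exact orderOf_eq_of_isConj (isConj_iff.2 ⟨g, by group⟩)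
  have ht₁c : t₁ * y = y * t₁ := by
    rw [← hg] at hc
    rw [ht₁]
    calc g⁻¹ * t' * g * y = g⁻¹ * (t' * (g * y * g⁻¹)) * g := by group
      _ = g⁻¹ * (g * y * g⁻¹ * t') * g := by rw [hc]
      _ = _ := by group
  have hnc₁ : ¬ IsConj (y * t) (y * t₁) := fun h' => hnc (h'.trans (isConj_iff.2 ⟨g, by
    rw [ht₁, ← hg]; group⟩))
  have hyt₁ : orderOf (y * t₁) = 2 * r := by rw [orderOf_mul_comm d.oy ht₁2 ht₁c d.coprime_two, mul_comm]
  have hyt₁o : Out A (y * t₁) :=
    d.out_of_comm d.out_y (ne_one_of_order hyt₁ (by omega)) (by rw [mul_assoc, ht₁c])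
  set C := centralizer ({y} : Set G) with hC
  -- involutions of `C` fall into two classes of `C`
  have htC : t ∈ C := mem_centralizer_singleton_iff.2 d.comm
  have ht₁C : t₁ ∈ C := mem_centralizer_singleton_iff.2 ht₁c
  have hno4 : ∀ z ∈ C, orderOf z ≠ 4 := by
    intro z hzC hz
    have hzc := mem_centralizer_singleton_iff.1 hzC
    have hzy : orderOf (y * z) = r * 4 :=
      orderOf_mul_comm d.oy hz hzc (d.coprime_two.pow_right 2)
    have hzyo : Out A (y * z) :=
      d.out_of_comm d.out_y (ne_one_of_order hzy (by omega)) (by rw [mul_assoc, hzc])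
    refine d.hyp.six d.hyp.oc_le_five ![t, x, y, y * t, y * t₁, y * z]
      (fun k => by fin_cases k <;> first | exact d.out_y | assumption) ?_
    intro k l hkl hc'
    have ho := orderOf_eq_of_isConj hc'
    fin_cases k <;> fin_cases l <;> simp [d.ot, hx, d.oy, hyt, hyt₁, hzy] at hkl ho <;>
      first
        | omega
        | exact hnc₁ hc'
  haveI : Fact (Nat.Prime 2) := ⟨Nat.prime_two⟩
  have hz2 : IsPGroup 2 ↥(zpowers (⟨t, htC⟩ : C)) := IsPGroup.of_card (n := 1) (by
    rw [Nat.card_zpowers, Subgroup.orderOf_mk, d.ot, pow_one])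
  obtain ⟨T, hT⟩ := hz2.exists_le_sylow
  have htT : (⟨t, htC⟩ : C) ∈ (T : Subgroup C) := hT (mem_zpowers _)
  have hexp : ∀ z ∈ (T : Subgroup C), z ^ 2 = 1 := by
    intro z hz
    by_contra hz2
    obtain ⟨k, hk⟩ := T.isPGroup' ⟨z, hz⟩
    have hzk : orderOf (z : G) ∣ 2 ^ k := orderOf_dvd_of_pow_eq_one (by
      have := congrArg (fun w : (T : Subgroup C) => ((w : C) : G)) hk
      simpa using this)
    obtain ⟨j, -, hj⟩ := (Nat.dvd_prime_pow Nat.prime_two).1 hzk
    have hj2 : 2 ≤ j := by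
      by_contra hlt
      refine hz2 (Subtype.ext ?_)
      rw [Subgroup.coe_pow, Subgroup.coe_one]
      exact orderOf_dvd_iff_pow_eq_one.1 (hj ▸ (Nat.pow_dvd_pow 2 (show j ≤ 1 by omega)).trans (dvd_of_eq (pow_one 2)))
    refine hno4 _ (C.pow_mem z.2 (2 ^ (j - 2))) ?_
    rw [orderOf_pow, hj, Nat.gcd_eq_right (Nat.pow_dvd_pow 2 (by omega)),
      Nat.pow_div (by omega) (by omega), show j - (j - 2) = 2 by omega]
  have hz2' : IsPGroup 2 ↥(zpowers (⟨t₁, ht₁C⟩ : C)) := IsPGroup.of_card (n := 1) (by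
    rw [Nat.card_zpowers, Subgroup.orderOf_mk, ht₁2, pow_one])
  obtain ⟨T₁, hT₁⟩ := hz2'.exists_le_sylow
  obtain ⟨c, hcT⟩ := MulAction.exists_smul_eq C T₁ T
  set v : C := c * ⟨t₁, ht₁C⟩ * c⁻¹ with hv
  have hvT : v ∈ (T : Subgroup C) := by
    rw [← hcT]
    exact Subgroup.smul_mem_pointwise_smul _ (MulAut.conj c) (T₁ : Subgroup C) (hT₁ (mem_zpowers _))
  have hmk : ∀ (a b : C), IsConj a b → IsConj (y * (a : G)) (y * (b : G)) := by
    intro a b hab
    obtain ⟨k, hk⟩ := isConj_iff.1 hab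
    refine isConj_iff.2 ⟨(k : G), ?_⟩
    have e : (k : G) * y = y * k := mem_centralizer_singleton_iff.1 k.2
    rw [← hk, Subgroup.coe_mul, Subgroup.coe_mul, Subgroup.coe_inv, conj_mul', e, mul_inv_cancel_right]
  have hvy : IsConj (y * t₁) (y * (v : G)) := hmk ⟨t₁, ht₁C⟩ v (isConj_iff.2 ⟨c, rfl⟩)
  refine not_two_classes T hexp ⟨t, htC⟩ v htT hvT ?_ ?_ ?_ ?_
  · exact fun e => ne_one_of_order d.ot (by norm_num) (congrArg Subtype.val e)
  · intro e
    rw [hv, mul_inv_eq_one] at e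
    exact ne_one_of_order ht₁2 (by norm_num) (congrArg Subtype.val (mul_eq_left.1 e) :)
  · intro h'
    exact hnc₁ ((hmk _ _ h').trans hvy.symm)
  · intro w hwT hw1
    have hw2 : orderOf (w : G) = 2 := orderOf_eq_prime
      (by rw [← Subgroup.coe_pow, hexp w hwT, Subgroup.coe_one]) (fun e => hw1 (Subtype.ext e))
    have hwc : (w : G) * y = y * w := mem_centralizer_singleton_iff.1 w.2
    have hyw : orderOf (y * (w : G)) = 2 * r := by rw [orderOf_mul_comm d.oy hw2 hwc d.coprime_two, mul_comm]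
    have hywo : Out A (y * (w : G)) :=
      d.out_of_comm d.out_y (ne_one_of_order hyw (by omega)) (by rw [mul_assoc, hwc])
    have hback : ∀ {a : G} (ha : a ∈ C), orderOf a = 2 → IsConj (y * a) (y * (w : G)) →
        IsConj (⟨a, ha⟩ : C) w := by
      intro a ha ha2 hh
      obtain ⟨k, hk⟩ := isConj_iff.1 hh
      obtain ⟨k1, k2⟩ := d.split d.oy ha2 (mem_centralizer_singleton_iff.1 ha) d.oy hw2 hwc hk
      refine isConj_iff.2 ⟨⟨k, mem_centralizer_singleton_iff.2 (mul_inv_eq_iff_eq_mul.1 k1)⟩, Subtype.ext ?_⟩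
      simpa using k2
    by_contra hno
    push Not at hno
    refine d.hyp.six d.hyp.oc_le_five ![t, x, y, y * t, y * t₁, y * (w : G)]
      (fun k => by fin_cases k <;> first | exact d.out_y | assumption) ?_
    intro k l hkl hc'
    have ho := orderOf_eq_of_isConj hc'
    fin_cases k <;> fin_cases l <;> simp [d.ot, hx, d.oy, hyt, hyt₁, hyw] at hkl ho <;>
      first
        | omega
        | exact hnc₁ hc'
        | exact hno.1 (hback htC d.ot hc')
        | exact hno.2 ((isConj_iff.2 ⟨c, rfl⟩ : IsConj (⟨t₁, ht₁C⟩ : C) v).symm.trans (hback ht₁C ht₁2 hc'))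

theorem YData.conj_y (d : YData A r y t) {y' t' : G} (hy' : orderOf y' = r) (ht' : orderOf t' = 2)
    (hc : t' * y' = y' * t') : YData A r y' t' :=
  ⟨d.hyp, d.na, d.prime, d.ne_two, hy', ht', hc⟩

end Cfsg.Agent.Invol.ThreeTI
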