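import Cfsg.Agent.Lib.Invol.ThreeTI.CharExc
import Cfsg.Agent.S0840

/-!
# One class of involutions
-/

set_option autoImplicit false
set_option linter.style.haveILetI false
set_option linter.unusedSectionVars false

namespace Cfsg.Agent.Invol.ThreeTI

open Subgroup Cfsg Cfsg.Agent.Char Cfsg.Agent.Block
open scoped ComplexConjugate

universe u

variable {G : Type u} [Group G] [Finite G] [IsSimpleGroup G] {A : Fin 3 → Subgroup G}

theorem eq_trivialIrr (hG : ¬ IsMulCommutative G) {χ : IrrCharacter G} (h1 : (χ : G → ℂ) 1 = 1) :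
    χ = trivialIrr G := by
  obtain ⟨l, hl⟩ := linearHom_of_isCharacter (IsIrr.isCharacter χ.2) h1
  rcases (MonoidHom.normal_ker l).eq_bot_or_eq_top with e | e
  · have hinj := (MonoidHom.ker_eq_bot_iff l).1 e
    exact absurd ⟨⟨fun a b => hinj (by rw [map_mul, map_mul, mul_comm])⟩⟩ hG
  · refine Subtype.ext (funext fun g => ?_)
    have : l g = 1 := MonoidHom.mem_ker.1 (e ▸ Subgroup.mem_top g)
    rw [hl]
    simp only [this, Units.val_one]
    rfl

theorem eq_trivialIrr_of_eq_degree {χ : IrrCharacter G} {t : G} (ht : t ≠ 1)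
    (h1 : (χ : G → ℂ) t = (χ : G → ℂ) 1) : χ = trivialIrr G := by
  letI := Fintype.ofFinite G
  have hc := IsIrr.isCharacter χ.2
  rcases (charKer_normal hc).eq_bot_or_eq_top with e | e
  · exact absurd ((mem_charKer hc).2 h1) (by rw [e, Subgroup.mem_bot]; exact ht)
  · exact Subtype.ext (irr_const_eq_one χ.2 fun g => (mem_charKer hc).1 (e ▸ Subgroup.mem_top g))

variable (h : Hyp A)
include h

/-- Every element inverting `a ∈ A i` is conjugate to a given inverting involution. -/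
theorem Hyp.isConj_of_inverts {i : Fin 3} {a s u : G} (ha : a ∈ A i) (ha1 : a ≠ 1) (hs : orderOf s = 2)
    (hsN : ∀ b ∈ A i, s * b * s⁻¹ = b⁻¹) (hu : u * a * u⁻¹ = a⁻¹) : IsConj s u := by
  have hss : s⁻¹ = s := inv_eq_of_mul_eq_one_right (by rw [← pow_two, ← hs, pow_orderOf_eq_one])
  have hb : s * u ∈ A i := by
    refine h.mem_of_commute ha ha1 ?_
    have e : u * a = a⁻¹ * u := by rw [← hu]; group
    have e2 := hsN a ha
    calc s * u * a = s * (u * a) := by group
      _ = s * a⁻¹ * s⁻¹ * s * u := by rw [e]; group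
      _ = a * (s * u) := by
          rw [show s * a⁻¹ * s⁻¹ = a from by
            rw [show s * a⁻¹ * s⁻¹ = (s * a * s⁻¹)⁻¹ by group, e2, inv_inv]]
          group
  set b := s * u with hb'
  obtain ⟨k, hk⟩ := h.odd_card i
  have hc : b ^ (k + 1) ∈ A i := (A i).pow_mem hb _
  have hb2 : b ^ (k + 1) * b ^ (k + 1) = b := by
    have hp : b ^ Nat.card ↥(A i) = 1 := by
      have := congrArg Subtype.val (pow_card_eq_one' (x := (⟨b, hb⟩ : ↥(A i))))
      rwa [Subgroup.coe_pow, Subgroup.coe_one] at this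
    rw [← pow_add, show k + 1 + (k + 1) = Nat.card ↥(A i) + 1 by omega, pow_succ, hp, one_mul]
  refine isConj_iff.2 ⟨(b ^ (k + 1))⁻¹, ?_⟩
  have e3 := hsN _ ((A i).inv_mem hc)
  rw [inv_inv, hss] at e3
  calc (b ^ (k + 1))⁻¹ * s * (b ^ (k + 1))⁻¹⁻¹
      = s⁻¹ * (s * (b ^ (k + 1))⁻¹ * s) * b ^ (k + 1) := by group
    _ = s * b := by rw [e3, hss, mul_assoc, hb2]
    _ = u := by
        rw [hb', ← mul_assoc, ← pow_two, ← hs, pow_orderOf_eq_one, one_mul]

/-- There is one class of involutions. -/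
theorem Hyp.isConj_involutions (hG : ¬ IsMulCommutative G) {t t' : G} (ht : orderOf t = 2)
    (ht' : orderOf t' = 2) : IsConj t t' := by
  classical
  obtain ⟨s, hs, -, -, hsinv⟩ := h.exists_inverting 0
  suffices key : ∀ t : G, orderOf t = 2 → IsConj s t from (key t ht).symm.trans (key t' ht')
  clear ht ht' t t'
  intro t ht
  by_contra hns
  letI := Fintype.ofFinite G
  obtain ⟨E⟩ := h.exists_exc 0
  obtain ⟨a, ha, ha1⟩ := h.exists_ne_one 0
  have ht1 : t ≠ 1 := fun e => by rw [e, orderOf_one] at ht; omega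
  -- no pairs
  have hzero : ∑ χ : IrrCharacter G,
      (χ : G → ℂ) t * (χ : G → ℂ) t * conj ((χ : G → ℂ) a) / (χ : G → ℂ) 1 = 0 := by
    have e := Cfsg.Agent.S0840.result t t a
    have hempty : IsEmpty {p : G × G // IsConj t p.1 ∧ IsConj t p.2 ∧ p.1 * p.2 = a} := by
      refine ⟨fun ⟨⟨u, v⟩, hu, hv, huv⟩ => hns ?_⟩
      simp only at hu hv huv
      have hsq : ∀ w, IsConj t w → w⁻¹ = w := by
        intro w hw
        obtain ⟨c, rfl⟩ := isConj_iff.1 hw
        have : t⁻¹ = t := inv_eq_of_mul_eq_one_right (by rw [← pow_two, ← ht, pow_orderOf_eq_one])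
        rw [show (c * t * c⁻¹)⁻¹ = c * t⁻¹ * c⁻¹ by group, this]
      refine (h.isConj_of_inverts ha ha1 hs hsinv (u := u) ?_).trans hu.symm
      rw [← huv, mul_inv_rev, hsq u hu, hsq v hv]
      have : u * u = 1 := by
        have := mul_inv_cancel u
        rwa [hsq u hu] at this
      rw [← mul_assoc, this, one_mul]
    rw [Nat.card_of_isEmpty, Nat.cast_zero, finsum_eq_sum_of_fintype] at e
    have hne : (Nat.card {x : G // IsConj t x} : ℂ) ≠ 0 := by
      haveI : Nonempty {x : G // IsConj t x} := ⟨⟨t, IsConj.refl t⟩⟩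
      exact Nat.cast_ne_zero.2 Nat.card_pos.ne'
    have hG0 : (Nat.card G : ℂ) ≠ 0 := Nat.cast_ne_zero.2 Nat.card_pos.ne'
    rcases mul_eq_zero.1 e.symm with e' | e'
    · exact absurd e' (div_ne_zero (mul_ne_zero hne hne) hG0)
    · exact e'
  obtain ⟨θ, hθ⟩ : E.Ex.Nonempty := Finset.card_pos.1 (by rw [E.card_Ex]; have := h.two_le_mm 0; omega)
  have hoff : ∀ g : G, (g = 1 ∨ g = t) → ∀ χ ∈ E.Ex, (χ : G → ℂ) g = (θ : G → ℂ) g := by
    intro g hg χ hχ
    refine E.off χ hχ θ hθ g fun x b hb hb1 e => ?_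
    rcases hg with rfl | rfl
    · exact hb1 (by rw [← e, mul_one, mul_inv_cancel])
    · exact h.not_out (c := x) (e ▸ hb) (h.out_of_two ht)
  -- the column relations
  set T0 := Finset.univ.filter (fun χ : IrrCharacter G => χ ∉ E.Ex ∧ E.c χ ≠ 0) with hT0
  have hsplit : ∀ F : IrrCharacter G → ℂ,
      ∑ χ : IrrCharacter G, F χ * conj ((χ : G → ℂ) a) =
        ∑ χ ∈ T0, F χ * (E.c χ : ℂ) + ∑ χ ∈ E.Ex, F χ * conj ((χ : G → ℂ) a) := by
    intro F
    rw [← Finset.sum_filter_add_sum_filter_not Finset.univ (fun χ : IrrCharacter G => χ ∈ E.Ex),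
      Finset.filter_univ_mem, add_comm]
    congr 1
    refine (Finset.sum_subset_zero_on_sdiff (fun χ hχ => ?_) (fun χ hχ => ?_) fun χ hχ => ?_).symm
    · simp only [hT0, Finset.mem_filter] at hχ ⊢
      exact ⟨hχ.1, hχ.2.1⟩
    · simp only [hT0, Finset.mem_sdiff, Finset.mem_filter, Finset.mem_univ, true_and, not_and, not_not] at hχ
      rw [E.const χ hχ.1 a ha ha1, hχ.2 hχ.1]
      simp
    · simp only [hT0, Finset.mem_filter] at hχ
      rw [E.const χ hχ.2.1 a ha ha1, map_intCast]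
  have hrel : ∀ g : G, (g = 1 ∨ g = t) →
      ∑ χ ∈ T0, (χ : G → ℂ) g * (E.c χ : ℂ) + (θ : G → ℂ) g * (E.v : ℂ) = 0 := by
    intro g hg
    have hnc : ¬ IsConj g a := by
      intro hc
      obtain ⟨c, hc⟩ := isConj_iff.1 hc
      rcases hg with rfl | rfl
      · exact ha1 (by rw [← hc, mul_one, mul_inv_cancel])
      · exact h.not_out (c := c) (hc.symm ▸ ha) (h.out_of_two ht)
    have e := sum_irr_mul_conj g a
    rw [if_neg hnc, hsplit (fun χ => (χ : G → ℂ) g),
      Finset.sum_congr (s₁ := E.Ex) rfl (fun χ hχ => by rw [hoff g hg χ hχ]), ← Finset.mul_sum, ← map_sum,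
      E.sum_ex a ha ha1, map_intCast] at e
    exact e
  have h3 : ∑ χ ∈ T0, (χ : G → ℂ) t * (χ : G → ℂ) t / (χ : G → ℂ) 1 * (E.c χ : ℂ) +
      (θ : G → ℂ) t * (θ : G → ℂ) t / (θ : G → ℂ) 1 * (E.v : ℂ) = 0 := by
    have e : ∑ χ : IrrCharacter G,
        (χ : G → ℂ) t * (χ : G → ℂ) t / (χ : G → ℂ) 1 * conj ((χ : G → ℂ) a) = 0 :=
      (Finset.sum_congr rfl fun χ _ => by ring).trans hzero
    rw [
      hsplit (fun χ => (χ : G → ℂ) t * (χ : G → ℂ) t / (χ : G → ℂ) 1),
      Finset.sum_congr (s₁ := E.Ex) rfl (fun χ hχ => by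
        rw [hoff t (Or.inr rfl) χ hχ, hoff 1 (Or.inl rfl) χ hχ]),
      ← Finset.mul_sum, ← map_sum, E.sum_ex a ha ha1, map_intCast] at e
    exact e
  -- at most two constant characters
  have htr : trivialIrr G ∉ E.Ex := fun hm => by
    obtain ⟨x, -, y, -, -, -, hne⟩ := E.moving _ hm
    exact hne rfl
  have hc1 : E.c (trivialIrr G) = 1 := by
    have e := E.const _ htr a ha ha1
    have : ((trivialIrr G : IrrCharacter G) : G → ℂ) a = 1 := rfl
    rw [this] at e
    exact_mod_cast e.symm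
  have htT : trivialIrr G ∈ T0 := by simp [hT0, htr, hc1]
  have hsum2 : ∑ χ ∈ T0, E.c χ ^ 2 ≤ 2 := by
    refine (Finset.sum_le_sum_of_subset_of_nonneg (fun χ hχ => ?_) fun _ _ _ => sq_nonneg _).trans E.sq
    simp only [hT0, Finset.mem_filter] at hχ ⊢
    exact ⟨hχ.1, hχ.2.1⟩
  have hθ1 : (θ : G → ℂ) 1 ≠ 0 := IsIrr.one_ne_zero θ.2
  have htv : ∀ g : G, ((trivialIrr G : IrrCharacter G) : G → ℂ) g = 1 := fun _ => rfl
  have hsub : T0 = {trivialIrr G} ∨ ∃ Γ, Γ ≠ trivialIrr G ∧ E.c Γ ^ 2 = 1 ∧ T0 = {trivialIrr G, Γ} := by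
    rw [← Finset.add_sum_erase _ _ htT, hc1] at hsum2
    by_cases hem : T0.erase (trivialIrr G) = ∅
    · left
      rw [← Finset.insert_erase htT, hem]
      rfl
    · right
      obtain ⟨Γ, hΓ⟩ := Finset.nonempty_iff_ne_empty.2 hem
      have hpos : ∀ χ ∈ T0.erase (trivialIrr G), 1 ≤ E.c χ ^ 2 := by
        intro χ hχ
        have := Finset.mem_of_mem_erase hχ
        simp only [hT0, Finset.mem_filter] at this
        have := (sq_pos_iff (a := E.c χ)).2 this.2.2
        omega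
      have e1 := Finset.add_sum_erase _ (fun χ => E.c χ ^ 2) hΓ
      have e2 : 0 ≤ ∑ χ ∈ (T0.erase (trivialIrr G)).erase Γ, E.c χ ^ 2 :=
        Finset.sum_nonneg fun _ _ => sq_nonneg _
      have := hpos Γ hΓ
      refine ⟨Γ, (Finset.mem_erase.1 hΓ).1, by omega, ?_⟩
      have hem2 : (T0.erase (trivialIrr G)).erase Γ = ∅ := by
        by_contra hne
        obtain ⟨χ, hχ⟩ := Finset.nonempty_iff_ne_empty.2 hne
        have := Finset.single_le_sum (f := fun χ => E.c χ ^ 2) (fun _ _ => sq_nonneg _) hχ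
        have := hpos χ (Finset.mem_of_mem_erase hχ)
        omega
      rw [← Finset.insert_erase htT, ← Finset.insert_erase hΓ, hem2]
      rfl
  rcases hsub with e | ⟨Γ, hΓ1, hΓc, e⟩
  · have r1 := hrel 1 (Or.inl rfl)
    rw [e, Finset.sum_singleton, htv, hc1, Int.cast_one, mul_one] at r1
    obtain ⟨d, hd0, hd⟩ := IsIrr.one_eq_pos θ.2
    rw [hd] at r1
    have r2 : (1 : ℤ) + d * E.v = 0 := by exact_mod_cast r1
    have hd1 : (d : ℤ) = 1 := Int.eq_one_of_dvd_one (by omega) ⟨-E.v, by linarith⟩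
    have hθt : θ = trivialIrr G := eq_trivialIrr hG (by rw [hd]; exact_mod_cast hd1)
    exact htr (hθt ▸ hθ)
  · rw [e] at hrel h3
    rw [Finset.sum_pair hΓ1.symm, htv, htv, hc1, Int.cast_one] at h3
    have r1 := hrel 1 (Or.inl rfl)
    have r2 := hrel t (Or.inr rfl)
    rw [Finset.sum_pair hΓ1.symm, htv, hc1, Int.cast_one] at r1 r2
    have hΓ0 : (Γ : G → ℂ) 1 ≠ 0 := IsIrr.one_ne_zero Γ.2
    have hcc : (E.c Γ : ℂ) * (E.c Γ : ℂ) = 1 := by exact_mod_cast (by rw [← pow_two]; exact hΓc)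
    set g := (Γ : G → ℂ) 1 with hg
    set T := (Γ : G → ℂ) t with hT
    set d := (θ : G → ℂ) 1 with hd
    set w := (θ : G → ℂ) t with hw
    set c := (E.c Γ : ℂ) with hc
    set v := (E.v : ℂ) with hv
    have e3 : (1 + T * T / g * c + w * w / d * v) * (g * d) = 0 := by
      rw [show (1 : ℂ) + T * T / g * c + w * w / d * v = 0 by linear_combination h3]
      ring
    have e4 : g * d + T * T * c * d + w * w * v * g = 0 := by
      rw [← e3]
      field_simp
    have e5 : c * (T - g) ^ 2 = 0 := by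
      linear_combination (-v) * e4 + (g + T * T * c) * r1 + (w * v * g - g - g * T * c) * r2 +
        (g * T ^ 2 - g * T * T) * hcc
    rcases mul_eq_zero.1 e5 with e6 | e6
    · rw [e6, mul_zero] at hcc
      exact zero_ne_one hcc
    · exact hΓ1 (eq_trivialIrr_of_eq_degree ht1 (sub_eq_zero.1 ((pow_eq_zero_iff two_ne_zero).1 e6)))

end Cfsg.Agent.Invol.ThreeTI
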